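import Cfsg.Agent.StemCert.SplitData
import Cfsg.Prelude.Def_KGroupFacts

/-!
Soundness of `SplitData`.
-/

set_option autoImplicit false

namespace Cfsg.Agent.StemCert

open Cfsg.Agent.Compute
open scoped commutatorElement

theorem commutator_mul_central {H : Type*} [Group H] (a b : H) {z w : H}
    (hz : z ∈ Subgroup.center H) (hw : w ∈ Subgroup.center H) : ⁅a * z, b * w⁆ = ⁅a, b⁆ := by
  have hz' := Subgroup.mem_center_iff.mp hz
  have hw' := Subgroup.mem_center_iff.mp hw
  simp only [commutatorElement_def, mul_inv_rev]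
  calc a * z * (b * w) * (z⁻¹ * a⁻¹) * (w⁻¹ * b⁻¹)
      = a * (z * b) * (w * (z⁻¹ * a⁻¹)) * (w⁻¹ * b⁻¹) := by group
    _ = a * (b * z) * ((z⁻¹ * a⁻¹) * w) * (w⁻¹ * b⁻¹) := by rw [← hz' b, ← hw' (z⁻¹ * a⁻¹)]
    _ = a * b * a⁻¹ * b⁻¹ := by group

section Retraction

universe u

/-- A perfect subgroup with trivial multiplier splits off in any stem extension. -/
theorem exists_retraction {G : Type u} [Group G] {H : Subgroup G}
    (hperf : commutator H = ⊤) (hmult : Cfsg.HasCyclicSchurMultiplier H 1)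
    {Γ : Type u} [Group Γ] [Finite Γ] (σ : Γ →* G) (hσ : Cfsg.IsStemExtension σ) :
    ∃ ρ : H.comap σ →* σ.ker, ∀ (z : Γ) (hz : z ∈ σ.ker) (hzP : z ∈ H.comap σ),
      ρ ⟨z, hzP⟩ = ⟨z, hz⟩ := by
  obtain ⟨hsurj, hker, -⟩ := hσ
  let P := H.comap σ
  let f : P →* H := (σ.comp P.subtype).codRestrict H fun p => p.2
  have hfs : Function.Surjective f := fun h => by
    obtain ⟨x, hx⟩ := hsurj h
    exact ⟨⟨x, by rw [Subgroup.mem_comap, hx]; exact h.2⟩, Subtype.ext hx⟩
  have hfker : ∀ p : P, f p = 1 → (p : Γ) ∈ Subgroup.center Γ := fun p hp =>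
    hker (MonoidHom.mem_ker.mpr (congrArg Subtype.val hp))
  let P' := commutator P
  have hmap : P'.map f = ⊤ := by
    rw [show P' = ⁅(⊤ : Subgroup P), ⊤⁆ from commutator_def P, Subgroup.map_commutator,
      Subgroup.map_top_of_surjective f hfs, ← commutator_def, hperf]
  have hdec : ∀ p : P, ∃ q ∈ P', q⁻¹ * p ∈ f.ker := fun p => by
    obtain ⟨q, hq, hqp⟩ := Subgroup.mem_map.mp (hmap ▸ Subgroup.mem_top (f p) : f p ∈ P'.map f)
    exact ⟨q, hq, by rw [MonoidHom.mem_ker, map_mul, map_inv, hqp, inv_mul_cancel]⟩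
  have hcen : ∀ c : P, c ∈ f.ker → ∀ x : P, x * c = c * x := fun c hc x =>
    Subtype.ext (Subgroup.mem_center_iff.mp (hfker c hc) x)
  -- every commutator of `P` is a commutator of `P'`
  have hperf' : P' ≤ ⁅P', P'⁆ := by
    rw [show P' = ⁅(⊤ : Subgroup P), ⊤⁆ from commutator_def P, Subgroup.commutator_le]
    intro a _ b _
    obtain ⟨qa, hqa, hca⟩ := hdec a
    obtain ⟨qb, hqb, hcb⟩ := hdec b
    have h : ∀ (qa ca qb cb : P), ca ∈ f.ker → cb ∈ f.ker → ⁅qa * ca, qb * cb⁆ = ⁅qa, qb⁆ :=
      fun qa ca qb cb ha hb => commutator_mul_central qa qb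
        (Subgroup.mem_center_iff.mpr (hcen ca ha)) (Subgroup.mem_center_iff.mpr (hcen cb hb))
    rw [show a = qa * (qa⁻¹ * a) by group, show b = qb * (qb⁻¹ * b) by group,
      h _ _ _ _ hca hcb]
    exact Subgroup.commutator_mem_commutator hqa hqb
  let τ : P' →* H := f.comp P'.subtype
  have hτ : Cfsg.IsStemExtension τ := by
    refine ⟨fun h => ?_, fun x hx => ?_, fun x _ => ?_⟩
    · obtain ⟨q, hq, hqh⟩ := Subgroup.mem_map.mp (hmap ▸ Subgroup.mem_top h : h ∈ P'.map f)
      exact ⟨⟨q, hq⟩, hqh⟩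
    · exact Subgroup.mem_center_iff.mpr fun y => Subtype.ext (hcen x hx y)
    · have : (x : P) ∈ (commutator P').map P'.subtype := by
        rw [commutator_def P', Subgroup.map_commutator, ← MonoidHom.range_eq_map, Subgroup.range_subtype]
        exact hperf' x.2
      obtain ⟨y, hy, hyx⟩ := Subgroup.mem_map.mp this
      rwa [show y = x from Subtype.ext hyx] at hy
  obtain ⟨π, hπ⟩ := hmult.2 P' τ hτ
  have hinj : Function.Injective τ := by
    rw [← MonoidHom.ker_eq_bot_iff, Subgroup.eq_bot_iff_forall]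
    intro x hx
    obtain ⟨a, ha⟩ := hπ ⟨x, hx⟩
    rw [Subsingleton.elim a 1, map_one] at ha
    exact (congrArg Subtype.val ha).symm
  let e : P' ≃* H := MulEquiv.ofBijective τ ⟨hinj, hτ.1⟩
  let sec : H →* P := P'.subtype.comp e.symm.toMonoidHom
  have hsec : ∀ h, f (sec h) = h := fun h => e.apply_symm_apply h
  have hq : ∀ p : P, p * (sec (f p))⁻¹ ∈ f.ker := fun p => by
    rw [MonoidHom.mem_ker, map_mul, map_inv, hsec, mul_inv_cancel]
  refine ⟨MonoidHom.mk' (fun p => ⟨((p * (sec (f p))⁻¹ : P) : Γ),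
    MonoidHom.mem_ker.mpr (congrArg Subtype.val (MonoidHom.mem_ker.mp (hq p)))⟩)
    (fun p q => Subtype.ext ((congrArg Subtype.val (show p * q * (sec (f (p * q)))⁻¹ =
      p * (sec (f p))⁻¹ * (q * (sec (f q))⁻¹) from ?_)).trans (Subgroup.coe_mul _ _ _))),
    fun z hz hzP => ?_⟩
  · rw [map_mul, map_mul, mul_inv_rev]
    calc p * q * ((sec (f q))⁻¹ * (sec (f p))⁻¹)
        = p * ((q * (sec (f q))⁻¹) * (sec (f p))⁻¹) := by group
      _ = p * ((sec (f p))⁻¹ * (q * (sec (f q))⁻¹)) := by rw [hcen _ (hq q)]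
      _ = p * (sec (f p))⁻¹ * (q * (sec (f q))⁻¹) := by group
  · apply Subtype.ext
    show ((⟨z, hzP⟩ * (sec (f ⟨z, hzP⟩))⁻¹ : P) : Γ) = z
    rw [show f ⟨z, hzP⟩ = 1 from Subtype.ext (MonoidHom.mem_ker.mp hz), map_one, inv_one, mul_one]

end Retraction

section Value

variable {A : Type*} [CommGroup A] (B : ℕ → A) (dim : ℕ)

/-- The value of a packed vector. -/
def pval (p : ℕ) : A := ∏ i ∈ Finset.range dim, B i ^ pfld i p

theorem pval_add {p q : ℕ} (h : ∀ t, pfld t p + pfld t q < fieldMod) :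
    pval B dim (p + q) = pval B dim p * pval B dim q := by
  simp only [pval, ← Finset.prod_mul_distrib, ← pow_add]
  exact Finset.prod_congr rfl fun i _ => by rw [pfld_add i p q h]

theorem pval_mul {c p : ℕ} (h : ∀ t, c * pfld t p < fieldMod) :
    pval B dim (c * p) = pval B dim p ^ c := by
  simp only [pval, ← Finset.prod_pow, ← pow_mul]
  exact Finset.prod_congr rfl fun i _ => by rw [pfld_mul i c p h, mul_comm c]

theorem pval_zero : pval B dim 0 = 1 := by simp [pval, pfld_zero]

theorem pval_punit {k : ℕ} (hk : k < dim) : pval B dim (punit k) = B k := by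
  simp only [pval, pfld_punit]
  rw [Finset.prod_eq_single k (fun i _ hi => by rw [if_neg hi, pow_zero])
    (fun h => absurd (Finset.mem_range.mpr hk) h), if_pos rfl, pow_one]

/-- The value of a term list. -/
def tval (l : List (ℕ × ℕ)) : A := (l.map fun t => B t.2 ^ t.1).prod

theorem tval_nil : tval B [] = 1 := rfl

theorem tval_cons (t : ℕ × ℕ) (l : List (ℕ × ℕ)) : tval B (t :: l) = B t.2 ^ t.1 * tval B l :=
  rfl

theorem tval_append (a b : List (ℕ × ℕ)) : tval B (a ++ b) = tval B a * tval B b := by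
  simp [tval]

theorem packT_spec : ∀ (l : List (ℕ × ℕ)), (∀ t ∈ l, t.2 < dim) → coefSum l < fieldMod →
    (∀ i, pfld i (packT l) ≤ coefSum l) ∧ pval B dim (packT l) = tval B l
  | [], _, _ =>
    ⟨fun i => by simp [packT, pfld_zero], by simp [packT, pval_zero, tval]⟩
  | t :: l, hlt, hs => by
    have hs' : t.1 + coefSum l < fieldMod := hs
    obtain ⟨hb, hv⟩ := packT_spec l (fun x hx => hlt x (by simp [hx])) (by omega)
    have hu : ∀ i, t.1 * pfld i (punit t.2) ≤ t.1 := fun i => by
      rw [pfld_punit]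
      split <;> simp
    have hmul : ∀ i, t.1 * pfld i (punit t.2) < fieldMod := fun i =>
      lt_of_le_of_lt (hu i) (by omega)
    have hadd : ∀ i, pfld i (t.1 * punit t.2) + pfld i (packT l) < fieldMod := fun i => by
      rw [pfld_mul i _ _ hmul]
      exact lt_of_le_of_lt (Nat.add_le_add (hu i) (hb i)) hs'
    refine ⟨fun i => ?_, ?_⟩
    · show pfld i (t.1 * punit t.2 + packT l) ≤ t.1 + coefSum l
      rw [pfld_add i _ _ hadd, pfld_mul i _ _ hmul]
      exact Nat.add_le_add (hu i) (hb i)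
    · show pval B dim (t.1 * punit t.2 + packT l) = _
      rw [pval_add B dim hadd, pval_mul B dim hmul, pval_punit B dim (hlt t (by simp)), hv,
        tval_cons]

theorem pval_congr {N p q : ℕ} (hB : ∀ i, B i ^ N = 1)
    (h : ∀ i, (N : ℤ) ∣ (pfld i p : ℤ) - (pfld i q : ℤ)) : pval B dim p = pval B dim q :=
  Finset.prod_congr rfl fun i _ => pow_eq_pow_of_modEq (Nat.modEq_iff_dvd.mpr (by
    have := (h i).neg_right
    rwa [neg_sub] at this)) (hB i)

end Value

section Main

universe u

variable (S : SplitData) {G : Type u} [Group G] {H : Subgroup G}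

variable {S}

theorem exists_kernel_generator (hS : S.Valid) (ι : G →* Equiv.Perm (Fin S.n)) (hι : Function.Injective ι)
    (g : ℕ → G) (hc : Coded (w := S.w) (k := S.k) ι g S.codes)
    (hgen : Subgroup.closure (g '' {s | s < S.k}) = ⊤)
    (hH : ∀ x : G, (∀ p : Fin S.n, (p : ℕ) = S.i0 → ι x p = p) → x ∈ H)
    (hperf : commutator H = ⊤) (hmult : Cfsg.HasCyclicSchurMultiplier H 1)
    {Γ : Type u} [Group Γ] [Finite Γ] (σ : Γ →* G) (hσ : Cfsg.IsStemExtension σ) :
    ∃ u : Γ, u ^ S.ord = 1 ∧ σ.ker ≤ Subgroup.zpowers u := by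
  classical
  obtain ⟨ρ, hρ⟩ := exists_retraction hperf hmult σ hσ
  obtain ⟨hsurj, hker, hcm⟩ := hσ
  have hshape := hS.shape
  simp only [SplitData.shapeOK, Bool.and_eq_true, Nat.blt_eq, Nat.beq_eq, allBelow_eq_true] at hshape
  obtain ⟨⟨⟨⟨⟨⟨⟨hi0, -⟩, hbd⟩, hnb⟩, hwords⟩, hinv⟩, hrels⟩, hcomms⟩ := hshape
  replace hnb : S.n < 1048576 := hnb
  replace hbd : S.packs.length * (S.n * 1048576) < 4611686018427387904 := hbd
  let p0 : Fin S.n := ⟨S.i0, hi0⟩
  -- lifts
  let l0 : ℕ → Γ := fun s => Function.surjInv hsurj (g s)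
  have hl0 : ∀ s, σ (l0 s) = g s := fun s => Function.surjInv_eq hsurj _
  have hext : ∀ x : G, (∀ p, ι x p = p) → x = 1 := fun x hx =>
    hι (Equiv.ext fun p => by rw [map_one, Equiv.Perm.one_apply]; exact hx p)
  have hpre : ∀ s < S.k, ∀ y : Fin S.n, (((ι (g s))⁻¹ y : Fin S.n) : ℕ) = S.pre s y := by
    intro s hs y
    obtain ⟨x, rfl⟩ := (ι (g s)).surjective y
    rw [show (ι (g s))⁻¹ ((ι (g s)) x) = x from (ι (g s)).symm_apply_apply x]
    have hx := hinv s hs x x.2
    rw [SplitData.img, ← hc s hs x] at hx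
    exact hx.symm
  -- commutator products
  have hcl : ∀ (l : List (ℕ × ℕ)), (∀ p ∈ l, p.1 < S.k ∧ p.2 < S.k) → ∀ x : Fin S.n,
      (ι (commProd g l) x : ℕ) = S.cimg l x := by
    intro l
    induction l with
    | nil => intro _ x; simp [commProd, SplitData.cimg]
    | cons p l ih =>
      intro hl x
      obtain ⟨ha, hb⟩ := hl p (by simp)
      rw [show commProd g (p :: l) = ⁅g p.1, g p.2⁆ * commProd g l from rfl, commutatorElement_def]
      simp only [map_mul, map_inv, Equiv.Perm.mul_apply]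
      rw [hc _ ha, hc _ hb, hpre _ ha, hpre _ hb, ih fun q hq => hl q (by simp [hq])]
      rfl
  have hpairs : ∀ s < S.k, ∀ p ∈ S.comms.getD s [], p.1 < S.k ∧ p.2 < S.k := fun s hs p hp => by
    have := allB_spec (hcomms s hs).1 p hp
    simpa [Bool.and_eq_true, Nat.blt_eq] using this
  have hgs : ∀ s < S.k, g s = commProd g (S.comms.getD s []) := fun s hs => hι (Equiv.ext fun x =>
    Fin.ext (by rw [hc s hs x, hcl _ (hpairs s hs) x]; exact (hcomms s hs).2 x x.2))
  let l : ℕ → Γ := fun s => if s < S.k then commProd l0 (S.comms.getD s []) else l0 s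
  have map_commProd : ∀ (f : ℕ → Γ) (L : List (ℕ × ℕ)),
      σ (commProd f L) = commProd (σ ∘ f) L := fun f L => by
    simp [commProd, map_list_prod, List.map_map, Function.comp_def, map_commutatorElement]
  have hl : ∀ s, σ (l s) = g s := fun s => by
    by_cases hs : s < S.k
    · rw [show l s = commProd l0 (S.comms.getD s []) from if_pos hs, map_commProd,
        show σ ∘ l0 = g from funext hl0, ← hgs s hs]
    · rw [show l s = l0 s from if_neg hs, hl0]
  have hlcomm : ∀ s < S.k, l s = commProd l (S.comms.getD s []) := fun s hs => by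
    rw [show l s = commProd l0 (S.comms.getD s []) from if_pos hs]
    refine congrArg List.prod (List.map_congr_left fun p _ => ?_)
    have hd : ∀ t, ∃ z ∈ Subgroup.center Γ, l t = l0 t * z := fun t =>
      ⟨(l0 t)⁻¹ * l t, hker (by simp [MonoidHom.mem_ker, hl, hl0]), by group⟩
    obtain ⟨z, hz, hz'⟩ := hd p.1
    obtain ⟨w, hw, hw'⟩ := hd p.2
    have hzc := Subgroup.mem_center_iff.mp hz
    have hwc := Subgroup.mem_center_iff.mp hw
    rw [hz', hw', commutator_mul_central (l0 p.1) (l0 p.2) hz hw]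
  -- the cocycle
  let act : Γ → Fin S.n → Fin S.n := fun e j => ι (σ e) j
  let T : Fin S.n → Γ := fun j => evalW l (S.words.getD j [])
  have hT : ∀ j, ι (σ (T j)) p0 = j := fun j => Fin.ext (by
    have hw := hwords j j.2
    rw [map_evalW, show σ ∘ l = g from funext hl,
      appW_spec hc _ (fun s hs => by simpa [Nat.blt_eq] using allB_spec hw.1 s hs) p0]
    exact hw.2)
  have hmem : ∀ (e : Γ) (j : Fin S.n), (T (act e j))⁻¹ * e * T j ∈ H.comap σ := fun e j => by
    rw [Subgroup.mem_comap]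
    refine hH _ fun p hp => ?_
    rw [show p = p0 from Fin.ext hp]
    simp only [map_mul, map_inv, Equiv.Perm.mul_apply, hT]
    rw [Equiv.Perm.inv_eq_iff_eq, hT]
  letI : CommGroup σ.ker :=
    { (inferInstance : Group σ.ker) with
      mul_comm := fun a b => Subtype.ext (Subgroup.mem_center_iff.mp (hker b.2) a) }
  let f : Γ → Fin S.n → σ.ker := fun e j => ρ ⟨_, hmem e j⟩
  have hfmul : ∀ e e' j, f (e * e') j = f e (act e' j) * f e' j := fun e e' j => by
    simp only [f, ← map_mul]
    congr 1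
    apply Subtype.ext
    show (T (act (e * e') j))⁻¹ * (e * e') * T j = _
    rw [show act (e * e') j = act e (act e' j) by simp [act]]
    simp only [Subgroup.coe_mul, mul_assoc, mul_inv_cancel_left]
  have hfker : ∀ (z : Γ) (hz : z ∈ σ.ker) j, f z j = ⟨z, hz⟩ := fun z hz j => by
    have hz' : σ z = 1 := MonoidHom.mem_ker.mp hz
    have he : (T (act z j))⁻¹ * z * T j = z := by
      rw [show act z j = j by simp [act, hz'], mul_assoc,
        ← Subgroup.mem_center_iff.mp (hker hz) (T j), inv_mul_cancel_left]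
    exact (congrArg ρ (Subtype.ext he)).trans (hρ z hz (by simp [Subgroup.mem_comap, hz']))
  have hf1 : ∀ j, f 1 j = 1 := fun j => hfker 1 (one_mem _) j
  -- the exponent of the kernel
  let τ : Γ →* σ.ker := MonoidHom.mk' (fun e => ∏ j, f e j) (fun e e' => by
    simp only [hfmul, Finset.prod_mul_distrib]
    congr 1
    exact Equiv.prod_comp (ι (σ e')) (f e))
  have hexp : ∀ z : σ.ker, z ^ S.n = 1 := fun z => by
    have h1 : τ z = z ^ S.n := by simp [τ, hfker _ z.2]
    rw [← h1]
    exact (Abelianization.commutator_subset_ker τ) (hcm z.2)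
  let B : ℕ → σ.ker := fun i =>
    if h : i % S.n < S.n then f (l (i / S.n)) ⟨i % S.n, h⟩ else 1
  have hB : ∀ s (j : Fin S.n), B (S.idx s j) = f (l s) j := fun s j => by
    have hn : 0 < S.n := Fin.pos j
    have h1 : S.idx s j % S.n = j := by
      show (s * S.n + j) % S.n = _
      rw [Nat.mul_add_mod_of_lt j.2]
    have h2 : S.idx s j / S.n = s := by
      show (s * S.n + j) / S.n = _
      rw [mul_comm, Nat.mul_add_div hn, Nat.div_eq_of_lt j.2, add_zero]
    simp only [B, dif_pos (Nat.mod_lt _ hn), h2]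
    exact congrArg _ (Fin.ext h1)
  have hpath : ∀ (wd : List ℕ), (∀ s ∈ wd, s < S.k) → ∀ x : Fin S.n,
      f (evalW l wd) x = tval B (S.path wd x) := by
    intro wd
    induction wd with
    | nil => intro _ x; simp [evalW, hf1, tval, SplitData.path]
    | cons s wd ih =>
      intro hs x
      have hrest : ∀ t ∈ wd, t < S.k := fun t ht => hs t (by simp [ht])
      rw [evalW_cons, hfmul, ih hrest, show S.path (s :: wd) x =
        (1, S.idx s (appW S.w S.codes wd x)) :: S.path wd x from rfl, tval_cons, pow_one, ← hB]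
      congr 2
      simp only [act]
      rw [map_evalW, show σ ∘ l = g from funext hl, appW_spec hc wd hrest]
  have hneg1 : ∀ z : σ.ker, z ^ (S.n - 1) = z⁻¹ := fun z => by
    rw [eq_inv_iff_mul_eq_one, ← pow_succ, Nat.sub_add_cancel (Nat.one_le_of_lt hi0), hexp]
  have hinvf : ∀ e j, f e⁻¹ j = (f e (act e⁻¹ j))⁻¹ := fun e j => by
    rw [eq_inv_iff_mul_eq_one, mul_comm, ← hfmul, mul_inv_cancel, hf1]
  have hcpath : ∀ (L : List (ℕ × ℕ)), (∀ p ∈ L, p.1 < S.k ∧ p.2 < S.k) → ∀ x : Fin S.n,
      f (commProd l L) x = tval B (S.cpath L x) := by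
    intro L
    induction L with
    | nil => intro _ x; simp [commProd, hf1, tval, SplitData.cpath]
    | cons p L ih =>
      intro hL x
      obtain ⟨ha, hb⟩ := hL p (by simp)
      have hrest : ∀ q ∈ L, q.1 < S.k ∧ q.2 < S.k := fun q hq => hL q (by simp [hq])
      have hy : ((act (commProd l L) x : Fin S.n) : ℕ) = S.cimg L x := by
        simp only [act]
        rw [map_commProd, show σ ∘ l = g from funext hl, hcl L hrest]
      rw [show commProd l (p :: L) = ⁅l p.1, l p.2⁆ * commProd l L from rfl, hfmul, ih hrest,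
        commutatorElement_def, hfmul, hfmul, hfmul, hinvf, hinvf]
      generalize hY : act (commProd l L) x = Y at hy
      have e1 : ((act (l p.2)⁻¹ Y : Fin S.n) : ℕ) = S.pre p.2 (S.cimg L x) := by
        simp only [act, map_inv, hl]; rw [hpre _ hb, hy]
      have e2 : ((act (l p.1)⁻¹ (act (l p.2)⁻¹ Y) : Fin S.n) : ℕ) =
          S.pre p.1 (S.pre p.2 (S.cimg L x)) := by
        rw [← e1]; simp only [act, map_inv, hl]; rw [hpre _ ha]
      have e3 : ((act (l p.2) (act (l p.1)⁻¹ (act (l p.2)⁻¹ Y)) : Fin S.n) : ℕ) =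
          S.img p.2 (S.pre p.1 (S.pre p.2 (S.cimg L x))) := by
        rw [← e2]; simp only [act, hl]; rw [hc _ hb]; rfl
      rw [show S.cpath (p :: L) x =
        (1, S.idx p.1 (S.img p.2 (S.pre p.1 (S.pre p.2 (S.cimg L x))))) ::
        (1, S.idx p.2 (S.pre p.1 (S.pre p.2 (S.cimg L x)))) ::
        (S.n - 1, S.idx p.1 (S.pre p.1 (S.pre p.2 (S.cimg L x)))) ::
        (S.n - 1, S.idx p.2 (S.pre p.2 (S.cimg L x))) :: S.cpath L x from rfl]
      simp only [tval_cons, pow_one, hneg1]
      rw [← e3, ← e2, ← e1]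
      simp only [hB, mul_assoc]
  have hneg : ∀ L : List (ℕ × ℕ), tval B (S.neg L) = (tval B L)⁻¹ := by
    intro L
    induction L with
    | nil => simp [tval, SplitData.neg]
    | cons t L ih =>
      rw [show S.neg (t :: L) = ((S.n - 1) * t.1, t.2) :: S.neg L from rfl]
      simp only [tval_cons, mul_inv_rev]
      rw [ih, mul_comm (S.n - 1), pow_mul, hneg1, mul_comm]
  -- the equations hold
  have heq : ∀ e, S.side e = true → tval B (S.terms e) = 1 := by
    rintro ⟨tag, a, j⟩ h
    simp only [SplitData.side, Bool.and_eq_true, Nat.blt_eq] at h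
    obtain ⟨hj, h⟩ := h
    let J : Fin S.n := ⟨j, hj⟩
    simp only [SplitData.terms]
    cases h0 : Nat.beq tag 0 with
    | true =>
      simp only [h0, cond_true, Bool.and_eq_true, Nat.blt_eq] at h ⊢
      have hw := natsEq_eq h.2
      have himg : ((act (l a) J : Fin S.n) : ℕ) = S.img a j := by
        simp only [act, hl]; rw [hc _ h.1]; rfl
      rw [tval_cons, tval_nil, mul_one, pow_one]
      show B (S.idx a (J : ℕ)) = 1
      rw [hB]
      have he : (T (act (l a) J))⁻¹ * l a * T J = 1 := by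
        simp only [T, himg, ← hw, evalW_cons]
        exact (congrArg (· * _) rfl).trans (by rw [mul_assoc, inv_mul_cancel])
      exact (congrArg ρ (Subtype.ext he)).trans (map_one ρ)
    | false =>
      cases h1 : Nat.beq tag 1 with
      | true =>
        simp only [h0, h1, cond_false, cond_true, Nat.blt_eq] at h ⊢
        have hr := allB_spec hrels (S.rels.getD a [])
          (by rw [List.getD_eq_getElem _ _ h]; exact List.getElem_mem h)
        simp only [Bool.and_eq_true, allBelow_eq_true, Nat.beq_eq] at hr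
        have hlt : ∀ s ∈ S.rels.getD a [], s < S.k := fun s hs => by
          simpa [Nat.blt_eq] using allB_spec hr.1 s hs
        have hz : evalW l (S.rels.getD a []) ∈ σ.ker := by
          rw [MonoidHom.mem_ker, map_evalW, show σ ∘ l = g from funext hl]
          exact hext _ fun p => Fin.ext (by rw [appW_spec hc _ hlt p]; exact hr.2 p p.2)
        rw [tval_append, hneg]
        show tval B (S.path _ (J : ℕ)) * (tval B (S.path _ (p0 : ℕ)))⁻¹ = 1
        rw [← hpath _ hlt, ← hpath _ hlt, hfker _ hz, hfker _ hz, mul_inv_cancel]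
      | false =>
        simp only [h0, h1, cond_false, Nat.blt_eq] at h ⊢
        rw [tval_cons, pow_one, hneg]
        show B (S.idx a (J : ℕ)) * (tval B (S.cpath _ (J : ℕ)))⁻¹ = 1
        rw [hB, ← hcpath _ (hpairs a h), ← hlcomm a h, mul_inv_cancel]
  have hBexp : ∀ i, B i ^ S.n = 1 := fun i => hexp _
  have hmix : ∀ (ds : List ℕ) (es : List (ℕ × ℕ × ℕ)) (PS : List ℕ),
      allB (fun d => Nat.ble d S.n) ds = true → S.eqsOK es PS = true →
      PS.length * (S.n * 1048576) < fieldMod →
      (∀ i, pfld i (pmix ds PS) ≤ PS.length * (S.n * 1048576)) ∧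
        pval B (S.k * S.n) (pmix ds PS) = 1 := by
    intro ds
    induction ds with
    | nil => exact fun _ _ _ _ _ => ⟨fun i => by simp [pmix, pfld_zero], pval_zero B _⟩
    | cons d ds ih =>
      intro es PS hd he hb
      match es, PS, he with
      | _, [], _ => exact ⟨fun i => by simp [pmix, pfld_zero], pval_zero B _⟩
      | [], _ :: _, he => exact absurd he (by simp [SplitData.eqsOK])
      | e :: es, P :: PS, he =>
        have he' : (S.eqOK e P && S.eqsOK es PS) = true := he
        have hd' : (Nat.ble d S.n && allB (fun d => Nat.ble d S.n) ds) = true := hd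
        simp only [SplitData.eqOK, Bool.and_eq_true, Nat.beq_eq, Nat.ble_eq] at he' hd'
        obtain ⟨⟨⟨⟨hside, hidx⟩, hsum⟩, hP⟩, he'⟩ := he'
        simp only [List.length_cons, Nat.succ_mul] at hb ⊢
        obtain ⟨hb1, hv1⟩ := packT_spec B (S.k * S.n) (S.terms e)
          (fun t ht => by simpa [Nat.blt_eq] using allB_spec hidx t ht)
          (show coefSum (S.terms e) < 18446744073709551616 by omega)
        rw [hP] at hb1 hv1
        obtain ⟨hb2, hv2⟩ := ih es PS hd'.2 he' (by omega)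
        have hdP : ∀ i, d * pfld i P ≤ S.n * 1048576 := fun i =>
          Nat.mul_le_mul hd'.1 ((hb1 i).trans hsum)
        have hmul : ∀ i, d * pfld i P < fieldMod := fun i => lt_of_le_of_lt (hdP i) (by omega)
        have hadd : ∀ i, pfld i (d * P) + pfld i (pmix ds PS) < fieldMod := fun i => by
          rw [pfld_mul i d P hmul]
          have := hdP i
          have := hb2 i
          omega
        refine ⟨fun i => ?_, ?_⟩
        · show pfld i (d * P + pmix ds PS) ≤ _
          rw [pfld_add i _ _ hadd, pfld_mul i d P hmul]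
          have := hdP i
          have := hb2 i
          omega
        · show pval B _ (d * P + pmix ds PS) = 1
          rw [pval_add B _ hadd, pval_mul B _ hmul, hv1, hv2, heq e hside, one_pow, one_mul]
  have hbd' : S.packs.length * (S.n * 1048576) < fieldMod :=
    show _ < 18446744073709551616 by omega
  let u : σ.ker := B S.piv
  have hordc := hS.order
  simp only [SplitData.ordOK, Bool.and_eq_true, Bool.or_eq_true, Nat.blt_eq, Nat.beq_eq] at hordc
  obtain ⟨hpiv, hordc⟩ := hordc
  replace hpiv : S.piv < S.k * S.n := hpiv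
  have hvar : ∀ v < S.k * S.n, B v = u ^ S.cvs.getD v 0 := fun v hv => by
    have h := allBelow_eq_true.mp hS.vars v hv
    simp only [SplitData.varOK, Bool.and_eq_true, Nat.ble_eq] at h
    obtain ⟨⟨h1, hc⟩, h2⟩ := h
    generalize hcv : S.cvs.getD v 0 = c at hc h2 ⊢
    have hmix1 := (hmix _ _ _ h1 hS.eqs hbd').2
    rw [pval_congr B _ hBexp (fun i => peq_spec h2 i)] at hmix1
    have hu1 : ∀ i, pfld i (punit v) ≤ 1 := fun i => by rw [pfld_punit]; split <;> simp
    have hu2 : ∀ i, (S.n - c) * pfld i (punit S.piv) ≤ S.n := fun i => by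
      rw [pfld_punit]
      split <;> simp
    have hmul : ∀ i, (S.n - c) * pfld i (punit S.piv) < fieldMod := fun i =>
      lt_of_le_of_lt (hu2 i) (show S.n < 18446744073709551616 by omega)
    change pval B (S.k * S.n) (punit v + (S.n - c) * punit S.piv) = 1 at hmix1
    rw [pval_add B _ (fun i => by
        rw [pfld_mul i _ _ hmul]
        exact lt_of_le_of_lt (Nat.add_le_add (hu1 i) (hu2 i))
          (show 1 + S.n < 18446744073709551616 by omega)),
      pval_mul B _ hmul, pval_punit B _ hv, pval_punit B _ hpiv] at hmix1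
    rw [mul_eq_one_iff_eq_inv] at hmix1
    rw [hmix1, inv_eq_iff_mul_eq_one, ← pow_add, Nat.sub_add_cancel hc, hBexp]
  have hord : u ^ S.ord = 1 := by
    rcases hordc with ⟨hnil, h1⟩ | ⟨⟨h1, h2⟩, h3⟩
    · have hcv : S.cvs = [] := by
        cases hc : S.cvs with
        | nil => rfl
        | cons a l => rw [hc] at hnil; exact absurd hnil (by simp)
      have := hvar _ hpiv
      rw [hcv, List.getD_nil, pow_zero] at this
      rw [h1, pow_one]
      exact this
    · have hmix1 := (hmix _ _ _ h1 hS.eqs hbd').2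
      have hu2 : ∀ i, S.ord * pfld i (punit S.piv) ≤ S.n := fun i => by
        rw [pfld_punit]
        split <;> simp [Nat.le_of_ble_eq_true h2]
      rw [pval_congr B _ hBexp (fun i => peq_spec h3 i)] at hmix1
      change pval B (S.k * S.n) (S.ord * punit S.piv) = 1 at hmix1
      rw [pval_mul B _ (fun i =>
        lt_of_le_of_lt (hu2 i) (show S.n < 18446744073709551616 by
          have := Nat.le_of_ble_eq_true h2
          omega)), pval_punit B _ hpiv] at hmix1
      exact hmix1
  -- conclusion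
  let L : Subgroup Γ :=
    { carrier := {e | ∀ j, f e j ∈ Subgroup.zpowers u}
      one_mem' := fun j => by rw [hf1]; exact one_mem _
      mul_mem' := fun {a b} ha hb j => by rw [hfmul]; exact mul_mem (ha _) (hb j)
      inv_mem' := fun {a} ha j => by rw [hinvf]; exact inv_mem (ha _) }
  have hlL : ∀ s < S.k, l s ∈ L := fun s hs j => by
    rw [← hB, hvar _ (by
      show s * S.n + j < S.k * S.n
      have := j.2
      nlinarith [Nat.mul_le_mul_right S.n (Nat.succ_le_of_lt hs)])]
    exact pow_mem (Subgroup.mem_zpowers u) _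
  have hcover : ∀ e : Γ, ∃ x ∈ L, x⁻¹ * e ∈ σ.ker := fun e => by
    have hle : Subgroup.closure (g '' {s | s < S.k}) ≤ L.map σ :=
      (Subgroup.closure_le _).mpr (by rintro _ ⟨s, hs, rfl⟩; exact ⟨l s, hlL s hs, hl s⟩)
    obtain ⟨x, hx, hxe⟩ := Subgroup.mem_map.mp (hle (hgen ▸ Subgroup.mem_top (σ e)))
    exact ⟨x, hx, by simp [MonoidHom.mem_ker, hxe]⟩
  have hcle : commutator Γ ≤ L := by
    rw [commutator_def, Subgroup.commutator_le]
    intro a _ b _
    obtain ⟨x, hx, hxa⟩ := hcover a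
    obtain ⟨y, hy, hyb⟩ := hcover b
    have e : ⁅a, b⁆ = ⁅x, y⁆ := by
      conv_lhs => rw [show a = x * (x⁻¹ * a) by group, show b = y * (y⁻¹ * b) by group]
      exact commutator_mul_central x y (hker hxa) (hker hyb)
    rw [e, commutatorElement_def]
    exact mul_mem (mul_mem (mul_mem hx hy) (inv_mem hx)) (inv_mem hy)
  refine ⟨u, (Subgroup.coe_pow _ _ _).symm.trans (congrArg Subtype.val hord), fun z hz => ?_⟩
  have h := hcle (hcm hz) p0
  rw [hfker z hz] at h
  obtain ⟨m, hm⟩ := h
  exact ⟨m, (Subgroup.coe_zpow _ _ _).symm.trans (congrArg Subtype.val hm)⟩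

theorem kernel_trivial (hS : S.Valid) (hord : S.ord = 1) (ι : G →* Equiv.Perm (Fin S.n))
    (hι : Function.Injective ι) (g : ℕ → G) (hc : Coded (w := S.w) (k := S.k) ι g S.codes)
    (hgen : Subgroup.closure (g '' {s | s < S.k}) = ⊤)
    (hH : ∀ x : G, (∀ p : Fin S.n, (p : ℕ) = S.i0 → ι x p = p) → x ∈ H)
    (hperf : commutator H = ⊤) (hmult : Cfsg.HasCyclicSchurMultiplier H 1)
    {Γ : Type u} [Group Γ] [Finite Γ] (σ : Γ →* G) (hσ : Cfsg.IsStemExtension σ) :
    σ.ker = ⊥ := by
  obtain ⟨u, hu, hle⟩ := exists_kernel_generator hS ι hι g hc hgen hH hperf hmult σ hσ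
  rw [hord, pow_one] at hu
  rwa [hu, Subgroup.zpowers_one_eq_bot, le_bot_iff] at hle

theorem trivial_multiplier_of_split (hS : S.Valid) (hord : S.ord = 1) [Finite G] (ι : G →* Equiv.Perm (Fin S.n))
    (hι : Function.Injective ι) (g : ℕ → G) (hc : Coded (w := S.w) (k := S.k) ι g S.codes)
    (hgen : Subgroup.closure (g '' {s | s < S.k}) = ⊤)
    (hH : ∀ x : G, (∀ p : Fin S.n, (p : ℕ) = S.i0 → ι x p = p) → x ∈ H)
    (hperf : commutator H = ⊤) (hmult : Cfsg.HasCyclicSchurMultiplier H 1) :
    Cfsg.HasCyclicSchurMultiplier G 1 := by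
  have hid : (MonoidHom.id G).ker = ⊥ := MonoidHom.ker_eq_bot_iff _ |>.mpr Function.injective_id
  refine ⟨⟨G, inferInstance, inferInstance, MonoidHom.id G,
    ⟨Function.surjective_id, hid ▸ bot_le, hid ▸ bot_le⟩, ?_⟩, fun Γ _ _ σ hσ => ?_⟩
  · have : Subsingleton (MonoidHom.id G).ker := by rw [hid]; infer_instance
    have : Unique (MonoidHom.id G).ker := uniqueOfSubsingleton 1
    exact ⟨MulEquiv.ofUnique⟩
  · have hb := kernel_trivial hS hord ι hι g hc hgen hH hperf hmult σ hσ
    refine ⟨1, fun z => ⟨1, Subtype.ext ?_⟩⟩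
    have h1 : (z : Γ) = 1 := Subgroup.mem_bot.mp ((SetLike.ext_iff.mp hb _).mp z.2)
    rw [h1, MonoidHom.one_apply]
    rfl

end Main

end Cfsg.Agent.StemCert
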