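import Cfsg.Agent.StemCert.Perm

/-!
Generation from the number of normal forms.
-/

set_option autoImplicit false

namespace Cfsg.Agent.StemCert

open Cfsg.Agent.Compute

/-- The transversal words of a level send the base point to distinct points. -/
noncomputable def distinctB (w : ℕ) (cs : List ℕ) : List Lv → List ℕ → Bool :=
  fun Ls => List.rec (motive := fun _ => List ℕ → Bool) (fun _ => true)
    (fun L rest rec bs => List.rec (motive := fun _ => Bool) false
      (fun b bs' _ => fixBelow w cs rest b &&
        allBelow L.size (fun j =>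
          allBelow j (fun j' => !Nat.beq (appW w cs (L.word j) b) (appW w cs (L.word j') b))) &&
        rec bs') bs) Ls

/-- The number of normal forms. -/
def numForms : List Lv → ℕ
  | [] => 1
  | L :: Ls => L.size * numForms Ls

/-- The normal forms, as a finite set. -/
def forms : List Lv → Finset (List ℕ)
  | [] => {[]}
  | L :: Ls => (Finset.range L.size ×ˢ forms Ls).image fun p => p.1 :: p.2

theorem valid_of_mem_forms : ∀ {Ls : List Lv} {x : List ℕ}, x ∈ forms Ls → Valid Ls x
  | [], x, h => by simpa [forms, Valid] using h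
  | L :: Ls, x, h => by
    simp only [forms, Finset.mem_image, Finset.mem_product, Finset.mem_range] at h
    obtain ⟨⟨j, r⟩, ⟨hj, hr⟩, rfl⟩ := h
    exact ⟨j, r, rfl, hj, valid_of_mem_forms hr⟩

theorem card_forms : ∀ Ls : List Lv, (forms Ls).card = numForms Ls
  | [] => rfl
  | L :: Ls => by
    rw [forms, Finset.card_image_of_injective _ (fun p q h => by
      simp only [List.cons.injEq] at h
      exact Prod.ext h.1 h.2), Finset.card_product, Finset.card_range, card_forms Ls]
    rfl

variable {n w k : ℕ} {G : Type*} [Group G] {ι : G →* Equiv.Perm (Fin n)} {g : ℕ → G} {cs : List ℕ}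

theorem nf_injective_of_check (hc : Coded (w := w) (k := k) ι g cs) :
    ∀ {Ls : List Lv} {bs : List ℕ}, wfB Ls = true → gensBelow k Ls = true →
      (∀ b ∈ bs, b < n) → distinctB w cs Ls bs = true →
      ∀ x y, Valid Ls x → Valid Ls y → nf g Lv.word Ls x = nf g Lv.word Ls y → x = y
  | [], _, _, _, _, _ => fun x y hx hy _ => hx.trans hy.symm
  | _ :: _, [], _, _, _, h => by simp [distinctB] at h
  | L :: Ls, b :: bs, hw, hg, hlt, h => by
    obtain ⟨-, -, hword, -, hw'⟩ := wfB_cons hw
    have hg' : (allB (fun s => Nat.blt s k) L.gens && gensBelow k Ls) = true := hg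
    have h' : (fixBelow w cs Ls b &&
      allBelow L.size (fun j =>
        allBelow j (fun j' => !Nat.beq (appW w cs (L.word j) b) (appW w cs (L.word j') b))) &&
      distinctB w cs Ls bs) = true := h
    simp only [Bool.and_eq_true] at hg' h'
    rintro x y ⟨j, r, rfl, hj, hr⟩ ⟨j', r', rfl, hj', hr'⟩ he
    simp only [nf, List.headD_cons, List.tail_cons] at he
    have hbn : b < n := hlt b (by simp)
    have hlet : ∀ i < L.size, ∀ t ∈ L.word i, t < k := fun i hi t ht =>
      gens_lt hg (by simp) (hword i hi t ht)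
    have hpt : appW w cs (L.word j) b = appW w cs (L.word j') b := by
      have := congrArg (fun σ => (ι σ ⟨b, hbn⟩ : ℕ)) he
      simpa [nf_fix hc (b := ⟨b, hbn⟩) hw' hg'.2 h'.1.1 hr,
        nf_fix hc (b := ⟨b, hbn⟩) hw' hg'.2 h'.1.1 hr', appW_spec hc _ (hlet j hj),
        appW_spec hc _ (hlet j' hj')] using this
    have hjj : j = j' := by
      rcases Nat.lt_trichotomy j j' with hlt' | heq | hgt
      · have := allBelow_eq_true.mp (allBelow_eq_true.mp h'.1.2 j' hj') j hlt'
        rw [hpt] at this
        simp at this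
      · exact heq
      · have := allBelow_eq_true.mp (allBelow_eq_true.mp h'.1.2 j hj) j' hgt
        rw [hpt] at this
        simp at this
    subst hjj
    rw [nf_injective_of_check hc hw' hg'.2 (fun c hc' => hlt c (List.mem_cons_of_mem _ hc')) h'.2
      r r' hr hr' (mul_left_cancel he)]

theorem nf_mem_closure {k : ℕ} {g : ℕ → G} :
    ∀ {Ls : List Lv} {x : List ℕ}, wfB Ls = true → gensBelow k Ls = true → Valid Ls x →
      nf g Lv.word Ls x ∈ Submonoid.closure (g '' {s | s < k})
  | [], _, _, _, _ => one_mem _
  | L :: Ls, x, hw, hg, hx => by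
    obtain ⟨j, r, rfl, hj, hr⟩ := hx
    obtain ⟨-, -, hword, -, hw'⟩ := wfB_cons hw
    have hg' : (allB (fun s => Nat.blt s k) L.gens && gensBelow k Ls) = true := hg
    rw [Bool.and_eq_true] at hg'
    simp only [nf, List.headD_cons, List.tail_cons]
    refine mul_mem (list_prod_mem fun y hy => ?_) (nf_mem_closure hw' hg'.2 hr)
    obtain ⟨s, hs, rfl⟩ := List.mem_map.mp hy
    exact Submonoid.subset_closure ⟨s, gens_lt hg (List.mem_cons_self ..) (hword j hj s hs), rfl⟩

/-- The generators generate when there are as many normal forms as elements. -/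
theorem generates_of_card [Finite G] {Ls : List Lv} {bs : List ℕ}
    (hc : Coded (w := w) (k := k) ι g cs) (hw : wfB Ls = true) (hg : gensBelow k Ls = true)
    (hlt : ∀ b ∈ bs, b < n) (h : distinctB w cs Ls bs = true) (hcard : numForms Ls = Nat.card G) :
    ∀ x : G, x ∈ Submonoid.closure (g '' {s | s < k}) := by
  classical
  have hinj := nf_injective_of_check hc hw hg hlt h
  let f : forms Ls → G := fun x => nf g Lv.word Ls x.1
  have hf : Function.Injective f := fun x y e =>
    Subtype.ext (hinj _ _ (valid_of_mem_forms x.2) (valid_of_mem_forms y.2) e)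
  have hb : Function.Bijective f := (Nat.bijective_iff_injective_and_card f).mpr
    ⟨hf, by simp [card_forms, hcard]⟩
  intro x
  obtain ⟨y, rfl⟩ := hb.2 x
  exact nf_mem_closure hw hg (valid_of_mem_forms y.2)

/-- Faithfulness from distinctness. -/
theorem faithful_of_distinct {Ls : List Lv} {bs : List ℕ} (hc : Coded (w := w) (k := k) ι g cs)
    (hw : wfB Ls = true) (hg : gensBelow k Ls = true) (hlt : ∀ b ∈ bs, b < n)
    (h : distinctB w cs Ls bs = true) : Faithful g Ls := fun x hx he =>
  nf_injective_of_check hc hw hg hlt h x _ hx (valid_zero hw) (he.trans (nf_zero g hw).symm)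

theorem eq_zero_of_fix (hc : Coded (w := w) (k := k) ι g cs) :
    ∀ {Ls : List Lv} {bs : List ℕ}, wfB Ls = true → gensBelow k Ls = true →
      (∀ b ∈ bs, b < n) → distinctB w cs Ls bs = true → ∀ x, Valid Ls x →
      (∀ p : Fin n, (p : ℕ) ∈ bs → ι (nf g Lv.word Ls x) p = p) →
      x = List.replicate Ls.length 0
  | [], _, _, _, _, _ => fun x hx _ => hx
  | _ :: _, [], _, _, _, h => by simp [distinctB] at h
  | L :: Ls, b :: bs, hw, hg, hlt, h => by
    obtain ⟨hpos, hw0, hword, -, hw'⟩ := wfB_cons hw
    have hg' : (allB (fun s => Nat.blt s k) L.gens && gensBelow k Ls) = true := hg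
    have h' : (fixBelow w cs Ls b &&
      allBelow L.size (fun j =>
        allBelow j (fun j' => !Nat.beq (appW w cs (L.word j) b) (appW w cs (L.word j') b))) &&
      distinctB w cs Ls bs) = true := h
    simp only [Bool.and_eq_true] at hg' h'
    rintro x ⟨j, r, rfl, hj, hr⟩ hfix
    simp only [nf, List.headD_cons, List.tail_cons] at hfix
    have hbn : b < n := hlt b (by simp)
    have hj0 : j = 0 := by
      by_contra hne
      have hh := allBelow_eq_true.mp (allBelow_eq_true.mp h'.1.2 j hj) 0 (Nat.pos_of_ne_zero hne)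
      have he := hfix ⟨b, hbn⟩ (by simp)
      rw [map_mul, Equiv.Perm.mul_apply, nf_fix hc (b := ⟨b, hbn⟩) hw' hg'.2 h'.1.1 hr] at he
      have hv := appW_spec hc (L.word j)
        (fun t ht => gens_lt hg (by simp) (hword j hj t ht)) ⟨b, hbn⟩
      rw [he] at hv
      rw [hw0] at hh
      rw [← hv] at hh
      simp [appW] at hh
    subst hj0
    rw [eq_zero_of_fix hc hw' hg'.2 (fun c hc' => hlt c (List.mem_cons_of_mem _ hc')) h'.2 r hr
      fun p hp => ?_]
    · rfl
    · have := hfix p (List.mem_cons_of_mem _ hp)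
      rwa [hw0, show evalW g [] = 1 from rfl, one_mul] at this

/-- The listed points form a base when there are as many normal forms as elements. -/
theorem isBase_of_card [Finite G] {Ls : List Lv} {bs : List ℕ}
    (hc : Coded (w := w) (k := k) ι g cs) (hw : wfB Ls = true) (hg : gensBelow k Ls = true)
    (hlt : ∀ b ∈ bs, b < n) (h : distinctB w cs Ls bs = true) (hcard : numForms Ls = Nat.card G) :
    IsBase ι bs := by
  classical
  refine ⟨hlt, fun σ hσ => ?_⟩
  have hinj := nf_injective_of_check hc hw hg hlt h
  let f : forms Ls → G := fun x => nf g Lv.word Ls x.1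
  have hb : Function.Bijective f := (Nat.bijective_iff_injective_and_card f).mpr
    ⟨fun x y e => Subtype.ext (hinj _ _ (valid_of_mem_forms x.2) (valid_of_mem_forms y.2) e),
      by simp [card_forms, hcard]⟩
  obtain ⟨⟨y, hy⟩, rfl⟩ := hb.2 σ
  have hy0 := eq_zero_of_fix hc hw hg hlt h y (valid_of_mem_forms hy) fun p hp => hσ p hp
  show nf g Lv.word Ls y = 1
  rw [hy0, nf_zero g hw]

end Cfsg.Agent.StemCert
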