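import Cfsg.Agent.StemCert.Packed

/-!
Checks of certificate entries that the kernel evaluates with shared intermediate results: normal forms and
sums travel as natural numbers.
-/

set_option autoImplicit false
set_option maxRecDepth 100000

namespace Cfsg.Agent.StemCert

open Cfsg.Agent.Compute

/-- The modulus of the part holding a normal form. -/
abbrev formMod : ℕ := 340282366920938463463374607431768211456

/-- A normal form as a number. -/
noncomputable def codeX (x : List ℕ) : ℕ :=
  List.rec (motive := fun _ => ℕ) 0 (fun a _ r => Nat.add a (Nat.shiftLeft r 16)) x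

theorem codeX_cons (a : ℕ) (x : List ℕ) : codeX (a :: x) = a + 65536 * codeX x := by
  show Nat.add a (Nat.shiftLeft (codeX x) 16) = _
  rw [Nat.add_eq, show Nat.shiftLeft (codeX x) 16 = codeX x * 2 ^ 16 from Nat.shiftLeft_eq _ _]
  ring

/-- Continue with an evaluated summary. -/
noncomputable def forceS {α : Type} (q : ℕ × ℕ × ℕ) (k : ℕ → ℕ → ℕ → α) : α :=
  Prod.rec (motive := fun _ => α)
    (fun a q' => Prod.rec (motive := fun _ => α)
      (fun b c => forceN a fun a' => forceN b fun b' => forceN c fun c' => k a' b' c') q') q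

theorem forceS_eq {α : Type} (a b c : ℕ) (k : ℕ → ℕ → ℕ → α) : forceS (a, b, c) k = k a b c := by
  show forceN a (fun a' => forceN b fun b' => forceN c fun c' => k a' b' c') = _
  rw [forceN_eq, forceN_eq, forceN_eq]

/-- Combine two summaries: the largest key, the number of variables of that rank, and the packed sum. -/
noncomputable def cbW (a b : ℕ × ℕ × ℕ) : ℕ × ℕ × ℕ :=
  forceS a fun ka ca sa => forceS b fun kb cb sb =>
    forceN (Nat.add sa sb) fun S =>
      cond (Nat.blt (Nat.shiftRight ka 40) (Nat.shiftRight kb 40)) (kb, cb, S)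
        (cond (Nat.blt (Nat.shiftRight kb 40) (Nat.shiftRight ka 40)) (ka, ca, S)
          (forceN (Nat.add ca cb) fun c => (cond (Nat.blt ka kb) kb ka, c, S)))

/-- Apply a word to a coded normal form, summarising the variables met. -/
noncomputable def actW (h : Var → ℕ → ℕ × ℕ × ℕ) (Ls : List Lv) : ℕ → List ℕ → ℕ → ℕ × ℕ × ℕ × ℕ :=
  List.rec (motive := fun _ => ℕ → List ℕ → ℕ → ℕ × ℕ × ℕ × ℕ)
    (fun _ _ x => (x, 0, 0, 0))
    (fun L _ rec i w x =>
      List.rec (motive := fun _ => ℕ × ℕ × ℕ × ℕ) (x, 0, 0, 0)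
        (fun s _ p => Prod.rec (motive := fun _ => ℕ × ℕ × ℕ × ℕ)
          (fun px pW => forceN px fun p' => forceN (Nat.mod p' 65536) fun j =>
            forceN (Nat.shiftRight p' 16) fun t =>
              Ent.rec (motive := fun _ => ℕ × ℕ × ℕ × ℕ)
                (fun jp hw _ rk _ _ _ => Prod.rec (motive := fun _ => ℕ × ℕ × ℕ × ℕ)
                  (fun rx rW => forceN (Nat.add jp (Nat.shiftLeft rx 16)) fun x' =>
                    forceS (cbW (h (i, s, j) rk) (cbW rW pW)) fun k c S => (x', k, c, S))
                  (rec (Nat.succ i) hw t))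
                (L.ent s j)) p) w) Ls

/-- Sizes allowing coded normal forms. -/
noncomputable def smallB (Ls : List Lv) : Bool :=
  Nat.ble Ls.length 8 && allB (fun L => Nat.ble L.size 65536) Ls

theorem small_cons {L : Lv} {Ls : List Lv} (h : smallB (L :: Ls) = true) :
    Ls.length < 8 ∧ L.size ≤ 65536 ∧ smallB Ls = true := by
  have h' : (Nat.ble (Ls.length + 1) 8 && (Nat.ble L.size 65536 && allB (fun L => Nat.ble L.size 65536) Ls)) =
      true := h
  simp only [Bool.and_eq_true, Nat.ble_eq] at h'
  refine ⟨by omega, h'.2.1, ?_⟩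
  simp only [smallB, Bool.and_eq_true, Nat.ble_eq]
  exact ⟨by omega, h'.2.2⟩

theorem codeX_lt : ∀ {Ls : List Lv} {x : List ℕ}, smallB Ls = true → Valid Ls x →
    codeX x < 65536 ^ Ls.length
  | [], x, _, hx => by
    obtain rfl : x = [] := hx
    exact Nat.one_pos
  | L :: Ls, x, hs, hx => by
    obtain ⟨j, r, rfl, hj, hr⟩ := hx
    obtain ⟨-, hsz, hs'⟩ := small_cons hs
    have := codeX_lt hs' hr
    rw [codeX_cons, List.length_cons, pow_succ]
    omega

theorem codeX_lt_formMod {Ls : List Lv} {x : List ℕ} (hs : smallB Ls = true) (hx : Valid Ls x) :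
    codeX x < formMod := by
  refine lt_of_lt_of_le (codeX_lt hs hx) ?_
  have hl : Ls.length ≤ 8 := by
    have h' := hs
    simp only [smallB, Bool.and_eq_true, Nat.ble_eq] at h'
    exact h'.1
  exact le_trans (Nat.pow_le_pow_right (by norm_num) hl) (by norm_num)

theorem codeX_inj : ∀ {Ls : List Lv} {x y : List ℕ}, smallB Ls = true → Valid Ls x → Valid Ls y →
    codeX x = codeX y → x = y
  | [], _, _, _, hx, hy, _ => hx.trans hy.symm
  | L :: Ls, x, y, hs, hx, hy, he => by
    obtain ⟨j, r, rfl, hj, hr⟩ := hx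
    obtain ⟨j', r', rfl, hj', hr'⟩ := hy
    obtain ⟨-, hsz, hs'⟩ := small_cons hs
    rw [codeX_cons, codeX_cons] at he
    obtain rfl : j = j' := by omega
    rw [codeX_inj hs' hr hr' (by omega)]

/-- The largest number of variables met by one letter when the words of the table have length at most `m`. -/
noncomputable def lenBd (m : ℕ) (Ls : List Lv) : ℕ :=
  List.rec (motive := fun _ => ℕ) 0 (fun _ _ r => Nat.add 1 (Nat.mul m r)) Ls

/-- The words of the table have length at most `m`, and generators and ranks are small. -/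
noncomputable def hwB (m : ℕ) (D : List Lv) : Bool :=
  allB (fun L => allB (fun s => Nat.blt s 65536 && allBelow L.size fun j =>
    Nat.ble (L.ent s j).hw.length m && Nat.blt (L.ent s j).rk 16777216) L.gens) D

theorem hwB_spec {m : ℕ} {D : List Lv} (hm : hwB m D = true) {L : Lv} (hL : L ∈ D) {s : ℕ}
    (hs : s ∈ L.gens) {j : ℕ} (hj : j < L.size) :
    s < 65536 ∧ (L.ent s j).hw.length ≤ m ∧ (L.ent s j).rk < 16777216 := by
  have h2 := allB_spec (allB_spec hm L hL) s hs
  simp only [Bool.and_eq_true, Nat.blt_eq] at h2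
  have h3 := allBelow_eq_true.mp h2.2 j hj
  simp only [Bool.and_eq_true, Nat.ble_eq, Nat.blt_eq] at h3
  exact ⟨h2.1, h3⟩

theorem actW_spec (h : Var → ℕ → ℕ × ℕ × ℕ) (D : List Lv) {m : ℕ} (hm : hwB m D = true)
    (P : ℕ × ℕ × ℕ → List Var → Prop) (h0 : P (0, 0, 0) [])
    (h1 : ∀ v, IsVar D v → P (h v (entAt D v).rk) [v])
    (h2 : ∀ a b l l', P a l → P b l' → P (cbW a b) (l ++ l')) :
    ∀ (Ls : List Lv) (i : ℕ), Ls = D.drop i → wfB Ls = true → smallB Ls = true →
    ∀ (w x : List ℕ), (∀ s ∈ w, s ∈ headGens Ls) → Valid Ls x →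
      Valid Ls (act Ls i w x).1 ∧ (∀ v ∈ (act Ls i w x).2, IsVar D v) ∧
        (act Ls i w x).2.length ≤ w.length * lenBd m Ls ∧
        (actW h Ls i w (codeX x)).1 = codeX (act Ls i w x).1 ∧
        P (actW h Ls i w (codeX x)).2 (act Ls i w x).2 := by
  intro Ls
  induction Ls with
  | nil =>
    intro i _ _ _ w x hw hx
    have hw0 : w = [] := List.eq_nil_iff_forall_not_mem.mpr fun s hs => by
      simpa [headGens] using hw s hs
    subst hw0
    exact ⟨hx, fun v hv => by simp [act] at hv, by simp [act], rfl, h0⟩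
  | cons L Ls ih =>
    intro i hi hwf hsm w x hw hx
    obtain ⟨hpos, hw0, hword, hent, hwf'⟩ := wfB_cons hwf
    obtain ⟨-, hsz, hsm'⟩ := small_cons hsm
    have hi' : Ls = D.drop (i + 1) := by
      rw [← List.drop_drop, ← hi]; rfl
    have hilt : i < D.length := by
      by_contra hc
      rw [List.drop_eq_nil_of_le (by omega)] at hi
      exact List.cons_ne_nil _ _ hi
    have hL : lvAt D i = L := by
      rw [lvAt, List.getD_eq_getElem _ _ hilt]
      rw [List.drop_eq_getElem_cons hilt] at hi
      exact (List.cons.inj hi).1.symm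
    induction w with
    | nil => exact ⟨hx, fun v hv => by simp [act] at hv, by simp [act], rfl, h0⟩
    | cons s w ihw =>
      obtain ⟨hp1, hp2, hp3, hp4, hpP⟩ := ihw fun t ht => hw t (List.mem_cons_of_mem _ ht)
      generalize hp : act (L :: Ls) i w x = p at hp1 hp2 hp3 hp4 hpP
      obtain ⟨j, rest, hj, hjlt, hrest⟩ := hp1
      have hs : s ∈ L.gens := hw s (by simp)
      obtain ⟨hjp, hhw⟩ := hent s hs j hjlt
      have hLmem : L ∈ D := List.mem_of_mem_drop (i := i) (hi ▸ List.mem_cons_self ..)
      have hhwlen : (L.ent s j).hw.length ≤ m := (hwB_spec hm hLmem hs hjlt).2.1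
      have hv : IsVar D (i, s, j) := ⟨hilt, by rw [hL]; exact hs, by rw [hL]; exact hjlt⟩
      have he : act (L :: Ls) i (s :: w) x = ((L.ent s j).jp :: (act Ls (i + 1) (L.ent s j).hw rest).1,
          (i, s, j) :: ((act Ls (i + 1) (L.ent s j).hw rest).2 ++ p.2)) := by
        have : act (L :: Ls) i (s :: w) x = ((L.ent s (p.1.headD 0)).jp ::
            (act Ls (i + 1) (L.ent s (p.1.headD 0)).hw p.1.tail).1, (i, s, p.1.headD 0) ::
              ((act Ls (i + 1) (L.ent s (p.1.headD 0)).hw p.1.tail).2 ++ p.2)) := by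
          rw [← hp]
          exact forceL_eq _ _
        rw [this, hj]
        rfl
      obtain ⟨hr1, hr2, hr3, hr4, hrP⟩ := ih (i + 1) hi' hwf' hsm' _ rest hhw hrest
      have hE : entAt D (i, s, j) = L.ent s j := by rw [entAt, hL]
      have key : (actW h (L :: Ls) i (s :: w) (codeX x)).1 = (L.ent s j).jp +
            65536 * codeX (act Ls (i + 1) (L.ent s j).hw rest).1 ∧
          (actW h (L :: Ls) i (s :: w) (codeX x)).2 = cbW (h (i, s, j) (entAt D (i, s, j)).rk)
            (cbW (actW h Ls (i + 1) (L.ent s j).hw (codeX rest)).2 (actW h (L :: Ls) i w (codeX x)).2) := by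
        have e1 : actW h (L :: Ls) i (s :: w) (codeX x) =
            Prod.rec (motive := fun _ => ℕ × ℕ × ℕ × ℕ)
              (fun px pW => forceN px fun p' => forceN (Nat.mod p' 65536) fun j =>
                forceN (Nat.shiftRight p' 16) fun t =>
                  Ent.rec (motive := fun _ => ℕ × ℕ × ℕ × ℕ)
                    (fun jp hw _ rk _ _ _ => Prod.rec (motive := fun _ => ℕ × ℕ × ℕ × ℕ)
                      (fun rx rW => forceN (Nat.add jp (Nat.shiftLeft rx 16)) fun x' =>
                        forceS (cbW (h (i, s, j) rk) (cbW rW pW)) fun k c S => (x', k, c, S))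
                      (actW h Ls (i + 1) hw t))
                    (L.ent s j)) (actW h (L :: Ls) i w (codeX x)) := rfl
        rw [e1]
        rcases hA : actW h (L :: Ls) i w (codeX x) with ⟨px, pW⟩
        rw [hA] at hp4
        obtain rfl : px = codeX p.1 := hp4
        have hj0 : Nat.mod (codeX p.1) 65536 = j := by
          show codeX p.1 % 65536 = j
          rw [hj, codeX_cons, Nat.add_mul_mod_self_left, Nat.mod_eq_of_lt (by omega)]
        have ht : Nat.shiftRight (codeX p.1) 16 = codeX rest := by
          show codeX p.1 >>> 16 = _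
          rw [Nat.shiftRight_eq_div_pow, hj, codeX_cons, show (2 : ℕ) ^ 16 = 65536 by norm_num,
            Nat.add_mul_div_left _ _ (by norm_num), Nat.div_eq_of_lt (by omega), zero_add]
        simp only [forceN_eq, hj0, ht]
        rcases hgen : L.ent s j with ⟨jp, hw, e, rk, tag, idx, at'⟩
        rw [hgen] at hr4
        rcases hB : actW h Ls (i + 1) hw (codeX rest) with ⟨rx, rW⟩
        simp only [hB] at hr4
        rw [hE, hgen]
        dsimp only
        rcases hC : cbW (h (i, s, j) rk) (cbW rW pW) with ⟨k, c, S⟩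
        simp only [forceS_eq, hr4, Nat.add_eq]
        refine ⟨?_, trivial⟩
        rw [show ∀ a, Nat.shiftLeft a 16 = a * 65536 from fun a => Nat.shiftLeft_eq a 16]
        ring
      rw [he]
      refine ⟨⟨_, _, rfl, hjp, hr1⟩, fun v hv' => ?_, ?_, key.1.trans (codeX_cons _ _).symm,
        key.2 ▸ h2 _ _ _ _ (h1 _ hv) (h2 _ _ _ _ hrP hpP)⟩
      · rcases List.mem_cons.mp hv' with rfl | hv'
        · exact hv
        · rcases List.mem_append.mp hv' with h | h
          exacts [hr2 v h, hp2 v h]
      · have hb : lenBd m (L :: Ls) = 1 + m * lenBd m Ls := rfl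
        simp only [List.length_cons, List.length_append]
        rw [Nat.succ_mul]
        have := Nat.mul_le_mul_right (lenBd m Ls) hhwlen
        omega

/-- The key of a variable: its rank and its position. -/
noncomputable def vkey (v : Var) (rk : ℕ) : ℕ :=
  Nat.add (Nat.mul rk 1099511627776) (Nat.add (Nat.mul v.1 4294967296) (Nat.add (Nat.mul v.2.1 65536) v.2.2))

/-- The summary of one variable; the lowest field of the sum only separates the numbers. -/
noncomputable def varW (N : ℕ) (PV : List (List (Arr ℕ))) (v : Var) (rk : ℕ) : ℕ × ℕ × ℕ :=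
  (vkey v rk, 1, Nat.add (Nat.mod (Nat.mul (vkey v rk) 2654435761) N) (Nat.shiftLeft (pvAt PV v) 64))

/-- The key of a variable of the tables. -/
noncomputable def keyD (D : List Lv) (v : Var) : ℕ := vkey v (entAt D v).rk

theorem pack_eq (a b : ℕ) : Nat.add a (Nat.shiftLeft b 64) = a + fieldMod * b := by
  rw [Nat.add_eq, show Nat.shiftLeft b 64 = b * 2 ^ 64 from Nat.shiftLeft_eq _ _, mul_comm b,
    show (2 : ℕ) ^ 64 = fieldMod by norm_num]

/-- The meaning of a summary. -/
def SumOK (N : ℕ) (PV : List (List (Arr ℕ))) (D : List Lv) (W : ℕ × ℕ × ℕ) (l : List Var) : Prop :=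
  W.2.1 = l.countP (fun v => keyD D v / 1099511627776 == W.1 / 1099511627776) ∧
    (∀ v ∈ l, keyD D v ≤ W.1) ∧ (l = [] → W.1 = 0) ∧ (l ≠ [] → ∃ v ∈ l, keyD D v = W.1) ∧
    ∃ d : ℕ, d ≤ N * l.length ∧ W.2.2 = d + fieldMod * (l.map (pvAt PV)).sum

theorem sumOK_zero (N : ℕ) (PV : List (List (Arr ℕ))) (D : List Lv) : SumOK N PV D (0, 0, 0) [] :=
  ⟨by simp, by simp, fun _ => rfl, fun h => absurd rfl h, 0, by simp, by simp⟩

theorem keyD_lt {m : ℕ} {D : List Lv} (hm : hwB m D = true) (hsm : smallB D = true) {v : Var}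
    (hv : IsVar D v) : v.1 < 256 ∧ v.2.1 < 65536 ∧ v.2.2 < 65536 := by
  obtain ⟨h1, h2, h3⟩ := hv
  have hmem : lvAt D v.1 ∈ D := by
    rw [lvAt, List.getD_eq_getElem _ _ h1]; exact List.getElem_mem h1
  obtain ⟨hs, -, -⟩ := hwB_spec hm hmem h2 h3
  simp only [smallB, Bool.and_eq_true, Nat.ble_eq] at hsm
  have hz : (lvAt D v.1).size ≤ 65536 := Nat.ble_eq.mp (allB_spec hsm.2 _ hmem)
  exact ⟨by omega, hs, by omega⟩

theorem sumOK_one {N : ℕ} (hN : 0 < N) (PV : List (List (Arr ℕ))) (D : List Lv) (v : Var)
    (_hv : IsVar D v) : SumOK N PV D (varW N PV v (entAt D v).rk) [v] := by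
  unfold varW
  refine ⟨by simp [keyD], by simp [keyD], fun h => absurd h (List.cons_ne_nil _ _),
    fun _ => ⟨v, by simp, rfl⟩, Nat.mod (Nat.mul (vkey v (entAt D v).rk) 2654435761) N, ?_, ?_⟩
  · exact le_of_lt (lt_of_lt_of_eq (Nat.mod_lt (Nat.mul (vkey v (entAt D v).rk) 2654435761) hN)
      (by simp))
  · simp only [List.map_cons, List.map_nil, List.sum_cons, List.sum_nil, Nat.add_zero]
    exact pack_eq _ _

theorem sumOK_add (N : ℕ) (PV : List (List (Arr ℕ))) (D : List Lv) (a b : ℕ × ℕ × ℕ)
    (l l' : List Var) (ha : SumOK N PV D a l) (hb : SumOK N PV D b l') :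
    SumOK N PV D (cbW a b) (l ++ l') := by
  obtain ⟨ka, ca, sa⟩ := a
  obtain ⟨kb, cb, sb⟩ := b
  obtain ⟨a1, a2, a3, a4, da, ha5, ha6⟩ := ha
  obtain ⟨b1, b2, b3, b4, db, hb5, hb6⟩ := hb
  dsimp only at a1 a2 a3 a4 ha6 b1 b2 b3 b4 hb6
  have hS : ∃ d : ℕ, d ≤ N * (l ++ l').length ∧
      Nat.add sa sb = d + fieldMod * ((l ++ l').map (pvAt PV)).sum := by
    refine ⟨da + db, by rw [List.length_append, Nat.mul_add]; omega, ?_⟩
    rw [Nat.add_eq, ha6, hb6, List.map_append, List.sum_append]
    generalize fieldMod = G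
    ring
  have none_of : ∀ (L : List Var) (k k' : ℕ), (∀ v ∈ L, keyD D v ≤ k) →
      k / 1099511627776 < k' / 1099511627776 →
      L.countP (fun v => keyD D v / 1099511627776 == k' / 1099511627776) = 0 := fun L k k' hk hlt => by
    rw [List.countP_eq_zero]
    intro v hv
    simp only [beq_iff_eq]
    have := Nat.div_le_div_right (c := 1099511627776) (hk v hv)
    omega
  have hsr : ∀ a, Nat.shiftRight a 40 = a / 1099511627776 := fun a => Nat.shiftRight_eq_div_pow a 40
  unfold cbW
  simp only [forceS_eq, forceN_eq, hsr]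
  rcases Nat.lt_trichotomy (ka / 1099511627776) (kb / 1099511627776) with h | h | h
  · rw [Nat.blt_eq.mpr h, cond_true]
    refine ⟨by rw [List.countP_append, none_of l ka kb a2 h, zero_add]; exact b1, fun v hv => ?_,
      fun h0 => b3 (List.append_eq_nil_iff.mp h0).2, fun _ => ?_, hS⟩
    · rcases List.mem_append.mp hv with hv | hv
      · have := a2 v hv
        have : ka < kb := by
          by_contra hc
          have := Nat.div_le_div_right (c := 1099511627776) (Nat.le_of_not_lt hc)
          omega
        show keyD D v ≤ kb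
        omega
      · exact b2 v hv
    · by_cases h' : l' = []
      · have := b3 h'; subst this; simp at h
      · obtain ⟨v, hv, e⟩ := b4 h'
        exact ⟨v, List.mem_append_right _ hv, e⟩
  · have n1 : Nat.blt (ka / 1099511627776) (kb / 1099511627776) = false :=
      Bool.eq_false_iff.mpr fun e => absurd (Nat.blt_eq.mp e) (by omega)
    have n2 : Nat.blt (kb / 1099511627776) (ka / 1099511627776) = false :=
      Bool.eq_false_iff.mpr fun e => absurd (Nat.blt_eq.mp e) (by omega)
    rw [n1, n2, cond_false, cond_false]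
    have emax : cond (Nat.blt ka kb) kb ka = max ka kb := by
      cases hc : Nat.blt ka kb with
      | true => rw [max_eq_right (Nat.blt_eq.mp hc).le, cond_true]
      | false => rw [max_eq_left (Nat.le_of_not_lt fun e => by simp [Nat.blt_eq.mpr e] at hc), cond_false]
    rw [emax]
    have hdiv : max ka kb / 1099511627776 = ka / 1099511627776 := by
      rcases max_choice ka kb with e | e <;> rw [e]
      exact h.symm
    refine ⟨?_, fun v hv => ?_, fun h0 => ?_, fun _ => ?_, hS⟩
    · show ca + cb = List.countP (fun v => keyD D v / 1099511627776 == max ka kb / 1099511627776) (l ++ l')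
      rw [List.countP_append, hdiv]
      nth_rw 2 [h]
      rw [← a1, ← b1]
    · rcases List.mem_append.mp hv with hv | hv
      · exact le_trans (a2 v hv) (le_max_left ka kb)
      · exact le_trans (b2 v hv) (le_max_right ka kb)
    · obtain ⟨e1, e2⟩ := List.append_eq_nil_iff.mp h0
      show max ka kb = 0
      rw [a3 e1, b3 e2, max_self]
    · show ∃ v ∈ l ++ l', keyD D v = max ka kb
      by_cases h1 : l = []
      · by_cases h2 : l' = []
        · simp_all
        · obtain ⟨v, hv, e⟩ := b4 h2
          exact ⟨v, List.mem_append_right _ hv, by rw [e, a3 h1, Nat.zero_max]⟩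
      · by_cases h2 : l' = []
        · obtain ⟨v, hv, e⟩ := a4 h1
          exact ⟨v, List.mem_append_left _ hv, by rw [e, b3 h2, Nat.max_zero]⟩
        · rcases max_choice ka kb with e' | e' <;> rw [e']
          · obtain ⟨v, hv, e⟩ := a4 h1
            exact ⟨v, List.mem_append_left _ hv, e⟩
          · obtain ⟨v, hv, e⟩ := b4 h2
            exact ⟨v, List.mem_append_right _ hv, e⟩
  · have n1 : Nat.blt (ka / 1099511627776) (kb / 1099511627776) = false :=
      Bool.eq_false_iff.mpr fun e => absurd (Nat.blt_eq.mp e) (by omega)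
    rw [n1, Nat.blt_eq.mpr h, cond_true, cond_false]
    refine ⟨by rw [List.countP_append, none_of l' kb ka b2 h, add_zero]; exact a1, fun v hv => ?_,
      fun h0 => a3 (List.append_eq_nil_iff.mp h0).1, fun _ => ?_, hS⟩
    · rcases List.mem_append.mp hv with hv | hv
      · exact a2 v hv
      · have := b2 v hv
        have : kb < ka := by
          by_contra hc
          have := Nat.div_le_div_right (c := 1099511627776) (Nat.le_of_not_lt hc)
          omega
        show keyD D v ≤ ka
        omega
    · by_cases h' : l = []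
      · have := a3 h'; subst this; simp at h
      · obtain ⟨v, hv, e⟩ := a4 h'
        exact ⟨v, List.mem_append_left _ hv, e⟩

variable (C : Cert)

/-- The justification of one variable in one pass; the pass does not depend on the variable, so the
kernel can share its parts among variables. -/
noncomputable def Cert.entM (m : ℕ) (PV : List (List (Arr ℕ))) (i s j : ℕ) : Bool :=
  let E := entAt C.D (i, s, j)
  cond (Nat.beq E.tag 0)
    (natsEq (s :: (lvAt C.D i).word j) ((lvAt C.D i).word E.jp ++ E.hw) && C.vz E.e)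
    (cond (Nat.beq E.tag 1)
      (Nat.blt E.idx C.seeds.length && varEq (C.seeds.getD E.idx (0, 0, 0)) (i, s, j) &&
        C.vz (vsub E.e (vunit (Nat.add C.nRel E.idx))))
      (Nat.blt E.idx C.nRel && validB (C.D.drop (C.rels.getD E.idx (0, [])).1) E.at' &&
        Nat.blt (Nat.mul (Nat.add C.md 1) (Nat.mul (C.rels.getD E.idx (0, [])).2.length
          (lenBd m (C.D.drop (C.rels.getD E.idx (0, [])).1)))) 4611686018427387904 &&
        forceN (C.rels.getD E.idx (0, [])).1 fun r0 => forceN (codeX E.at') fun x =>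
          Prod.rec (motive := fun _ => Bool)
            (fun rx W => Nat.beq rx x && forceS W fun k c S =>
              Nat.beq k (vkey (i, s, j) E.rk) && Nat.beq c 1 &&
                peq C.md C.dim (Nat.shiftRight S 64) (punit E.idx))
            (actW (varW C.md PV) (C.D.drop r0) r0 (C.rels.getD E.idx (0, [])).2 x)))

theorem psum_eq_sum (PV : List (List (Arr ℕ))) : ∀ (l : List Var) (acc : ℕ),
    psum PV l acc = acc + (l.map (pvAt PV)).sum
  | [], acc => by simp [psum]
  | v :: l, acc => by
    have e : psum PV (v :: l) acc = psum PV l (acc + pvAt PV v) :=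
      forceN_eq (Nat.add acc (pvAt PV v)) (psum PV l)
    rw [e, psum_eq_sum PV l, List.map_cons, List.sum_cons, add_assoc]

theorem varB_of_isVar {D : List Lv} {v : Var} (h : IsVar D v) : varB D v = true := by
  simp only [varB, Bool.and_eq_true, Nat.blt_eq, memB_eq_true]
  exact ⟨⟨h.1, h.2.1⟩, h.2.2⟩

theorem natsEq_self : ∀ a : List ℕ, natsEq a a = true
  | [] => rfl
  | x :: a => by
    show (Nat.beq x x && natsEq a a) = true
    rw [natsEq_self a, Bool.and_true, Nat.beq_eq]

theorem smallB_drop : ∀ {Ls : List Lv} (i : ℕ), smallB Ls = true → smallB (Ls.drop i) = true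
  | [], i, _ => by rw [List.drop_nil]; rfl
  | _ :: _, 0, h => h
  | _ :: _, i + 1, h => smallB_drop i (small_cons h).2.2

theorem entOK_of_entM (hN : 0 < C.md) {m : ℕ} (hm : hwB m C.D = true) (hsm : smallB C.D = true)
    (hwf : wfB C.D = true) (hrel : allBelow C.nRel C.relOK = true) {PV : List (List (Arr ℕ))}
    (hPV : ∀ i < C.D.length, C.pvOK PV i = true) {i s j : ℕ} (hv : IsVar C.D (i, s, j))
    (h : C.entM m PV i s j = true) :
    C.entOK i s j = true := by
  unfold Cert.entM at h
  unfold Cert.entOK
  cases h0 : Nat.beq (entAt C.D (i, s, j)).tag 0 with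
  | true => simpa [h0] using h
  | false =>
    cases h1 : Nat.beq (entAt C.D (i, s, j)).tag 1 with
    | true => simpa [h0, h1] using h
    | false =>
      simp only [h0, h1, cond_false, Bool.and_eq_true] at h ⊢
      set n := (entAt C.D (i, s, j)).idx
      set at' := (entAt C.D (i, s, j)).at'
      obtain ⟨⟨⟨hidx, hval⟩, hmd⟩, h⟩ := h
      have hrn := allBelow_eq_true.mp hrel n (Nat.blt_eq.mp hidx)
      simp only [Cert.relOK, Bool.and_eq_true] at hrn
      have hwf' := wfB_drop (C.rels.getD n (0, [])).1 hwf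
      have hsm' := smallB_drop (C.rels.getD n (0, [])).1 hsm
      obtain ⟨hv1, hv2, hlen, hx0, hP⟩ := actW_spec (varW C.md PV) C.D hm
        (SumOK C.md PV C.D) (sumOK_zero C.md PV C.D) (sumOK_one hN PV C.D) (sumOK_add C.md PV C.D)
        (C.D.drop (C.rels.getD n (0, [])).1) (C.rels.getD n (0, [])).1 rfl hwf' hsm'
        (C.rels.getD n (0, [])).2 at' (fun t ht => memB_eq_true.mp (allB_spec hrn.1 t ht))
        (valid_of_check hval)
      simp only [forceN_eq] at h
      rcases hA : actW (varW C.md PV) (C.D.drop (C.rels.getD n (0, [])).1) (C.rels.getD n (0, [])).1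
        (C.rels.getD n (0, [])).2 (codeX at') with ⟨rx, key, c, S⟩
      rw [hA] at h hx0 hP
      simp only [forceS_eq, Bool.and_eq_true] at h
      obtain ⟨hx, ⟨hkey', hc'⟩, hsum⟩ := h
      obtain ⟨l, hl⟩ : ∃ l, l = (C.relRun n at').2 := ⟨_, rfl⟩
      have hl' : (act (C.D.drop (C.rels.getD n (0, [])).1) (C.rels.getD n (0, [])).1
          (C.rels.getD n (0, [])).2 at').2 = l := hl.symm
      rw [hl'] at hv2 hlen hP
      rw [← hl]
      obtain ⟨h1, h2, h3, h4, d, hd, hS⟩ := hP
      dsimp only at h1 h2 h3 h4 hS hx0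
      have hx' : codeX (C.relRun n at').1 = codeX at' := hx0.symm.trans (Nat.eq_of_beq_eq_true hx)
      have hbd : (C.md + 1) * l.length < 4611686018427387904 :=
        lt_of_le_of_lt (Nat.mul_le_mul_left _ hlen) (Nat.blt_eq.mp hmd)
      have hkey : key = keyD C.D (i, s, j) := Nat.eq_of_beq_eq_true hkey'
      have hc1 : c = 1 := Nat.eq_of_beq_eq_true hc'
      have hdlt : d < fieldMod :=
        lt_of_le_of_lt (hd.trans (Nat.mul_le_mul_right _ (Nat.le_succ _))) (lt_trans hbd (by norm_num))
      have hSv : Nat.shiftRight S 64 = (l.map (pvAt PV)).sum := by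
        show S >>> 64 = _
        rw [hS, Nat.shiftRight_eq_div_pow, show (2 : ℕ) ^ 64 = fieldMod by norm_num,
          Nat.add_mul_div_left _ _ (by norm_num), Nat.div_eq_of_lt hdlt, zero_add]
      rw [hSv] at hsum
      have hne : l ≠ [] := fun e => by
        rw [hc1] at h1
        simp [e] at h1
      obtain ⟨v, hvl, hvk⟩ := h4 hne
      have hvt : v = (i, s, j) := by
        obtain ⟨p1, p2, p3⟩ := keyD_lt hm hsm (hv2 v hvl)
        obtain ⟨q1, q2, q3⟩ := keyD_lt hm hsm hv
        rw [hkey] at hvk
        simp only [keyD, vkey, Nat.add_eq, Nat.mul_eq] at hvk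
        have he1 : v.1 = i ∧ v.2.1 = s ∧ v.2.2 = j := by
          dsimp only at q1 q2 q3
          omega
        obtain ⟨e1, e2, e3⟩ := he1
        exact Prod.ext e1 (Prod.ext e2 e3)
      subst hvt
      have hrkdiv : ∀ u ∈ l, keyD C.D u / 1099511627776 = (entAt C.D u).rk := fun u hu => by
        obtain ⟨p1, p2, p3⟩ := keyD_lt hm hsm (hv2 u hu)
        simp only [keyD, vkey, Nat.add_eq, Nat.mul_eq]
        omega
      rw [hkey, hrkdiv _ hvl, hc1] at h1
      obtain ⟨l1, l2, hsp⟩ := List.append_of_mem hvl
      have hcnt : ∀ u ∈ l1 ++ l2, (entAt C.D u).rk ≠ (entAt C.D (i, s, j)).rk := fun u hu e => by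
        have hu' : u ∈ l := by
          rw [hsp]
          rcases List.mem_append.mp hu with hu | hu
          exacts [List.mem_append_left _ hu, List.mem_append_right _ (List.mem_cons_of_mem _ hu)]
        have : 0 < (l1 ++ l2).countP (fun v => keyD C.D v / 1099511627776 == (entAt C.D (i, s, j)).rk) :=
          List.countP_pos_iff.mpr ⟨u, hu, by rw [hrkdiv u hu', e, beq_self_eq_true]⟩
        rw [hsp, List.countP_append, List.countP_cons_of_pos (by
          rw [hrkdiv _ hvl, beq_self_eq_true])] at h1
        rw [List.countP_append] at this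
        omega
      have hlt : ∀ u ∈ l1 ++ l2, (entAt C.D u).rk < (entAt C.D (i, s, j)).rk := fun u hu => by
        have hu' : u ∈ l := by
          rw [hsp]
          rcases List.mem_append.mp hu with hu | hu
          exacts [List.mem_append_left _ hu, List.mem_append_right _ (List.mem_cons_of_mem _ hu)]
        have := Nat.div_le_div_right (c := 1099511627776) (h2 u hu')
        rw [hkey, hrkdiv u hu', hrkdiv _ hvl] at this
        have := hcnt u hu
        omega
      have hne' : ∀ u ∈ l1 ++ l2, varEq (i, s, j) u = false := fun u hu => by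
        cases hb : varEq (i, s, j) u with
        | false => rfl
        | true => exact absurd (by rw [varEq_eq hb]) (hcnt u hu)
      have hall : ∀ L : List Var, (∀ u ∈ L, (varEq (i, s, j) u ||
          Nat.blt (entAt C.D u).rk (entAt C.D (i, s, j)).rk) = true) →
          allB (fun u => varEq (i, s, j) u || Nat.blt (entAt C.D u).rk (entAt C.D (i, s, j)).rk) L = true := by
        intro L
        induction L with
        | nil => exact fun _ => rfl
        | cons a L ih =>
          intro hL
          show (_ && allB _ L) = true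
          rw [ih fun u hu => hL u (List.mem_cons_of_mem _ hu), Bool.and_true]
          exact hL a (List.mem_cons_self ..)
      have hvc0 : ∀ L : List Var, (∀ u ∈ L, varEq (i, s, j) u = false) → ∀ L', varCount (i, s, j) (L ++ L') =
          varCount (i, s, j) L' := by
        intro L
        induction L with
        | nil => exact fun _ _ => rfl
        | cons a L ih =>
          intro hL L'
          rw [List.cons_append, varCount_cons, hL a (List.mem_cons_self ..), cond_false,
            ih (fun u hu => hL u (List.mem_cons_of_mem _ hu)) L']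
      refine ⟨⟨⟨⟨⟨hidx, hval⟩, ?_⟩, ?_⟩, hall l fun u hu => ?_⟩, vz_of_dvd C hN fun t => ?_⟩
      · rw [show (C.relRun n at').1 = at' from codeX_inj hsm' hv1 (valid_of_check hval) hx']
        exact natsEq_self _
      · rw [Nat.beq_eq, hsp, hvc0 l1 (fun u hu => hne' u (List.mem_append_left _ hu)), varCount_cons,
          varEq_self, cond_true, ← List.append_nil l2,
          hvc0 l2 (fun u hu => hne' u (List.mem_append_right _ hu))]
        simp [varCount]
      · rw [hsp] at hu
        rcases List.mem_append.mp hu with hu | hu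
        · rw [Nat.blt_eq.mpr (hlt u (List.mem_append_left _ hu)), Bool.or_true]
        · rcases List.mem_cons.mp hu with rfl | hu
          · rw [varEq_self, Bool.true_or]
          · rw [Nat.blt_eq.mpr (hlt u (List.mem_append_right _ hu)), Bool.or_true]
      · rw [gd_vsub]
        have hp := psum_spec C hPV l (fun v hv => varB_of_isVar (hv2 v hv)) 0 _ 0 (PRep.zero _)
          (show 0 + C.md * l.length < fieldMod by
            rw [Nat.zero_add]
            exact lt_of_le_of_lt (Nat.mul_le_mul_right _ (Nat.le_succ _)) (lt_trans hbd (by norm_num)))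
        rw [psum_eq_sum, zero_add, zero_add] at hp
        exact ((hp.congr fun i => by simp).dvd_sub (PRep.unit _ _) hsum t)

/-- The justification of one level from the one-pass checks of its halves. -/
theorem lvOK_of_entM (hN : 0 < C.md) {m : ℕ} (hm : hwB m C.D = true) (hsm : smallB C.D = true)
    (hwf : wfB C.D = true) (hrel : allBelow C.nRel C.relOK = true) {PV : List (List (Arr ℕ))}
    (hPV : ∀ i < C.D.length, C.pvOK PV i = true) {i : ℕ} (hi : i < C.D.length)
    (h : ∀ s ∈ (lvAt C.D i).gens, ∀ j < (lvAt C.D i).size, C.entM m PV i s j = true) :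
    C.lvOK i = true := by
  have key : ∀ G : List ℕ, (∀ s ∈ G, s ∈ (lvAt C.D i).gens) →
      allB (fun s => allBelow (lvAt C.D i).size (C.entOK i s)) G = true := by
    intro G
    induction G with
    | nil => exact fun _ => rfl
    | cons a G ih =>
      intro hG
      show (allBelow _ (C.entOK i a) && allB _ G) = true
      rw [ih fun x hx => hG x (List.mem_cons_of_mem _ hx), Bool.and_true, allBelow_eq_true]
      exact fun j hj => entOK_of_entM C hN hm hsm hwf hrel hPV
        ⟨hi, hG a (by simp), hj⟩ (h a (hG a (by simp)) j hj)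
  exact key _ fun _ hs => hs

/-- `f` holds on an interval. -/
noncomputable def allFrom (lo n : ℕ) (f : ℕ → Bool) : Bool := allBelow n fun j => f (Nat.add lo j)

theorem allFrom_spec {lo n : ℕ} {f : ℕ → Bool} (h : allFrom lo n f = true) {j : ℕ} (h1 : lo ≤ j)
    (h2 : j < lo + n) : f j = true := by
  have := allBelow_eq_true.mp h (j - lo) (by omega)
  rwa [show Nat.add lo (j - lo) = j by rw [Nat.add_eq]; omega] at this

end Cfsg.Agent.StemCert
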