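import Cfsg.Agent.StemCert.Packed

/-!
Combinations of packed rows kept reduced, for certificates with many rows and large coefficients.
-/

set_option autoImplicit false

namespace Cfsg.Agent.StemCert

open Cfsg.Agent.Compute

/-- Reduce the first `dim` fields modulo `N` and drop the others. -/
noncomputable def pmodv (N dim : ℕ) : ℕ → ℕ :=
  Nat.rec (motive := fun _ => ℕ → ℕ) (fun _ => 0)
    (fun _ r p => forceN p fun p' => forceN (Nat.div p' fieldMod) fun q =>
      Nat.add (Nat.mod (Nat.mod p' fieldMod) N) (Nat.mul fieldMod (r q))) dim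

theorem pfld_pmodv {N : ℕ} (hN : 0 < N) (hN' : N ≤ fieldMod) : ∀ (dim p i : ℕ),
    pfld i (pmodv N dim p) = if i < dim then pfld i p % N else 0
  | 0, p, i => by
    rw [if_neg (Nat.not_lt_zero i)]
    exact pfld_zero i
  | dim + 1, p, i => by
    have e : pmodv N (dim + 1) p = p % fieldMod % N + fieldMod * pmodv N dim (p / fieldMod) := by
      show forceN p (fun p' => forceN (Nat.div p' fieldMod) fun q =>
        Nat.add (Nat.mod (Nat.mod p' fieldMod) N) (Nat.mul fieldMod (pmodv N dim q))) = _
      rw [forceN_eq, forceN_eq]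
      rfl
    have hlt : p % fieldMod % N < fieldMod := lt_of_lt_of_le (Nat.mod_lt _ hN) hN'
    have ih := pfld_pmodv hN hN' dim (p / fieldMod)
    rw [e]
    cases i with
    | zero =>
      rw [if_pos (Nat.succ_pos _), pfld, pfld, Nat.add_mul_mod_self_left, Nat.mod_eq_of_lt hlt]
    | succ i =>
      rw [pfld_succ, Nat.add_mul_div_left _ _ (lt_of_le_of_lt (Nat.zero_le _) hlt),
        Nat.div_eq_of_lt hlt, zero_add, ih i, ← pfld_succ]
      simp only [Nat.succ_lt_succ_iff]

theorem pgood_zero {N : ℕ} : ∀ {dim p : ℕ}, pgood N dim p = true → ∀ i, dim ≤ i → pfld i p = 0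
  | 0, p, h, i, _ => by
    rw [Nat.eq_of_beq_eq_true (show Nat.beq p 0 = true from h), pfld_zero]
  | dim + 1, p, h, i, hi => by
    have h' : (Nat.blt (p % fieldMod) N && pgood N dim (p / fieldMod)) = true := h
    simp only [Bool.and_eq_true] at h'
    cases i with
    | zero => omega
    | succ i => rw [pfld_succ]; exact pgood_zero h'.2 i (by omega)

/-- A packed combination of rows, reduced at every sixteenth position. -/
noncomputable def pcomboM (N dim : ℕ) (cs : List ℤ) : List ℕ → ℕ → ℕ :=
  List.rec (motive := fun _ => List ℕ → ℕ → ℕ) (fun _ _ => 0)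
    (fun c _ rec RV => List.rec (motive := fun _ => ℕ → ℕ) (fun _ => 0)
      (fun R RV' _ j => forceN (rec RV' (Nat.add j 1)) fun q => forceN (Int.toNat c) fun n =>
        forceN (cond (Nat.beq n 0) q (Nat.add (Nat.mul n R) q)) fun S =>
          cond (Nat.beq (Nat.mod j 16) 0) (pmodv N dim S) S) RV) cs

variable (C : Cert)

/-- Rows paired with their packed values all satisfy a test. -/
noncomputable def rowsF (f : ℕ × ℕ × List ℕ → ℕ → Bool) (rs : List (ℕ × ℕ × List ℕ)) : List ℕ → Bool :=
  List.rec (motive := fun _ => List ℕ → Bool)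
    (fun RV => List.rec (motive := fun _ => Bool) true (fun _ _ _ => false) RV)
    (fun r _ rec RV => List.rec (motive := fun _ => Bool) false
      (fun R RV' _ => f r R && rec RV') RV) rs

/-- A test of a row with its packed value is sound. -/
def RowSound (f : ℕ × ℕ × List ℕ → ℕ → Bool) : Prop :=
  ∀ r R, f r R = true → pgood C.md C.dim R = true ∧ PRep C.md C.md (gd (C.rowVec r)) R

theorem pcomboM_rep (hN : 0 < C.md) (hB : 16 * (C.md * C.md) + C.md < fieldMod)
    {f : ℕ × ℕ × List ℕ → ℕ → Bool} (hf' : RowSound C f) :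
    ∀ (cs : List ℤ) (rs : List (ℕ × ℕ × List ℕ)) (RV : List ℕ),
    allB C.coefOK cs = true → rowsF f rs RV = true → ∀ j,
    PRep C.md (C.md + (16 - j % 16) % 16 * (C.md * C.md)) (gd (C.comboOn cs rs))
        (pcomboM C.md C.dim cs RV j) ∧
      ∀ i, C.dim ≤ i → pfld i (pcomboM C.md C.dim cs RV j) = 0
  | [], rs, RV, _, _, _ => ⟨(PRep.zero _).mono (Nat.zero_le _), fun i _ => pfld_zero i⟩
  | c :: cs, [], [], _, _, _ => ⟨(PRep.zero _).mono (Nat.zero_le _), fun i _ => pfld_zero i⟩
  | c :: cs, [], _ :: _, _, h, _ => by simp [rowsF] at h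
  | c :: cs, r :: rs, [], _, h, _ => by simp [rowsF] at h
  | c :: cs, r :: rs, R :: RV, hcs, h, j => by
    have h' : (f r R && rowsF f rs RV) = true := h
    have hcs' : (C.coefOK c && allB C.coefOK cs) = true := hcs
    rw [Bool.and_eq_true] at h' hcs'
    obtain ⟨hc, hcle⟩ := coefOK_spec C hcs'.1
    obtain ⟨ih, ihz⟩ := pcomboM_rep hN hB hf' cs rs RV hcs'.2 h'.2 (j + 1)
    obtain ⟨hg, hrow⟩ := hf' r R h'.1
    obtain ⟨q, hq⟩ : ∃ q, pcomboM C.md C.dim cs RV (j + 1) = q := ⟨_, rfl⟩
    rw [hq] at ih ihz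
    have e : pcomboM C.md C.dim (c :: cs) (R :: RV) j = cond (Nat.beq (j % 16) 0)
        (pmodv C.md C.dim (c.toNat * R + q)) (c.toNat * R + q) := by
      show forceN (pcomboM C.md C.dim cs RV (j + 1)) (fun q => forceN (Int.toNat c) fun n =>
        forceN (cond (Nat.beq n 0) q (Nat.add (Nat.mul n R) q)) fun S =>
          cond (Nat.beq (Nat.mod j 16) 0) (pmodv C.md C.dim S) S) = _
      rw [forceN_eq, forceN_eq, forceN_eq, hq]
      cases hz : Nat.beq (Int.toNat c) 0 with
      | true =>
        rw [cond_true, Nat.eq_of_beq_eq_true hz, zero_mul, zero_add]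
        rfl
      | false => rfl
    have hf : ∀ i, gd (C.comboOn (c :: cs) (r :: rs)) i =
        (c.toNat : ℤ) * gd (C.rowVec r) i + gd (C.comboOn cs rs) i := fun i => by
      show gd (vadd (vsmul c (C.rowVec r)) (C.comboOn cs rs)) i = _
      rw [gd_vadd, gd_vsmul, hc]
    obtain ⟨b, hb⟩ : ∃ b, (16 - (j + 1) % 16) % 16 = b := ⟨_, rfl⟩
    rw [hb] at ih
    have hb15 : b ≤ 15 := by omega
    have hmul : c.toNat * C.md ≤ C.md * C.md := Nat.mul_le_mul_right _ hcle
    have hsum : c.toNat * C.md + (C.md + b * (C.md * C.md)) ≤ C.md + (b + 1) * (C.md * C.md) := by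
      rw [Nat.succ_mul]; omega
    have hbig : C.md + (b + 1) * (C.md * C.md) < fieldMod := by
      refine lt_of_le_of_lt ?_ hB
      have := Nat.mul_le_mul_right (C.md * C.md) (show b + 1 ≤ 16 by omega)
      omega
    have h1 := (hrow.mul c.toNat (lt_of_le_of_lt ((Nat.le_add_right _ _).trans hsum) hbig)).add ih
      (lt_of_le_of_lt hsum hbig)
    have hR : ∀ t, c.toNat * pfld t R < fieldMod := fun t =>
      lt_of_le_of_lt ((Nat.mul_le_mul_left _ (pgood_spec hg t)).trans
        ((Nat.le_add_right _ _).trans hsum)) hbig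
    have hzero : ∀ i, C.dim ≤ i → pfld i (c.toNat * R + q) = 0 := fun i hi => by
      rw [pfld_add i _ _ fun t => ?_, pfld_mul i _ _ hR, pgood_zero hg i hi, ihz i hi, mul_zero]
      rw [pfld_mul t _ _ hR]
      exact lt_of_le_of_lt ((Nat.add_le_add (Nat.mul_le_mul_left _ (pgood_spec hg t)) (ih t).1).trans
        hsum) hbig
    rw [e]
    cases hz : Nat.beq (j % 16) 0 with
    | false =>
      rw [cond_false]
      have hj : j % 16 ≠ 0 := fun hj => by rw [hj] at hz; exact Bool.noConfusion hz
      refine ⟨((h1.congr fun i => (hf i).symm).mono ?_), hzero⟩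
      rw [show (16 - j % 16) % 16 = b + 1 by omega]
      exact hsum
    | true =>
      rw [cond_true]
      have hle : C.md ≤ fieldMod := le_of_lt (lt_of_le_of_lt (Nat.le_add_left _ _) hB)
      refine ⟨fun i => ?_, fun i hi => by rw [pfld_pmodv hN hle, if_neg (by omega)]⟩
      rw [pfld_pmodv hN hle, hf]
      by_cases hi : i < C.dim
      · rw [if_pos hi]
        refine ⟨(Nat.mod_lt _ hN).le.trans (Nat.le_add_right _ _), ?_⟩
        have := (h1 i).2
        rw [Int.natCast_mod, show ∀ a b d : ℤ, a - b % d = (a - b) + d * (b / d) from fun a b d => by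
          rw [Int.emod_def]; ring]
        exact dvd_add this (dvd_mul_right _ _)
      · rw [if_neg hi]
        refine ⟨Nat.zero_le _, ?_⟩
        have := (h1 i).2
        rw [hzero i (by omega)] at this
        simpa using this

/-- The reduction of a basis element, with reduced combinations. -/
noncomputable def Cert.basisM (RV : List ℕ) (k : ℕ) : Bool :=
  let p := C.combos.getD k (0, [])
  allB C.coefOK p.2 && C.coefOK p.1 &&
    peq C.md C.dim (Nat.add (pcomboM C.md C.dim p.2 RV 0) (Nat.mul (Int.toNat p.1) (punit C.piv))) (punit k)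

/-- The order of the pivot, with reduced combinations. -/
noncomputable def Cert.ordM (RV : List ℕ) : Bool :=
  allB C.coefOK C.ordCombo && Nat.ble C.ord C.md &&
    peq C.md C.dim (pcomboM C.md C.dim C.ordCombo RV 0) (Nat.mul C.ord (punit C.piv))

/-- The bound on the sizes of reduced combinations. -/
noncomputable def Cert.boundM : Bool :=
  Nat.blt 0 C.md && Nat.blt (Nat.add (Nat.mul 16 (Nat.mul C.md C.md)) C.md) 16140901064495857664

theorem boundM_spec (hb : C.boundM = true) :
    0 < C.md ∧ 16 * (C.md * C.md) + C.md < fieldMod ∧ C.md + C.md * 1 < fieldMod := by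
  simp only [Cert.boundM, Bool.and_eq_true, Nat.blt_eq] at hb
  have h : 16 * (C.md * C.md) + C.md < fieldMod :=
    lt_trans (show 16 * (C.md * C.md) + C.md < 16140901064495857664 from hb.2) (by norm_num)
  have := Nat.le_mul_self C.md
  exact ⟨hb.1, h, lt_of_le_of_lt (by omega) h⟩

theorem basisOK_of_basisM {f : ℕ × ℕ × List ℕ → ℕ → Bool} {RV : List ℕ} (hb : C.boundM = true)
    (hf' : RowSound C f) (hr : rowsF f C.rows RV = true) {k : ℕ}
    (h : C.basisM RV k = true) : C.basisOK k = true := by
  obtain ⟨hN, hB, hB'⟩ := boundM_spec C hb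
  unfold Cert.basisM at h
  simp only [Bool.and_eq_true] at h
  obtain ⟨⟨h1, h2⟩, h3⟩ := h
  obtain ⟨hc, hcle⟩ := coefOK_spec C h2
  unfold Cert.basisOK
  refine vz_of_dvd C hN fun i => ?_
  rw [gd_vsub, gd_vsub, gd_vsmul]
  have hp := ((pcomboM_rep C hN hB hf' _ C.rows RV h1 hr 0).1.mono (L := C.md) (by simp))
  have hle : (C.combos.getD k (0, [])).1.toNat * 1 ≤ C.md * 1 := Nat.mul_le_mul_right 1 hcle
  have hu := (PRep.unit C.md C.piv).mul (C.combos.getD k (0, [])).1.toNat
    (lt_of_le_of_lt (hle.trans (Nat.le_add_left _ _)) hB')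
  have := (hp.add hu (lt_of_le_of_lt (Nat.add_le_add_left hle _) hB')).dvd_sub
    (PRep.unit _ k) h3 i
  simp only [hc] at this
  convert this using 1
  show gd (C.comboOn _ C.rows) i - _ = _
  ring

theorem ordOK_of_ordM {f : ℕ × ℕ × List ℕ → ℕ → Bool} {RV : List ℕ} (hb : C.boundM = true)
    (hf' : RowSound C f) (hr : rowsF f C.rows RV = true)
    (h : C.ordM RV = true) : C.ordOK = true := by
  obtain ⟨hN, hB, hB'⟩ := boundM_spec C hb
  simp only [Cert.ordM, Bool.and_eq_true] at h
  obtain ⟨⟨h1, h2⟩, h3⟩ := h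
  have hle : C.ord * 1 ≤ C.md * 1 := Nat.mul_le_mul_right 1 (Nat.le_of_ble_eq_true h2)
  unfold Cert.ordOK
  refine vz_of_dvd C hN fun i => ?_
  rw [gd_vsub, gd_vsmul]
  have hp := ((pcomboM_rep C hN hB hf' _ C.rows RV h1 hr 0).1.mono (L := C.md) (by simp))
  exact hp.dvd_sub ((PRep.unit C.md C.piv).mul _
    (lt_of_le_of_lt (hle.trans (Nat.le_add_left _ _)) hB')) h3 i

/-- Continue with evaluated entries of an integer list. -/
noncomputable def forceZL {α : Type} (l : List ℤ) : (List ℤ → α) → α :=
  List.rec (motive := fun _ => (List ℤ → α) → α) (fun k => k [])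
    (fun a _ ih k => forceZ a (fun a' => ih (fun l' => k (a' :: l')))) l

theorem forceZL_eq {α : Type} : ∀ (l : List ℤ) (k : List ℤ → α), forceZL l k = k l
  | [], _ => rfl
  | a :: l, k => by
    show forceZ a (fun a' => forceZL l fun l' => k (a' :: l')) = _
    rw [forceZ_eq]
    exact forceZL_eq l fun l' => k (a :: l')

/-- Comparison of a vector with a packed one, with evaluated intermediate values. -/
noncomputable def pcongF (N dim : ℕ) : ℕ → List ℤ → Bool :=
  Nat.rec (motive := fun _ => ℕ → List ℤ → Bool)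
    (fun p e => Nat.beq p 0 && List.rec (motive := fun _ => Bool) true (fun _ _ _ => false) e)
    (fun _ r p e => forceN p fun p' => forceN (Nat.mod p' fieldMod) fun a =>
      List.rec (motive := fun _ => Bool)
        (Nat.blt a N && Nat.beq (Nat.mod (Int.natAbs (Int.sub 0 (Int.ofNat a))) N) 0 &&
          forceN (Nat.div p' fieldMod) fun q => r q [])
        (fun x xs _ => Nat.blt a N && Nat.beq (Nat.mod (Int.natAbs (Int.sub x (Int.ofNat a))) N) 0 &&
          forceN (Nat.div p' fieldMod) fun q => r q xs) e) dim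

theorem pcongF_eq (N : ℕ) : ∀ (dim p : ℕ) (e : List ℤ), pcongF N dim p e = pcong N dim p e
  | 0, _, _ => rfl
  | dim + 1, p, e => by
    cases e with
    | nil =>
      show forceN p (fun p' => forceN (Nat.mod p' fieldMod) fun a =>
        Nat.blt a N && Nat.beq (Nat.mod (Int.natAbs (Int.sub 0 (Int.ofNat a))) N) 0 &&
          forceN (Nat.div p' fieldMod) fun q => pcongF N dim q []) = _
      rw [forceN_eq, forceN_eq, forceN_eq, pcongF_eq N dim]
      rfl
    | cons x xs =>
      show forceN p (fun p' => forceN (Nat.mod p' fieldMod) fun a =>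
        Nat.blt a N && Nat.beq (Nat.mod (Int.natAbs (Int.sub x (Int.ofNat a))) N) 0 &&
          forceN (Nat.div p' fieldMod) fun q => pcongF N dim q xs) = _
      rw [forceN_eq, forceN_eq, forceN_eq, pcongF_eq N dim]
      rfl

/-- The packed table agrees with one generator of a level, with evaluated intermediate values. -/
noncomputable def Cert.pvF (PV : List (List (Arr ℕ))) (i s : ℕ) : Bool :=
  allBelow (lvAt C.D i).size fun j =>
    forceZL (entAt C.D (i, s, j)).e fun e => pcongF C.md C.dim (pvAt PV (i, s, j)) e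

theorem pvOK_of_pvF {PV : List (List (Arr ℕ))} {i : ℕ}
    (h : ∀ s ∈ (lvAt C.D i).gens, C.pvF PV i s = true) : C.pvOK PV i = true := by
  have key : ∀ G : List ℕ, (∀ s ∈ G, C.pvF PV i s = true) →
      allB (fun s => allBelow (lvAt C.D i).size fun j =>
        pcong C.md C.dim (pvAt PV (i, s, j)) (entAt C.D (i, s, j)).e) G = true := by
    intro G
    induction G with
    | nil => exact fun _ => rfl
    | cons a G ih =>
      intro hG
      show (allBelow _ _ && allB _ G) = true
      rw [ih fun x hx => hG x (List.mem_cons_of_mem _ hx), Bool.and_true, allBelow_eq_true]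
      intro j hj
      have := allBelow_eq_true.mp (hG a (List.mem_cons_self ..)) j hj
      rwa [forceZL_eq, pcongF_eq] at this
  exact key _ h

end Cfsg.Agent.StemCert
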