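import Cfsg.Agent.StemCert.Stream

/-!
A faster check of the tables: one tree per level carrying, for each entry, the target, the word and
the packed value shifted above a small digest. Only the variables of the top level are listed;
those below have smaller rank by a global bound.
-/

set_option autoImplicit false

namespace Cfsg.Agent.StemCert

open Cfsg.Agent.Compute

/-- An entry of a flat table. -/
inductive FEnt where
  | mk (jp : ℕ) (hw : List ℕ) (X : ℕ) : FEnt

/-- The missing entry. -/
def noF : FEnt := .mk 0 [] 0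

/-- The target. -/
noncomputable def FEnt.tgt (F : FEnt) : ℕ := FEnt.rec (motive := fun _ => ℕ) (fun jp _ _ => jp) F

/-- The word. -/
noncomputable def FEnt.wd (F : FEnt) : List ℕ :=
  FEnt.rec (motive := fun _ => List ℕ) (fun _ hw _ => hw) F

/-- The stored number. -/
noncomputable def FEnt.num (F : FEnt) : ℕ := FEnt.rec (motive := fun _ => ℕ) (fun _ _ X => X) F

/-- The trees of all levels. -/
abbrev FTab := List (Arr (Arr FEnt))

/-- Look up in one level. -/
noncomputable def fget (T : Arr (Arr FEnt)) (s j : ℕ) : FEnt := (T.get .nil s).get noF j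

/-- Apply a word, adding the stored numbers met. The sum is not threaded, so equal subcomputations
are shared. -/
noncomputable def actS (Ls : FTab) : List ℕ → ℕ → ℕ × ℕ :=
  List.rec (motive := fun _ => List ℕ → ℕ → ℕ × ℕ)
    (fun _ x => (x, 0))
    (fun T _ rec w x => List.rec (motive := fun _ => ℕ × ℕ) (x, 0)
      (fun s _ p => Prod.rec (motive := fun _ => ℕ × ℕ)
        (fun px pS => forceN px fun p' => forceN (Nat.shiftRight p' 16) fun t =>
          FEnt.rec (motive := fun _ => ℕ × ℕ)
            (fun jp hw X => Prod.rec (motive := fun _ => ℕ × ℕ)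
              (fun rx rS => forceN (Nat.add (Nat.add rS X) pS) fun S' =>
                (Nat.add jp (Nat.shiftLeft rx 16), S'))
              (rec hw t))
            (fget T s (Nat.mod p' 65536))) p) w) Ls

/-- The top-level entries met. -/
noncomputable def topV (T : Arr (Arr FEnt)) (w : List ℕ) (x : ℕ) : ℕ × List (ℕ × ℕ) :=
  List.rec (motive := fun _ => ℕ × List (ℕ × ℕ)) (x, [])
    (fun s _ p => forceN p.1 fun j => ((fget T s j).tgt, (s, j) :: p.2)) w

/-- The number of occurrences of a pair. -/
noncomputable def topCount (s j : ℕ) (l : List (ℕ × ℕ)) : ℕ :=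
  List.rec (motive := fun _ => ℕ) 0
    (fun q _ r => cond (Nat.beq s q.1 && Nat.beq j q.2) (Nat.succ r) r) l

variable (C : Cert)

/-- The flat table agrees with one level of the certificate. -/
noncomputable def Cert.flatB (F : FTab) (i : ℕ) : Bool :=
  allB (fun s => allBelow (lvAt C.D i).size fun j =>
    let G := fget (F.getD i .nil) s j
    Nat.beq G.tgt (entAt C.D (i, s, j)).jp && natsEq G.wd (entAt C.D (i, s, j)).hw &&
      Nat.blt (Nat.mod G.num fieldMod) C.md &&
      pcong C.md C.dim (Nat.shiftRight G.num 64) (entAt C.D (i, s, j)).e) (lvAt C.D i).gens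

/-- The flat table fits the certificate. -/
def Cert.FlatOK (F : FTab) : Prop :=
  F.length = C.D.length ∧ ∀ i < C.D.length, C.flatB F i = true

/-- The stored number of a variable. -/
noncomputable def numAt (F : FTab) (v : Var) : ℕ := (fget (F.getD v.1 .nil) v.2.1 v.2.2).num

/-- The ranks below level `i` do not exceed its bound. -/
noncomputable def Cert.rankB (bd : List ℕ) : Bool :=
  allBelow C.D.length fun l => allB (fun s => allBelow (lvAt C.D l).size fun j =>
    allBelow l fun i => Nat.ble (entAt C.D (l, s, j)).rk (bd.getD i 0)) (lvAt C.D l).gens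

variable {C}

theorem flat_spec {F : FTab} (hF : C.FlatOK F) {v : Var} (hv : IsVar C.D v) :
    (fget (F.getD v.1 .nil) v.2.1 v.2.2).tgt = (entAt C.D v).jp ∧
      (fget (F.getD v.1 .nil) v.2.1 v.2.2).wd = (entAt C.D v).hw ∧
      numAt F v % fieldMod < C.md ∧
      PRep C.md C.md (gd (entAt C.D v).e) (numAt F v / fieldMod) := by
  have h := allBelow_eq_true.mp (allB_spec (hF.2 v.1 hv.1) v.2.1 hv.2.1) v.2.2 hv.2.2
  simp only [Bool.and_eq_true] at h
  obtain ⟨⟨⟨h1, h2⟩, h3⟩, h4⟩ := h
  refine ⟨Nat.eq_of_beq_eq_true h1, natsEq_eq h2, Nat.blt_eq.mp h3, ?_⟩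
  have e : Nat.shiftRight (numAt F v) 64 = numAt F v / fieldMod := by
    show numAt F v >>> 64 = _
    rw [Nat.shiftRight_eq_div_pow, show (2 : ℕ) ^ 64 = fieldMod by norm_num]
  exact e ▸ pcong_spec h4

theorem actS_spec {F : FTab} (hF : C.FlatOK F) {m : ℕ} (hm : hwB m C.D = true) :
    ∀ (Ls : List Lv) (i : ℕ), Ls = C.D.drop i → wfB Ls = true → smallB Ls = true →
    ∀ (w x : List ℕ), (∀ s ∈ w, s ∈ headGens Ls) → Valid Ls x →
      actS (F.drop i) w (codeX x) =
        (codeX (act Ls i w x).1, ((act Ls i w x).2.map (numAt F)).sum) := by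
  intro Ls
  induction Ls with
  | nil =>
    intro i _ _ _ w x hw hx
    have hw0 : w = [] := List.eq_nil_iff_forall_not_mem.mpr fun s hs => by
      simpa [headGens] using hw s hs
    subst hw0
    cases F.drop i <;> simp [act, actS]
  | cons L Ls ih =>
    intro i hi hwf hsm w x hw hx
    obtain ⟨hpos, hw0, hword, hent, hwf'⟩ := wfB_cons hwf
    obtain ⟨-, hsz, hsm'⟩ := small_cons hsm
    have hi' : Ls = C.D.drop (i + 1) := by rw [← List.drop_drop, ← hi]; rfl
    have hilt : i < C.D.length := by
      by_contra hc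
      rw [List.drop_eq_nil_of_le (by omega)] at hi
      exact List.cons_ne_nil _ _ hi
    have hL : lvAt C.D i = L := by
      rw [lvAt, List.getD_eq_getElem _ _ hilt]
      rw [List.drop_eq_getElem_cons hilt] at hi
      exact (List.cons.inj hi).1.symm
    have hFi : F.drop i = F.getD i .nil :: F.drop (i + 1) := by
      rw [List.drop_eq_getElem_cons (hF.1 ▸ hilt), List.getD_eq_getElem _ _ (hF.1 ▸ hilt)]
    have hDrop : L :: Ls = C.D.drop i := hi
    induction w with
    | nil => rw [hFi]; simp [act, actS]
    | cons s w ihw =>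
      have hw' : ∀ t ∈ w, t ∈ headGens (L :: Ls) := fun t ht => hw t (List.mem_cons_of_mem _ ht)
      have hp := ihw hw'
      obtain ⟨hp1, -⟩ := actW_spec (fun _ _ => (0, 0, 0)) C.D hm (fun _ _ => True) trivial
        (fun _ _ => trivial) (fun _ _ _ _ _ _ => trivial) (L :: Ls) i hi hwf hsm w x hw' hx
      obtain ⟨j, rest, hj, hjlt, hrest⟩ := hp1
      have hs : s ∈ L.gens := hw s (by simp)
      obtain ⟨hjp, hhw⟩ := hent s hs j hjlt
      have hv : IsVar C.D (i, s, j) := ⟨hilt, by rw [hL]; exact hs, by rw [hL]; exact hjlt⟩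
      obtain ⟨f1, f2, -, -⟩ := flat_spec hF hv
      have hE : entAt C.D (i, s, j) = L.ent s j := by rw [entAt, hL]
      rw [hE] at f1 f2
      have he : act (L :: Ls) i (s :: w) x = ((L.ent s j).jp :: (act Ls (i + 1) (L.ent s j).hw rest).1,
          (i, s, j) :: ((act Ls (i + 1) (L.ent s j).hw rest).2 ++ (act (L :: Ls) i w x).2)) := by
        have : act (L :: Ls) i (s :: w) x =
            ((L.ent s ((act (L :: Ls) i w x).1.headD 0)).jp ::
              (act Ls (i + 1) (L.ent s ((act (L :: Ls) i w x).1.headD 0)).hw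
                (act (L :: Ls) i w x).1.tail).1,
            (i, s, (act (L :: Ls) i w x).1.headD 0) ::
              ((act Ls (i + 1) (L.ent s ((act (L :: Ls) i w x).1.headD 0)).hw
                (act (L :: Ls) i w x).1.tail).2 ++ (act (L :: Ls) i w x).2)) := forceL_eq _ _
        rw [this, hj]
        rfl
      have hr := ih (i + 1) hi' hwf' hsm' (L.ent s j).hw rest hhw hrest
      have e1 : actS (F.drop i) (s :: w) (codeX x) = Prod.rec (motive := fun _ => ℕ × ℕ)
          (fun px pS => forceN px fun p' => forceN (Nat.shiftRight p' 16) fun t =>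
            FEnt.rec (motive := fun _ => ℕ × ℕ)
              (fun jp hw X => Prod.rec (motive := fun _ => ℕ × ℕ)
                (fun rx rS => forceN (Nat.add (Nat.add rS X) pS) fun S' =>
                  (Nat.add jp (Nat.shiftLeft rx 16), S'))
                (actS (F.drop (i + 1)) hw t))
              (fget (F.getD i .nil) s (Nat.mod p' 65536))) (actS (F.drop i) w (codeX x)) := by
        rw [hFi]
        rfl
      rw [e1, hp]
      have hj0 : Nat.mod (codeX (act (L :: Ls) i w x).1) 65536 = j := by
        show codeX (act (L :: Ls) i w x).1 % 65536 = j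
        rw [hj, codeX_cons, Nat.add_mul_mod_self_left, Nat.mod_eq_of_lt (by omega)]
      have ht : Nat.shiftRight (codeX (act (L :: Ls) i w x).1) 16 = codeX rest := by
        show codeX (act (L :: Ls) i w x).1 >>> 16 = _
        rw [Nat.shiftRight_eq_div_pow, hj, codeX_cons, show (2 : ℕ) ^ 16 = 65536 by norm_num,
          Nat.add_mul_div_left _ _ (by norm_num), Nat.div_eq_of_lt (by omega), zero_add]
      simp only [forceN_eq, hj0, ht]
      have hnum : numAt F (i, s, j) = (fget (F.getD i .nil) s j).num := rfl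
      rcases hgen : fget (F.getD i .nil) s j with ⟨jp, hw2, X⟩
      rw [hgen] at f1 f2 hnum
      obtain rfl : jp = (L.ent s j).jp := f1
      obtain rfl : hw2 = (L.ent s j).hw := f2
      replace hnum : numAt F (i, s, j) = X := hnum
      dsimp only
      rw [hr, he]
      dsimp only
      refine Prod.ext ?_ ?_
      · simp only [forceN_eq, Nat.add_eq]
        rw [codeX_cons, show ∀ a, Nat.shiftLeft a 16 = a * 65536 from fun a => Nat.shiftLeft_eq a 16]
        ring
      · simp only [forceN_eq, List.map_cons, List.map_append, List.sum_cons, List.sum_append, hnum,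
          Nat.add_eq]
        ring

theorem act_level_ge : ∀ (Ls : List Lv) (i : ℕ) (w x : List ℕ),
    ∀ v ∈ (act Ls i w x).2, i ≤ v.1 := by
  intro Ls
  induction Ls with
  | nil => intro i w x v hv; simp [act] at hv
  | cons L Ls ih =>
    intro i w x
    induction w with
    | nil => intro v hv; simp [act] at hv
    | cons s w ihw =>
      intro v hv
      have : act (L :: Ls) i (s :: w) x =
          ((L.ent s ((act (L :: Ls) i w x).1.headD 0)).jp ::
            (act Ls (i + 1) (L.ent s ((act (L :: Ls) i w x).1.headD 0)).hw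
              (act (L :: Ls) i w x).1.tail).1,
          (i, s, (act (L :: Ls) i w x).1.headD 0) ::
            ((act Ls (i + 1) (L.ent s ((act (L :: Ls) i w x).1.headD 0)).hw
              (act (L :: Ls) i w x).1.tail).2 ++ (act (L :: Ls) i w x).2)) := forceL_eq _ _
      rw [this] at hv
      rcases List.mem_cons.mp hv with rfl | hv
      · exact le_rfl
      · rcases List.mem_append.mp hv with hv | hv
        · exact le_trans (Nat.le_succ i) (ih (i + 1) _ _ v hv)
        · exact ihw v hv

theorem topV_spec {F : FTab} (hF : C.FlatOK F) {m : ℕ} (hm : hwB m C.D = true)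
    {L : Lv} {Ls : List Lv} {i : ℕ} (hi : L :: Ls = C.D.drop i) (hwf : wfB (L :: Ls) = true)
    (hsm : smallB (L :: Ls) = true) (w x : List ℕ) (hw : ∀ s ∈ w, s ∈ headGens (L :: Ls))
    (hx : Valid (L :: Ls) x) :
    (topV (F.getD i .nil) w (x.headD 0)).1 = (act (L :: Ls) i w x).1.headD 0 ∧
      (∀ s j, varCount (i, s, j) (act (L :: Ls) i w x).2 =
        topCount s j (topV (F.getD i .nil) w (x.headD 0)).2) ∧
      ∀ v ∈ (act (L :: Ls) i w x).2, v.1 = i → v.2 ∈ (topV (F.getD i .nil) w (x.headD 0)).2 := by
  have hilt : i < C.D.length := by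
    by_contra hc
    rw [List.drop_eq_nil_of_le (by omega)] at hi
    exact List.cons_ne_nil _ _ hi
  have hL : lvAt C.D i = L := by
    rw [lvAt, List.getD_eq_getElem _ _ hilt]
    rw [List.drop_eq_getElem_cons hilt] at hi
    exact (List.cons.inj hi).1.symm
  induction w with
  | nil =>
    refine ⟨rfl, fun s j => rfl, fun v hv => ?_⟩
    simp [act] at hv
  | cons s w ihw =>
    have hw' : ∀ t ∈ w, t ∈ headGens (L :: Ls) := fun t ht => hw t (List.mem_cons_of_mem _ ht)
    obtain ⟨t1, t2, t3⟩ := ihw hw'
    obtain ⟨hp1, -⟩ := actW_spec (fun _ _ => (0, 0, 0)) C.D hm (fun _ _ => True) trivial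
      (fun _ _ => trivial) (fun _ _ _ _ _ _ => trivial) (L :: Ls) i hi hwf hsm w x hw' hx
    obtain ⟨j, rest, hj, hjlt, -⟩ := hp1
    have hv : IsVar C.D (i, s, j) :=
      ⟨hilt, by rw [hL]; exact hw s (by simp), by rw [hL]; exact hjlt⟩
    obtain ⟨f1, -, -, -⟩ := flat_spec hF hv
    have hE : entAt C.D (i, s, j) = L.ent s j := by rw [entAt, hL]
    rw [hE] at f1
    have he : act (L :: Ls) i (s :: w) x = ((L.ent s j).jp :: (act Ls (i + 1) (L.ent s j).hw rest).1,
        (i, s, j) :: ((act Ls (i + 1) (L.ent s j).hw rest).2 ++ (act (L :: Ls) i w x).2)) := by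
      have : act (L :: Ls) i (s :: w) x =
          ((L.ent s ((act (L :: Ls) i w x).1.headD 0)).jp ::
            (act Ls (i + 1) (L.ent s ((act (L :: Ls) i w x).1.headD 0)).hw
              (act (L :: Ls) i w x).1.tail).1,
          (i, s, (act (L :: Ls) i w x).1.headD 0) ::
            ((act Ls (i + 1) (L.ent s ((act (L :: Ls) i w x).1.headD 0)).hw
              (act (L :: Ls) i w x).1.tail).2 ++ (act (L :: Ls) i w x).2)) := forceL_eq _ _
      rw [this, hj]
      rfl
    have hj' : (topV (F.getD i .nil) w (x.headD 0)).1 = j := by rw [t1, hj]; rfl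
    have ht : topV (F.getD i .nil) (s :: w) (x.headD 0) =
        ((fget (F.getD i .nil) s j).tgt, (s, j) :: (topV (F.getD i .nil) w (x.headD 0)).2) := by
      rw [← hj']
      show forceN (topV (F.getD i .nil) w (x.headD 0)).1 (fun j => ((fget (F.getD i .nil) s j).tgt,
        (s, j) :: (topV (F.getD i .nil) w (x.headD 0)).2)) = _
      rw [forceN_eq]
    have hdeep : ∀ v ∈ (act Ls (i + 1) (L.ent s j).hw rest).2, i + 1 ≤ v.1 :=
      act_level_ge Ls (i + 1) _ _
    rw [he, ht]
    dsimp only
    refine ⟨f1, fun s' j' => ?_, fun v hv hv1 => ?_⟩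
    · have hz : ∀ (M : List Var), (∀ v ∈ M, i + 1 ≤ v.1) → ∀ M', varCount (i, s', j') (M ++ M') =
          varCount (i, s', j') M' := by
        intro M
        induction M with
        | nil => exact fun _ _ => rfl
        | cons a M ihM =>
          intro hM M'
          have hne : varEq (i, s', j') a = false := by
            cases hb : varEq (i, s', j') a with
            | false => rfl
            | true =>
              have := varEq_eq hb
              have h2 := hM a (List.mem_cons_self ..)
              rw [← this] at h2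
              exact absurd h2 (by simp)
          rw [List.cons_append, varCount_cons, hne, cond_false,
            ihM (fun v hv => hM v (List.mem_cons_of_mem _ hv)) M']
      rw [varCount_cons, hz _ hdeep, t2]
      show cond (varEq (i, s', j') (i, s, j)) _ _ = cond (Nat.beq s' s && Nat.beq j' j) _ _
      simp [varEq]
      rfl
    · rcases List.mem_cons.mp hv with rfl | hv
      · exact List.mem_cons_self ..
      · rcases List.mem_append.mp hv with hv | hv
        · have := hdeep v hv
          omega
        · exact List.mem_cons_of_mem _ (t3 v hv hv1)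

theorem numSum_spec {F : FTab} (hF : C.FlatOK F) :
    ∀ (l : List Var), (∀ v ∈ l, IsVar C.D v) → C.md * l.length < fieldMod →
      ∃ d P : ℕ, d ≤ C.md * l.length ∧ (l.map (numAt F)).sum = d + fieldMod * P ∧
        PRep C.md (C.md * l.length) (gd (vsum C.D l)) P
  | [], _, _ =>
    ⟨0, 0, Nat.zero_le _, by simp, (PRep.zero _).congr fun i => by simp [vsum, gd_nil]⟩
  | v :: l, hl, hb => by
    rw [List.length_cons, Nat.mul_succ] at hb ⊢
    obtain ⟨d, P, hd, hs, hP⟩ :=
      numSum_spec hF l (fun u hu => hl u (List.mem_cons_of_mem _ hu)) (by omega)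
    obtain ⟨-, -, hlow, hrep⟩ := flat_spec hF (hl v (List.mem_cons_self ..))
    refine ⟨numAt F v % fieldMod + d, numAt F v / fieldMod + P, by omega, ?_, ?_⟩
    · rw [List.map_cons, List.sum_cons, hs, Nat.mul_add]
      conv_lhs => rw [← Nat.mod_add_div (numAt F v) fieldMod]
      ring
    · have h1 := hrep.add hP (by omega)
      rw [show C.md * l.length + C.md = C.md + C.md * l.length by omega]
      refine h1.congr fun i => ?_
      rw [vsum_cons, gd_vadd]

/-- The sum read from `actS`. -/
theorem actS_sum {F : FTab} (hF : C.FlatOK F) {m : ℕ} (hm : hwB m C.D = true)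
    (hsm : smallB C.D = true) (hwf : wfB C.D = true) (r0 : ℕ) {w x : List ℕ}
    (hw : ∀ s ∈ w, s ∈ headGens (C.D.drop r0)) (hx : Valid (C.D.drop r0) x)
    (hbd : (C.md + 1) * (w.length * lenBd m (C.D.drop r0)) < 4611686018427387904) :
    Valid (C.D.drop r0) (act (C.D.drop r0) r0 w x).1 ∧
      (∀ v ∈ (act (C.D.drop r0) r0 w x).2, IsVar C.D v) ∧
      (actS (F.drop r0) w (codeX x)).1 = codeX (act (C.D.drop r0) r0 w x).1 ∧
      PRep C.md 4611686018427387904 (gd (vsum C.D (act (C.D.drop r0) r0 w x).2))
        (Nat.shiftRight (actS (F.drop r0) w (codeX x)).2 64) := by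
  obtain ⟨h1, h2, h3, -⟩ := actW_spec (fun _ _ => (0, 0, 0)) C.D hm (fun _ _ => True) trivial
    (fun _ _ => trivial) (fun _ _ _ _ _ _ => trivial)
    (C.D.drop r0) r0 rfl (wfB_drop r0 hwf) (smallB_drop r0 hsm) w x hw hx
  have e := actS_spec hF hm (C.D.drop r0) r0 rfl (wfB_drop r0 hwf) (smallB_drop r0 hsm) w x hw hx
  refine ⟨h1, h2, by rw [e], ?_⟩
  rw [e]
  dsimp only
  generalize (act (C.D.drop r0) r0 w x).2 = l at h2 h3
  have hlb : C.md * l.length < 4611686018427387904 :=
    lt_of_le_of_lt (Nat.mul_le_mul (Nat.le_succ _) h3) hbd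
  obtain ⟨d, P, hd, hs, hP⟩ := numSum_spec hF l h2 (lt_trans hlb (by norm_num))
  have hSv : Nat.shiftRight (l.map (numAt F)).sum 64 = P := by
    show (l.map (numAt F)).sum >>> 64 = _
    rw [hs, Nat.shiftRight_eq_div_pow, show (2 : ℕ) ^ 64 = fieldMod by norm_num,
      Nat.add_mul_div_left _ _ (by norm_num),
      Nat.div_eq_of_lt (lt_trans (lt_of_le_of_lt hd hlb) (by norm_num)), zero_add]
  rw [hSv]
  exact hP.mono hlb.le

variable (C)

/-- The check of one entry. -/
noncomputable def Cert.entF (m : ℕ) (F : FTab) (bd : List ℕ) (i s j : ℕ) : Bool :=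
  let E := entAt C.D (i, s, j)
  cond (Nat.beq E.tag 0)
    (natsEq (s :: (lvAt C.D i).word j) ((lvAt C.D i).word E.jp ++ E.hw) && C.vz E.e)
    (cond (Nat.beq E.tag 1)
      (Nat.blt E.idx C.seeds.length && varEq (C.seeds.getD E.idx (0, 0, 0)) (i, s, j) &&
        C.vz (vsub E.e (vunit (Nat.add C.nRel E.idx))))
      (Nat.blt E.idx C.nRel && Nat.beq (C.rels.getD E.idx (0, [])).1 i &&
        validB (C.D.drop i) E.at' &&
        Nat.blt (Nat.mul (Nat.add C.md 1) (Nat.mul (C.rels.getD E.idx (0, [])).2.length
          (lenBd m (C.D.drop i)))) 4611686018427387904 &&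
        Nat.blt (bd.getD i 0) E.rk &&
        forceN i fun i' =>
          (let top := (topV (F.getD i' .nil) (C.rels.getD E.idx (0, [])).2 (E.at'.headD 0)).2
           Nat.beq (topCount s j top) 1 &&
            allB (fun q => (Nat.beq s q.1 && Nat.beq j q.2) ||
              Nat.blt (entAt C.D (i', q.1, q.2)).rk E.rk) top) &&
          forceN (codeX E.at') fun x =>
            Prod.rec (motive := fun _ => Bool)
              (fun rx S => Nat.beq rx x &&
                peq C.md C.dim (Nat.shiftRight S 64) (punit E.idx))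
              (actS (F.drop i') (C.rels.getD E.idx (0, [])).2 x)))

variable {C}

theorem entOK_of_entF (hN : 0 < C.md) {m : ℕ} (hm : hwB m C.D = true) (hsm : smallB C.D = true)
    (hwf : wfB C.D = true) (hrel : allBelow C.nRel C.relOK = true) {F : FTab} (hF : C.FlatOK F)
    {bd : List ℕ} (hbd : C.rankB bd = true) {i s j : ℕ} (hv : IsVar C.D (i, s, j))
    (h : C.entF m F bd i s j = true) :
    C.entOK i s j = true := by
  unfold Cert.entF at h
  unfold Cert.entOK Cert.relRun
  cases h0 : Nat.beq (entAt C.D (i, s, j)).tag 0 with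
  | true => simpa [h0] using h
  | false =>
    cases h1 : Nat.beq (entAt C.D (i, s, j)).tag 1 with
    | true => simpa [h0, h1] using h
    | false =>
      simp only [h0, h1, cond_false, Bool.and_eq_true, forceN_eq] at h ⊢
      generalize hn : (entAt C.D (i, s, j)).idx = n at h ⊢
      generalize hat : (entAt C.D (i, s, j)).at' = at' at h ⊢
      obtain ⟨⟨⟨⟨⟨hidx, hr0⟩, hval⟩, hlen⟩, hrk⟩, ⟨hcnt, htop⟩, hA⟩ := h
      have hrn := allBelow_eq_true.mp hrel n (Nat.blt_eq.mp hidx)
      simp only [Cert.relOK, Bool.and_eq_true] at hrn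
      rw [Nat.eq_of_beq_eq_true hr0] at hrn ⊢
      have hw : ∀ t ∈ (C.rels.getD n (0, [])).2, t ∈ headGens (C.D.drop i) :=
        fun t ht => memB_eq_true.mp (allB_spec hrn.1 t ht)
      obtain ⟨hv1, hv2, hx0, hP⟩ :=
        actS_sum hF hm hsm hwf i hw (valid_of_check hval) (Nat.blt_eq.mp hlen)
      obtain ⟨L, Ls, hLs⟩ : ∃ L Ls, L :: Ls = C.D.drop i :=
        ⟨_, _, (List.drop_eq_getElem_cons hv.1).symm⟩
      obtain ⟨-, t2, t3⟩ := topV_spec hF hm hLs (hLs ▸ wfB_drop i hwf) (hLs ▸ smallB_drop i hsm)
        (C.rels.getD n (0, [])).2 at' (hLs ▸ hw) (hLs ▸ valid_of_check hval)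
      rw [hLs] at t2 t3
      generalize actS (F.drop i) (C.rels.getD n (0, [])).2 (codeX at') = A at hA hx0 hP
      obtain ⟨rx, S⟩ := A
      simp only [Bool.and_eq_true] at hA
      obtain ⟨hxe, hsum⟩ := hA
      dsimp only at hx0 hP
      have hfix := codeX_inj (smallB_drop i hsm) hv1 (valid_of_check hval)
        (hx0.symm.trans (Nat.eq_of_beq_eq_true hxe))
      have hlow : ∀ u ∈ (act (C.D.drop i) i (C.rels.getD n (0, [])).2 at').2,
          (varEq (i, s, j) u || Nat.blt (entAt C.D u).rk (entAt C.D (i, s, j)).rk) = true := by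
        intro u hu
        have hge := act_level_ge _ i _ _ u hu
        obtain ⟨hu1, hu2, hu3⟩ := hv2 u hu
        rcases hge.lt_or_eq with hlt | heq
        · have := allBelow_eq_true.mp (allB_spec (allBelow_eq_true.mp hbd u.1 hu1) u.2.1 hu2) u.2.2 hu3
          have hle := Nat.le_of_ble_eq_true (allBelow_eq_true.mp this i hlt)
          rw [show Nat.blt (entAt C.D u).rk (entAt C.D (i, s, j)).rk = true from
            Nat.blt_eq.mpr (lt_of_le_of_lt hle (Nat.blt_eq.mp hrk)), Bool.or_true]
        · obtain ⟨a, b, c⟩ := u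
          obtain rfl : i = a := heq
          have := allB_spec htop (b, c) (t3 _ hu rfl)
          simp only [Bool.or_eq_true, Bool.and_eq_true] at this ⊢
          rcases this with ⟨e1, e2⟩ | e
          · exact Or.inl (by simp [varEq, e1, e2])
          · exact Or.inr e
      refine ⟨⟨⟨⟨⟨hidx, hval⟩, ?_⟩, ?_⟩, ?_⟩, vz_of_dvd C hN fun t => ?_⟩
      · rw [hfix]; exact natsEq_self _
      · rw [Nat.beq_eq, t2]; exact Nat.eq_of_beq_eq_true hcnt
      · generalize (act (C.D.drop i) i (C.rels.getD n (0, [])).2 at').2 = l at hlow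
        induction l with
        | nil => rfl
        | cons a l ih =>
          show (_ && allB _ l) = true
          rw [ih fun u hu => hlow u (List.mem_cons_of_mem _ hu), Bool.and_true]
          exact hlow a (List.mem_cons_self ..)
      · rw [gd_vsub]
        exact hP.dvd_sub (PRep.unit _ _) hsum t

/-- The justification of one level. -/
theorem lvOK_of_entF (hN : 0 < C.md) {m : ℕ} (hm : hwB m C.D = true) (hsm : smallB C.D = true)
    (hwf : wfB C.D = true) (hrel : allBelow C.nRel C.relOK = true) {F : FTab} (hF : C.FlatOK F)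
    {bd : List ℕ} (hbd : C.rankB bd = true) {i : ℕ} (hi : i < C.D.length)
    (h : ∀ s ∈ (lvAt C.D i).gens, ∀ j < (lvAt C.D i).size, C.entF m F bd i s j = true) :
    C.lvOK i = true := by
  have key : ∀ G : List ℕ, (∀ s ∈ G, s ∈ (lvAt C.D i).gens) →
      allB (fun s => allBelow (lvAt C.D i).size (C.entOK i s)) G = true := by
    intro G
    induction G with
    | nil => exact fun _ => rfl
    | cons a G ih =>
      intro hG
      show (allBelow _ (C.entOK i a) && allB _ G) = true
      rw [ih fun x hx => hG x (List.mem_cons_of_mem _ hx), Bool.and_true, allBelow_eq_true]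
      exact fun j hj => entOK_of_entF hN hm hsm hwf hrel hF hbd
        ⟨hi, hG a (by simp), hj⟩ (h a (hG a (by simp)) j hj)
  exact key _ fun _ hs => hs

end Cfsg.Agent.StemCert
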