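import Cfsg.Agent.StemCert.Flat
import Cfsg.Agent.StemCert.MultiPacked

/-!
Rows checked in one pass, without building the lists of variables.
-/

set_option autoImplicit false

namespace Cfsg.Agent.StemCert

open Cfsg.Agent.Compute

variable (C : Cert)

/-- A row and its packed value, checked in one pass. -/
noncomputable def Cert.rowS (m : ℕ) (F : FTab) (r : ℕ × ℕ × List ℕ) (R : ℕ) :
    Bool :=
  pgood C.md C.dim R && Nat.blt (Nat.mul C.md 2) 4611686018427387904 &&
  cond (Nat.beq r.1 0)
    (Nat.blt r.2.1 C.nRel && validB (C.D.drop (C.rels.getD r.2.1 (0, [])).1) r.2.2 &&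
      Nat.blt (Nat.mul (Nat.add C.md 1) (Nat.mul (C.rels.getD r.2.1 (0, [])).2.length
        (lenBd m (C.D.drop (C.rels.getD r.2.1 (0, [])).1)))) 4611686018427387904 &&
      forceN (C.rels.getD r.2.1 (0, [])).1 fun r0 => forceN (codeX r.2.2) fun x =>
        Prod.rec (motive := fun _ => Bool)
          (fun rx S => Nat.beq rx x &&
            peq C.md C.dim (Nat.shiftRight S 64) (Nat.add R (punit r.2.1)))
          (actS (F.drop r0) (C.rels.getD r.2.1 (0, [])).2 x))
    (memB r.2.1 (headGens C.D) && validB C.D r.2.2 &&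
      allB (fun s => memB s (headGens C.D)) (C.commWord (C.comms.getD r.2.1 [])) &&
      short (C.comms.getD r.2.1 []) 1048576 &&
      Nat.blt (Nat.mul (Nat.add C.md 1) (Nat.mul (C.commWord (C.comms.getD r.2.1 [])).length
        (lenBd m C.D))) 4611686018427387904 &&
      Nat.blt (Nat.mul (Nat.add C.md 1) (lenBd m C.D)) 4611686018427387904 &&
      forceN (codeX r.2.2) fun x =>
        Prod.rec (motive := fun _ => Bool)
          (fun rx S => Prod.rec (motive := fun _ => Bool)
            (fun ry T => Nat.beq rx ry &&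
              peq C.md C.dim (Nat.shiftRight S 64)
                (Nat.add (Nat.add R (Nat.shiftRight T 64)) (C.pcomm (C.comms.getD r.2.1 []))))
            (actS F [r.2.1] x))
          (actS F (C.commWord (C.comms.getD r.2.1 [])) x))

/-- All rows, checked in one pass each. -/
noncomputable def Cert.rowsS (m : ℕ) (F : FTab) (rs : List (ℕ × ℕ × List ℕ)) :
    List ℕ → Bool :=
  List.rec (motive := fun _ => List ℕ → Bool)
    (fun RV => List.rec (motive := fun _ => Bool) true (fun _ _ _ => false) RV)
    (fun r _ rec RV => List.rec (motive := fun _ => Bool) false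
      (fun R RV' _ => C.rowS m F r R && rec RV') RV) rs

/-- The rows in two pieces. -/
theorem rowsS_append {m : ℕ} {F : FTab} :
    ∀ (rs : List (ℕ × ℕ × List ℕ)) (RV : List ℕ) (k : ℕ), rs.length = RV.length →
      C.rowsS m F (rs.take k) (RV.take k) = true → C.rowsS m F (rs.drop k) (RV.drop k) = true →
      C.rowsS m F rs RV = true
  | _, _, 0, _, _, h => h
  | [], [], _ + 1, _, _, h => h
  | [], _ :: _, _ + 1, hl, _, _ => by simp at hl
  | _ :: _, [], _ + 1, hl, _, _ => by simp at hl
  | r :: rs, R :: RV, k + 1, hl, h1, h2 => by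
    have h1' : (C.rowS m F r R && C.rowsS m F (rs.take k) (RV.take k)) = true := h1
    rw [Bool.and_eq_true] at h1'
    show (C.rowS m F r R && C.rowsS m F rs RV) = true
    rw [h1'.1, rowsS_append rs RV k (by simpa using hl) h1'.2 h2]
    rfl

variable {C}

theorem rowS_spec (hN : 0 < C.md) {m : ℕ} (hm : hwB m C.D = true) (hsm : smallB C.D = true)
    (hwf : wfB C.D = true) (hrel : allBelow C.nRel C.relOK = true) {F : FTab}
    (hF : C.FlatOK F) {r : ℕ × ℕ × List ℕ} {R : ℕ}
    (h : C.rowS m F r R = true) :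
    C.rowOK r = true ∧ PRep C.md C.md (gd (C.rowVec r)) R := by
  unfold Cert.rowS at h
  simp only [Bool.and_eq_true] at h
  obtain ⟨⟨hg, hb⟩, h⟩ := h
  replace hb : C.md * 2 < 4611686018427387904 := Nat.blt_eq.mp hb
  have hR : PRep C.md C.md (fun i => (pfld i R : ℤ)) R := fun i => ⟨pgood_spec hg i, by simp⟩
  unfold Cert.rowOK Cert.rowVec Cert.relRun
  cases h0 : Nat.beq r.1 0 with
  | true =>
    rw [h0, cond_true] at h
    simp only [Bool.and_eq_true] at h
    obtain ⟨⟨⟨hn, hval⟩, hbd⟩, h⟩ := h
    have hrn := allBelow_eq_true.mp hrel _ (Nat.blt_eq.mp hn)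
    simp only [Cert.relOK, Bool.and_eq_true] at hrn
    obtain ⟨h1, -, h4, hP⟩ := actS_sum hF hm hsm hwf _
      (fun t ht => memB_eq_true.mp (allB_spec hrn.1 t ht)) (valid_of_check hval) (Nat.blt_eq.mp hbd)
    simp only [forceN_eq] at h
    generalize actS (F.drop (C.rels.getD r.2.1 (0, [])).1)
      (C.rels.getD r.2.1 (0, [])).2 (codeX r.2.2) = A at h h4 hP
    obtain ⟨rx, S⟩ := A
    simp only [Bool.and_eq_true] at h
    obtain ⟨hx, hsum⟩ := h
    dsimp only at h4 hP
    have hfix := codeX_inj (smallB_drop _ hsm) h1 (valid_of_check hval)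
      (h4.symm.trans (Nat.eq_of_beq_eq_true hx))
    refine ⟨?_, fun i => ⟨(hR i).1, ?_⟩⟩
    · simp only [cond_true, Bool.and_eq_true]
      exact ⟨⟨hn, hval⟩, by rw [hfix]; exact natsEq_self _⟩
    · rw [cond_true, gd_vsub]
      have := hP.dvd_sub (hR.add (PRep.unit _ r.2.1)
        (show C.md + 1 < 18446744073709551616 by omega)) hsum i
      convert this using 1
      ring
  | false =>
    rw [h0, cond_false] at h
    simp only [Bool.and_eq_true] at h
    obtain ⟨⟨⟨⟨⟨⟨hk, hval⟩, hwd⟩, hsh⟩, hbd⟩, hbd'⟩, h⟩ := h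
    have hd0 : C.D.drop 0 = C.D := rfl
    obtain ⟨a1, -, a4, aP⟩ := actS_sum hF hm hsm hwf 0
      (w := C.commWord (C.comms.getD r.2.1 [])) (x := r.2.2)
      (fun t ht => by rw [hd0]; exact memB_eq_true.mp (allB_spec hwd t ht))
      (by rw [hd0]; exact valid_of_check hval) (by rw [hd0]; exact Nat.blt_eq.mp hbd)
    obtain ⟨b1, -, b4, bP⟩ := actS_sum hF hm hsm hwf 0 (w := [r.2.1]) (x := r.2.2)
      (fun t ht => by
        rw [hd0]
        obtain rfl : t = r.2.1 := by simpa using ht
        exact memB_eq_true.mp hk)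
      (by rw [hd0]; exact valid_of_check hval)
      (by rw [hd0, List.length_singleton, Nat.one_mul]; exact Nat.blt_eq.mp hbd')
    rw [hd0] at a1 a4 aP b1 b4 bP
    rw [show F.drop 0 = F from rfl] at a4 aP b4 bP
    simp only [forceN_eq] at h
    generalize actS F (C.commWord (C.comms.getD r.2.1 [])) (codeX r.2.2) = A at h a4 aP
    generalize actS F [r.2.1] (codeX r.2.2) = B at h b4 bP
    obtain ⟨rx, S⟩ := A
    obtain ⟨ry, T⟩ := B
    simp only [Bool.and_eq_true] at h
    obtain ⟨hx, hsum⟩ := h
    dsimp only at a4 aP b4 bP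
    have hfix := codeX_inj hsm a1 b1
      (a4.symm.trans ((Nat.eq_of_beq_eq_true hx).trans b4))
    refine ⟨?_, fun i => ⟨(hR i).1, ?_⟩⟩
    · simp only [cond_false, Bool.and_eq_true]
      exact ⟨⟨hk, hval⟩, by rw [hfix]; exact natsEq_self _⟩
    · have hs := short_spec hsh
      rw [cond_false, gd_vsub, gd_vadd]
      have := aP.dvd_sub ((hR.add bP
          (show C.md + 4611686018427387904 < 18446744073709551616 by omega)).add
        (pcomm_rep C (C.comms.getD r.2.1 [])
          (show 2 * (C.comms.getD r.2.1 []).length < 18446744073709551616 by omega))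
        (show C.md + 4611686018427387904 + 2 * (C.comms.getD r.2.1 []).length <
          18446744073709551616 by omega)) hsum i
      convert this using 1
      ring

/-- The side conditions and values of all rows follow from the one-pass checks. -/
theorem rows_of_rowsS (hN : 0 < C.md) {m : ℕ} (hm : hwB m C.D = true) (hsm : smallB C.D = true)
    (hwf : wfB C.D = true) (hrel : allBelow C.nRel C.relOK = true) {F : FTab}
    (hF : C.FlatOK F) :
    ∀ (rs : List (ℕ × ℕ × List ℕ)) (RP : List ℕ) (RV : List (List ℤ)),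
      C.rowsS m F rs RP = true → pcongL C.md C.dim RP RV = true →
      allB C.rowOK rs = true ∧ C.rowsV rs RV = true
  | [], [], [], _, _ => ⟨rfl, rfl⟩
  | [], [], _ :: _, _, h => by simp [pcongL] at h
  | [], _ :: _, _, h, _ => by simp [Cert.rowsS] at h
  | _ :: _, [], _, h, _ => by simp [Cert.rowsS] at h
  | _ :: _, _ :: _, [], _, h => by simp [pcongL] at h
  | r :: rs, P :: RP, R :: RV, h, h' => by
    have h1 : (C.rowS m F r P && C.rowsS m F rs RP) = true := h
    have h2 : (pcong C.md C.dim P R && pcongL C.md C.dim RP RV) = true := h'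
    rw [Bool.and_eq_true] at h1 h2
    obtain ⟨hok, hrep⟩ := rowS_spec hN hm hsm hwf hrel hF h1.1
    obtain ⟨ih1, ih2⟩ := rows_of_rowsS hN hm hsm hwf hrel hF rs RP RV h1.2 h2.2
    refine ⟨?_, ?_⟩
    · show (C.rowOK r && allB C.rowOK rs) = true
      rw [hok, ih1]
      rfl
    · show (C.vz (vsub (C.rowVec r) R) && C.rowsV rs RV) = true
      rw [ih2, Bool.and_true]
      refine vz_of_dvd C hN fun i => ?_
      rw [gd_vsub]
      have := _root_.dvd_sub (hrep i).2 ((pcong_spec h2.1) i).2
      rwa [show gd (C.rowVec r) i - (pfld i P : ℤ) - (gd R i - (pfld i P : ℤ)) =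
        gd (C.rowVec r) i - gd R i by ring] at this

end Cfsg.Agent.StemCert
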