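import Cfsg.Agent.StemCert.Multi
import Mathlib.GroupTheory.Transfer
import Mathlib.GroupTheory.Sylow

/-!
Certificates with several generators when the exponent of the kernel is known to divide `md`; primes
dividing the group order exactly once do not divide that exponent.
-/

set_option autoImplicit false

namespace Cfsg.Agent.StemCert

open Cfsg.Agent.Compute
open scoped commutatorElement

/-- The exponent of the kernel of a stem extension divides the order of the quotient, and is prime to
every prime dividing that order exactly once. -/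
theorem ker_pow_eq_one {G Γ : Type*} [Group G] [Group Γ] [Finite Γ] (σ : Γ →* G)
    (hσ : Cfsg.IsStemExtension σ) {m r : ℕ} (hm : Nat.card G = m * r)
    (hr : ∀ p : ℕ, p.Prime → p ∣ r → ¬ p ∣ m ∧ ¬ p * p ∣ r) :
    ∀ c ∈ σ.ker, c ^ m = 1 := by
  obtain ⟨hsurj, hker, hcm⟩ := hσ
  haveI : Finite G := Finite.of_surjective σ hsurj
  letI : CommGroup (Subgroup.center Γ) :=
    { (inferInstance : Group (Subgroup.center Γ)) with
      mul_comm := fun a b => Subtype.ext (Subgroup.mem_center_iff.mp b.2 a) }
  intro c hc
  have hcz : c ∈ Subgroup.center Γ := hker hc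
  have hidx : (Subgroup.center Γ).index ∣ Nat.card G := by
    refine (Subgroup.index_dvd_of_le hker).trans (dvd_of_eq ?_)
    rw [Subgroup.index_ker, MonoidHom.range_eq_top.mpr hsurj, Subgroup.card_top]
  have hpow : c ^ Nat.card G = 1 := by
    have hc1 : c ^ (Subgroup.center Γ).index = 1 := by
      have hle : commutator Γ ≤ (MonoidHom.transferCenterPow Γ).ker :=
        Abelianization.commutator_subset_ker _
      have := congrArg Subtype.val (MonoidHom.mem_ker.mp (hle (hcm hc)))
      simpa using this
    obtain ⟨d, hd⟩ := hidx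
    rw [hd, pow_mul, hc1, one_pow]
  have hord : orderOf c ∣ m * r := by
    rw [← hm]
    exact orderOf_dvd_of_pow_eq_one hpow
  refine orderOf_dvd_iff_pow_eq_one.mp (Nat.Coprime.dvd_of_dvd_mul_right ?_ hord)
  refine Nat.coprime_of_dvd fun p hp hpc hpr => ?_
  obtain ⟨hpm, hp2⟩ := hr p hp hpr
  haveI : Fact p.Prime := ⟨hp⟩
  let P : Sylow p Γ := default
  have hab : ∀ a b : (P : Subgroup Γ), a * b = b * a := by
    let f : (P : Subgroup Γ) →* G := σ.comp (P : Subgroup Γ).subtype
    have hdvd : Nat.card f.range ∣ p := by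
      obtain ⟨k, hk⟩ := (IsPGroup.iff_card.mp (P.isPGroup'.of_surjective f.rangeRestrict f.rangeRestrict_surjective))
      have hle : p ^ k ∣ Nat.card G := hk ▸ Subgroup.card_subgroup_dvd_card _
      rw [hk]
      rcases k with _ | _ | k
      · simp
      · simp
      · exfalso
        have h2 : p * p ∣ m * r := by
          rw [← hm]
          exact (dvd_trans ⟨p ^ k, by ring⟩ hle)
        have hcop : Nat.Coprime (p * p) m := Nat.Coprime.mul_left ((hp.coprime_iff_not_dvd).2 hpm)
          ((hp.coprime_iff_not_dvd).2 hpm)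
        exact hp2 (hcop.dvd_of_dvd_mul_left h2)
    haveI : IsCyclic f.range := isCyclic_of_card_dvd_prime hdvd
    intro a b
    refine commutative_of_cyclic_center_quotient f.rangeRestrict ?_ a b
    intro x hx
    rw [Subgroup.mem_center_iff]
    intro y
    have hxk : (x : Γ) ∈ σ.ker := by
      have h := congrArg Subtype.val (MonoidHom.mem_ker.mp hx)
      exact MonoidHom.mem_ker.mpr h
    exact Subtype.ext (Subgroup.mem_center_iff.mp (hker hxk) y)
  letI : CommGroup (P : Subgroup Γ) :=
    { (inferInstance : Group (P : Subgroup Γ)) with mul_comm := hab }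
  let T : Γ →* (P : Subgroup Γ) := MonoidHom.transfer (MonoidHom.id (P : Subgroup Γ))
  let z : Γ := c ^ (orderOf c / p)
  have hz : z ^ p = 1 := by
    rw [← pow_mul, Nat.div_mul_cancel hpc, pow_orderOf_eq_one]
  have hzc : z ∈ Subgroup.center Γ := pow_mem hcz _
  have hzk : z ∈ commutator Γ := pow_mem (hcm hc) _
  have hT : T z = ⟨z ^ (P : Subgroup Γ).index, MonoidHom.transfer_eq_pow_aux z fun k g₀ _ => by
      rw [mul_assoc, ← Subgroup.mem_center_iff.mp (pow_mem hzc k) g₀, inv_mul_cancel_left]⟩ :=
    MonoidHom.transfer_eq_pow (MonoidHom.id (P : Subgroup Γ)) z fun k g₀ _ => by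
      rw [mul_assoc, ← Subgroup.mem_center_iff.mp (pow_mem hzc k) g₀, inv_mul_cancel_left]
  have h1 : z ^ (P : Subgroup Γ).index = 1 := by
    have := Abelianization.commutator_subset_ker T hzk
    rw [MonoidHom.mem_ker, hT] at this
    exact congrArg Subtype.val this
  have hcop : Nat.Coprime p (P : Subgroup Γ).index := (hp.coprime_iff_not_dvd).2 P.not_dvd_index
  have hz1 : z = 1 := by
    have := pow_gcd_eq_one.mpr ⟨hz, h1⟩
    rwa [hcop.gcd_eq_one, pow_one] at this
  have hlt : orderOf c / p < orderOf c := Nat.div_lt_self (orderOf_pos c) hp.one_lt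
  exact absurd hz1 (pow_ne_one_of_lt_orderOf (Nat.div_ne_zero_iff.mpr
    ⟨hp.ne_zero, Nat.le_of_dvd (orderOf_pos c) hpc⟩) hlt)

section Main

variable {G : Type*} [Group G] (g : ℕ → G)

variable {C : Cert} {k : ℕ} {M : Multi} (hM : M.Checked C k) (hT : TableOK g C.D)
  (hF : Faithful g C.D)
  (hgen : ∀ x : G, x ∈ Submonoid.closure (g '' {s | s < k}))
  (hcomm : ∀ s, s < k → g s = commProd g (C.comms.getD s []))

include hM hT hF hgen hcomm

/-- The kernel of a finite stem extension is generated by few elements of bounded order, when `md`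
kills it. -/
theorem exists_generators_of_exp {Γ : Type*} [Group Γ] [Finite Γ] (σ : Γ →* G)
    (hσ : Cfsg.IsStemExtension σ) (hexp : ∀ c ∈ σ.ker, c ^ C.md = 1) :
    ∃ u : ℕ → Γ, (∀ r, r < M.ords.length → u r ∈ σ.ker ∧ u r ^ M.ords.getD r 0 = 1) ∧
      σ.ker ≤ Subgroup.closure (u '' {r | r < M.ords.length}) := by
  obtain ⟨hsurj, hker, hcm⟩ := hσ
  classical
  let l0 : ℕ → Γ := fun s => Function.surjInv hsurj (g s)
  have hl0 : ∀ s, σ (l0 s) = g s := fun s => Function.surjInv_eq hsurj _
  let l : ℕ → Γ := fun s => if s < k then commProd l0 (C.comms.getD s []) else l0 s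
  have map_commProd : ∀ (f : ℕ → Γ) (L : List (ℕ × ℕ)),
      σ (commProd f L) = commProd (σ ∘ f) L := fun f L => by
    simp [commProd, map_list_prod, List.map_map, Function.comp_def, map_commutatorElement]
  have hl : ∀ s, σ (l s) = g s := fun s => by
    by_cases hs : s < k
    · rw [show l s = commProd l0 (C.comms.getD s []) from if_pos hs, map_commProd,
        show σ ∘ l0 = g from funext hl0, ← hcomm s hs]
    · rw [show l s = l0 s from if_neg hs, hl0]
  have hdiff : ∀ s, ∃ z ∈ Subgroup.center Γ, l s = l0 s * z := fun s =>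
    ⟨(l0 s)⁻¹ * l s, hker (by simp [MonoidHom.mem_ker, hl, hl0]), by group⟩
  have hcomm_central : ∀ (a b z w : Γ), z ∈ Subgroup.center Γ → w ∈ Subgroup.center Γ →
      ⁅a * z, b * w⁆ = ⁅a, b⁆ := by
    intro a b z w hz hw
    have hz' := Subgroup.mem_center_iff.mp hz
    have hw' := Subgroup.mem_center_iff.mp hw
    simp only [commutatorElement_def, mul_inv_rev]
    calc a * z * (b * w) * (z⁻¹ * a⁻¹) * (w⁻¹ * b⁻¹)
        = a * (z * (b * w)) * z⁻¹ * a⁻¹ * w⁻¹ * b⁻¹ := by group
      _ = a * (b * w * z) * z⁻¹ * a⁻¹ * w⁻¹ * b⁻¹ := by rw [hz' (b * w)]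
      _ = a * b * (w * a⁻¹) * w⁻¹ * b⁻¹ := by group
      _ = a * b * (a⁻¹ * w) * w⁻¹ * b⁻¹ := by rw [hw' a⁻¹]
      _ = a * b * a⁻¹ * b⁻¹ := by group
  have hlc : ∀ s, s < k → l s = commProd l (C.comms.getD s []) := fun s hs => by
    rw [show l s = commProd l0 (C.comms.getD s []) from if_pos hs, commProd, commProd]
    congr 1
    refine List.map_congr_left fun p _ => ?_
    obtain ⟨z, hz, e1⟩ := hdiff p.1
    obtain ⟨w, hw, e2⟩ := hdiff p.2
    rw [e1, e2, hcomm_central _ _ _ _ hz hw]
  have hsound := act_sound σ hker l g hl C.D hT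
  letI : CommGroup (Subgroup.center Γ) :=
    { (inferInstance : Group (Subgroup.center Γ)) with
      mul_comm := fun a b => Subtype.ext (Subgroup.mem_center_iff.mp b.2 a) }
  let B0 : ℕ → Subgroup.center Γ := fun n =>
    if n < C.nRel then cProd l C.D (C.relRun n (C.relZero n)).2
    else cZ l C.D (C.seeds.getD (n - C.nRel) (0, 0, 0))
  let B : ℕ → Subgroup.center Γ := fun n => if (B0 n : Γ) ∈ σ.ker then B0 n else 1
  let val : List ℤ → Subgroup.center Γ := fun v => valFrom B v 0
  have hkerB : ∀ c : Subgroup.center Γ, (c : Γ) ∈ σ.ker → c ^ C.md = 1 := fun c hc =>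
    Subtype.ext (by rw [Subgroup.coe_pow, hexp _ hc, Subgroup.coe_one])
  have hvker : ∀ v, IsVar C.D v → (cZ l C.D v : Γ) ∈ σ.ker := fun v hv => by
    rw [cZ_val σ hker l g hl C.D hT hv]
    exact cRaw_mem σ l g hl C.D hT hv
  have hpker : ∀ vs, (∀ v ∈ vs, IsVar C.D v) → (cProd l C.D vs : Γ) ∈ σ.ker := fun vs hvs => by
    rw [cProd, ← Subgroup.coe_subtype, map_list_prod]
    refine list_prod_mem fun z hz => ?_
    obtain ⟨c, hc, rfl⟩ := List.mem_map.mp hz
    obtain ⟨v, hv, rfl⟩ := List.mem_map.mp hc
    exact hvker v (hvs v hv)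
  have hBm : ∀ n, B n ^ C.md = 1 := fun n => by
    by_cases h : (B0 n : Γ) ∈ σ.ker
    · rw [show B n = B0 n from if_pos h]
      exact hkerB _ h
    · rw [show B n = 1 from if_neg h, one_pow]
  have hBrel : ∀ n, n < C.nRel → evalW l (C.rels.getD n (0, [])).2 = B n ∧
      ∀ t ∈ (C.rels.getD n (0, [])).2, t ∈ headGens (C.D.drop (C.rels.getD n (0, [])).1) := by
    intro n hn
    have h := allBelow_eq_true.mp hM.rel n hn
    simp only [Cert.relOK, Bool.and_eq_true] at h
    have hmem : ∀ t ∈ (C.rels.getD n (0, [])).2,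
        t ∈ headGens (C.D.drop (C.rels.getD n (0, [])).1) :=
      fun t ht => memB_eq_true.mp (allB_spec h.1 t ht)
    refine ⟨?_, hmem⟩
    have hwf := wfB_drop (C.rels.getD n (0, [])).1 hM.wf
    obtain ⟨-, hvz, he⟩ := hsound _ _ rfl hwf _ _ hmem (valid_zero hwf)
    rw [nf_zero l hwf, mul_one] at he
    have hend := natsEq_eq h.2
    rw [Cert.relRun, Cert.relZero] at hend
    rw [hend, nf_zero l hwf, one_mul] at he
    have hB0 : B0 n = cProd l C.D (C.relRun n (C.relZero n)).2 := if_pos hn
    rw [he, show B n = B0 n from if_pos (by rw [hB0]; exact hpker _ hvz), hB0]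
    rfl
  have relEq : ∀ n, n < C.nRel → ∀ x, validB (C.D.drop (C.rels.getD n (0, [])).1) x = true →
      natsEq (C.relRun n x).1 x = true →
      cProd l C.D (C.relRun n x).2 = B n ∧ ∀ v ∈ (C.relRun n x).2, IsVar C.D v := by
    intro n hn x hx hend
    obtain ⟨hB, hmem⟩ := hBrel n hn
    obtain ⟨-, hvars, he⟩ := hsound _ _ rfl (wfB_drop _ hM.wf) _ x hmem (valid_of_check hx)
    refine ⟨Subtype.ext ?_, hvars⟩
    have hend' := natsEq_eq hend
    rw [Cert.relRun] at hend' ⊢
    rw [hend', hB, ← center_comm] at he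
    exact (mul_left_cancel he).symm
  have hsum : ∀ vs : List Var, (∀ v ∈ vs, cZ l C.D v = val (entAt C.D v).e) →
      cProd l C.D vs = val (vsum C.D vs) := by
    intro vs
    induction vs with
    | nil => intro _; rfl
    | cons v vs ih =>
      intro h
      show _ = valFrom B (vadd (entAt C.D v).e (vsum C.D vs)) 0
      rw [valFrom_vadd, cProd, List.map_cons, List.prod_cons, h v (by simp),
        show (vs.map (cZ l C.D)).prod = _ from ih fun w hw => h w (List.mem_cons_of_mem _ hw)]
  have hvar : ∀ r v, IsVar C.D v → (entAt C.D v).rk = r → cZ l C.D v = val (entAt C.D v).e := by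
    intro r
    induction r using Nat.strong_induction_on with
    | _ r ih =>
      rintro ⟨i, s, j⟩ hv hr
      have h := allBelow_eq_true.mp (allB_spec (hM.lv i hv.1) s hv.2.1) j hv.2.2
      simp only [Cert.entOK] at h
      cases h0 : Nat.beq (entAt C.D (i, s, j)).tag 0 with
      | true =>
        simp only [h0, cond_true, Bool.and_eq_true] at h
        refine Eq.trans ?_ (valFrom_vz B C hBm h.2 0).symm
        apply Subtype.ext
        rw [cZ_val σ hker l g hl C.D hT hv, cRaw, ← evalW_append, ← evalW_cons, natsEq_eq h.1,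
          inv_mul_cancel]
        rfl
      | false =>
        cases h1 : Nat.beq (entAt C.D (i, s, j)).tag 1 with
        | true =>
          simp only [h0, h1, cond_true, cond_false, Bool.and_eq_true, Nat.blt_eq] at h
          show _ = valFrom B (entAt C.D (i, s, j)).e 0
          rw [valFrom_vzsub B C hBm h.2 0, valFrom_vunit]
          have hB0 : B0 (0 + Nat.add C.nRel (entAt C.D (i, s, j)).idx) = cZ l C.D (i, s, j) := by
            rw [show B0 (0 + Nat.add C.nRel (entAt C.D (i, s, j)).idx) =
              cZ l C.D (C.seeds.getD (0 + Nat.add C.nRel (entAt C.D (i, s, j)).idx - C.nRel) (0, 0, 0))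
              from if_neg (by simp)]
            rw [show 0 + Nat.add C.nRel (entAt C.D (i, s, j)).idx - C.nRel = (entAt C.D (i, s, j)).idx
              by simp, varEq_eq h.1.2]
          rw [show B (0 + Nat.add C.nRel (entAt C.D (i, s, j)).idx) = B0 _ from
            if_pos (by rw [hB0]; exact hvker _ hv), hB0]
        | false =>
          simp only [h0, h1, cond_false, Bool.and_eq_true, Nat.blt_eq, Nat.beq_eq] at h
          obtain ⟨⟨⟨⟨⟨hn, hx⟩, hend⟩, hcnt⟩, hrk⟩, hz⟩ := h
          obtain ⟨he, hvars⟩ := relEq _ hn _ hx hend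
          obtain ⟨a, b, hab, hna, hnb⟩ := split_of_count_one hcnt
          have hothers : ∀ w ∈ a ++ b, cZ l C.D w = val (entAt C.D w).e := by
            intro w hw
            have hwm : w ∈ (C.relRun (entAt C.D (i, s, j)).idx (entAt C.D (i, s, j)).at').2 := by
              rw [hab]
              simp only [List.mem_append, List.mem_cons] at hw ⊢
              tauto
            have := allB_spec hrk w hwm
            simp only [Bool.or_eq_true, Nat.blt_eq] at this
            rcases this with h' | h'
            · rw [← varEq_eq h'] at hw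
              exact absurd hw (by simp [hna, hnb])
            · exact ih _ (hr ▸ h') w (hvars w hwm) rfl
          have e1 : valFrom B (vsum C.D (C.relRun (entAt C.D (i, s, j)).idx
              (entAt C.D (i, s, j)).at').2) 0 = B (entAt C.D (i, s, j)).idx := by
            rw [valFrom_vzsub B C hBm hz 0, valFrom_vunit, Nat.zero_add]
          have hsplit : ∀ f : Var → Subgroup.center Γ,
              ((a ++ (i, s, j) :: b).map f).prod = f (i, s, j) * ((a ++ b).map f).prod := by
            intro f; simp [mul_left_comm]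
          have hval : ∀ vs : List Var, val (vsum C.D vs) =
              (vs.map fun v => val (entAt C.D v).e).prod := by
            intro vs
            induction vs with
            | nil => rfl
            | cons v vs ihv =>
              show valFrom B (vadd (entAt C.D v).e (vsum C.D vs)) 0 = _
              rw [valFrom_vadd, List.map_cons, List.prod_cons, ← ihv]
          rw [← e1, show valFrom B _ 0 = val _ from rfl, hval, hab, cProd, hsplit, hsplit] at he
          rw [List.map_congr_left hothers] at he
          exact mul_right_cancel he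
  have hprod : ∀ vs : List Var, (∀ v ∈ vs, IsVar C.D v) → cProd l C.D vs = val (vsum C.D vs) :=
    fun vs h => hsum vs fun v hv => hvar _ v (h v hv) rfl
  have htop := hM.top
  simp only [Cert.topOK, Bool.and_eq_true] at htop
  have hmemTop : ∀ t, t < k → t ∈ headGens C.D := fun t ht =>
    memB_eq_true.mp (allBelow_eq_true.mp htop.1 t ht)
  have hltTop : ∀ t ∈ headGens C.D, t < k := fun t ht => by
    simpa [Nat.blt_eq] using allB_spec htop.2 t ht
  have hcw : ∀ L : List (ℕ × ℕ), (∀ p ∈ L, p.1 < k ∧ p.2 < k) →
      (∀ t ∈ C.commWord L, t ∈ headGens C.D) ∧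
        evalW l (C.commWord L) = commProd l L * val (C.commVec L) := by
    intro L
    induction L with
    | nil => intro _; exact ⟨by simp [Cert.commWord], by simp [Cert.commWord, Cert.commVec, evalW, commProd, val, valFrom]⟩
    | cons p L ihL =>
      intro h
      obtain ⟨h1, h2⟩ := ihL fun q hq => h q (List.mem_cons_of_mem _ hq)
      obtain ⟨ha, hb⟩ := h p (by simp)
      have hw : C.commWord (p :: L) = p.1 :: p.2 ::
          (List.replicate ((C.pows.getD p.1 (0, 0)).1 - 1) p.1 ++
            (List.replicate ((C.pows.getD p.2 (0, 0)).1 - 1) p.2 ++ C.commWord L)) := rfl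
      refine ⟨fun t ht => ?_, ?_⟩
      · rw [hw] at ht
        simp only [List.mem_cons, List.mem_append, List.mem_replicate] at ht
        rcases ht with rfl | rfl | ⟨-, rfl⟩ | ⟨-, rfl⟩ | ht
        exacts [hmemTop _ ha, hmemTop _ hb, hmemTop _ ha, hmemTop _ hb, h1 t ht]
      · have hpw : ∀ a, a < k → l a ^ ((C.pows.getD a (0, 0)).1 - 1) =
            (l a)⁻¹ * B (C.pows.getD a (0, 0)).2 := by
          intro a ha
          have hp := allBelow_eq_true.mp hM.pow a ha
          simp only [Cert.powOK, Bool.and_eq_true, Nat.blt_eq] at hp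
          obtain ⟨⟨hpos, hn⟩, hrep⟩ := hp
          rw [← (hBrel _ hn).1, natsEq_eq hrep, evalW_replicate, eq_inv_mul_iff_mul_eq, ← pow_succ',
            Nat.sub_add_cancel hpos]
        have hv : val (C.commVec (p :: L)) =
            B (C.pows.getD p.1 (0, 0)).2 * (B (C.pows.getD p.2 (0, 0)).2 * val (C.commVec L)) := by
          show valFrom B (vadd _ (vadd _ (C.commVec L))) 0 = _
          rw [valFrom_vadd, valFrom_vadd, valFrom_vunit, valFrom_vunit, Nat.zero_add, Nat.zero_add]
        rw [hw, evalW_cons, evalW_cons, evalW_append, evalW_append, evalW_replicate, evalW_replicate,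
          hpw _ ha, hpw _ hb, h2, hv, Subgroup.coe_mul, Subgroup.coe_mul,
          show commProd l (p :: L) = ⁅l p.1, l p.2⁆ * commProd l L from rfl, commutatorElement_def]
        have c1 := fun x => center_comm (B (C.pows.getD p.1 (0, 0)).2) x
        have c2 := fun x => center_comm (B (C.pows.getD p.2 (0, 0)).2) x
        calc l p.1 * (l p.2 * ((l p.1)⁻¹ * (B (C.pows.getD p.1 (0, 0)).2 : Γ) *
              ((l p.2)⁻¹ * (B (C.pows.getD p.2 (0, 0)).2 : Γ) * (commProd l L * val (C.commVec L)))))
            = l p.1 * l p.2 * (l p.1)⁻¹ * ((B (C.pows.getD p.1 (0, 0)).2 : Γ) * (l p.2)⁻¹) *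
                ((B (C.pows.getD p.2 (0, 0)).2 : Γ) * commProd l L) * val (C.commVec L) := by group
          _ = l p.1 * l p.2 * (l p.1)⁻¹ * (l p.2)⁻¹ *
                ((B (C.pows.getD p.1 (0, 0)).2 : Γ) * commProd l L) *
                ((B (C.pows.getD p.2 (0, 0)).2 : Γ)) * val (C.commVec L) := by
              rw [← c1, ← c2]; group
          _ = _ := by rw [← c1]; group
  have hrow : ∀ r ∈ C.rows, val (C.rowVec r) = 1 := by
    rintro ⟨kind, n, x⟩ hr
    have h := allB_spec hM.row _ hr
    simp only [Cert.rowOK] at h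
    simp only [Cert.rowVec]
    cases hk : Nat.beq kind 0 with
    | true =>
      simp only [hk, cond_true, Bool.and_eq_true, Nat.blt_eq] at h ⊢
      obtain ⟨⟨hn, hx⟩, hend⟩ := h
      obtain ⟨he, hvars⟩ := relEq n hn x hx hend
      show valFrom B (vadd _ (vsmul (-1) _)) 0 = 1
      rw [valFrom_vadd, valFrom_vsmul, valFrom_vunit, Nat.zero_add, zpow_neg_one, mul_inv_eq_one,
        ← he, hprod _ hvars]
    | false =>
      simp only [hk, cond_false, Bool.and_eq_true] at h ⊢
      obtain ⟨⟨hn, hx⟩, hend⟩ := h
      have hnk := hltTop n (memB_eq_true.mp hn)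
      have hpairs : ∀ p ∈ C.comms.getD n [], p.1 < k ∧ p.2 < k := fun p hp => by
        have := allB_spec (allBelow_eq_true.mp hM.comm n hnk) p hp
        simp only [Bool.and_eq_true, memB_eq_true] at this
        exact ⟨hltTop _ this.1, hltTop _ this.2⟩
      obtain ⟨hmem, hcv⟩ := hcw _ hpairs
      obtain ⟨-, v1, e1⟩ := hsound C.D 0 rfl hM.wf _ x hmem (valid_of_check hx)
      obtain ⟨-, v2, e2⟩ := hsound C.D 0 rfl hM.wf [n] x (by simpa using memB_eq_true.mp hn)
        (valid_of_check hx)
      show valFrom B (vadd _ (vsmul (-1) _)) 0 = 1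
      rw [valFrom_vadd, valFrom_vsmul, valFrom_vadd, zpow_neg_one, mul_inv_eq_one]
      refine (hprod _ v1).symm.trans (Subtype.ext ?_)
      rw [Subgroup.coe_mul]
      show _ = (val (vsum C.D _) : Γ) * val _
      rw [← hprod _ v2]
      rw [hcv, natsEq_eq hend, ← hlc n hnk] at e1
      rw [show evalW l [n] = l n by simp [evalW]] at e2
      refine mul_left_cancel (a := nf l Lv.word C.D (act C.D 0 [n] x).1) ?_
      rw [← e1, ← mul_assoc, ← e2, mul_assoc, mul_assoc, center_comm]
  let U : Subgroup (Subgroup.center Γ) :=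
    Subgroup.closure ((fun r => val (M.vecs.getD r [])) '' {r | r < M.ords.length})
  have hRV : ∀ (rs : List (ℕ × ℕ × List ℕ)) (RV : List (List ℤ)),
      (∀ r ∈ rs, val (C.rowVec r) = 1) → C.rowsV rs RV = true → ∀ R ∈ RV, val R = 1 := by
    intro rs
    induction rs with
    | nil =>
      intro RV _ h R hR
      cases RV with
      | nil => simp at hR
      | cons R' RV' => simp [Cert.rowsV] at h
    | cons r rs ihr =>
      intro RV hrs h R hR
      cases RV with
      | nil => simp at hR
      | cons R' RV' =>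
        have h' : (C.vz (vsub (C.rowVec r) R') && C.rowsV rs RV') = true := h
        rw [Bool.and_eq_true] at h'
        rcases List.mem_cons.mp hR with rfl | hR
        · exact (valFrom_vzsub B C hBm h'.1 0).symm.trans (hrs r (by simp))
        · exact ihr RV' (fun q hq => hrs q (List.mem_cons_of_mem _ hq)) h'.2 R hR
  have hone : ∀ R ∈ M.rowVals, val R = 1 := hRV C.rows M.rowVals hrow hM.rows
  have hlin : ∀ (cs : List ℤ) (RV : List (List ℤ)) (S : Subgroup (Subgroup.center Γ)),
      (∀ R ∈ RV, val R ∈ S) → val (vlin cs RV) ∈ S := by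
    intro cs
    induction cs with
    | nil => intro RV S _; exact one_mem _
    | cons c cs ihc =>
      intro RV S hS
      cases RV with
      | nil => exact one_mem _
      | cons R RV =>
        show valFrom B (vadd (vsmul c R) (vlin cs RV)) 0 ∈ S
        rw [valFrom_vadd, valFrom_vsmul]
        exact mul_mem (zpow_mem (hS R (by simp)) c) (ihc RV S fun q hq => hS q (List.mem_cons_of_mem _ hq))
  have hcombo : ∀ cs : List ℤ, val (vlin cs M.rowVals) = 1 := fun cs =>
    Subgroup.mem_bot.mp (hlin cs _ ⊥ fun R hR => Subgroup.mem_bot.mpr (hone R hR))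
  have hvecs : ∀ R ∈ M.vecs, val R ∈ U := by
    intro R hR
    obtain ⟨r, hr, rfl⟩ := List.mem_iff_getElem.mp hR
    refine Subgroup.subset_closure ⟨r, (show r < M.ords.length from hM.len ▸ hr), ?_⟩
    show val (M.vecs.getD r []) = _
    rw [List.getD_eq_getElem _ _ hr]
  have hBu : ∀ n, n < C.dim → B n ∈ U := by
    intro n hn
    have h := allBelow_eq_true.mp hM.basis n hn
    simp only [Multi.basisOK] at h
    have h2 := valFrom_vzsub B C hBm h 0
    rw [show valFrom B (vlin (M.combos.getD n ([], [])).2 M.rowVals) 0 = 1 from hcombo _, vsub,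
      valFrom_vadd, valFrom_vsmul, valFrom_vunit, Nat.zero_add, zpow_neg_one,
      eq_comm, mul_inv_eq_one] at h2
    rw [h2]
    exact hlin _ _ _ hvecs
  have hu : ∀ r, r < M.ords.length → val (M.vecs.getD r []) ^ M.ords.getD r 0 = 1 := by
    intro r hr
    have h2 := valFrom_vzsub B C hBm (allBelow_eq_true.mp hM.order r hr) 0
    rw [show valFrom B (vlin _ M.rowVals) 0 = 1 from hcombo _, valFrom_vsmul] at h2
    rw [← zpow_natCast]
    exact h2.symm
  have hcZ : ∀ v, IsVar C.D v → cZ l C.D v ∈ U := by
    intro v hv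
    induction hr : (entAt C.D v).rk using Nat.strong_induction_on generalizing v with
    | _ r ih =>
      obtain ⟨i, s, j⟩ := v
      have h := allBelow_eq_true.mp (allB_spec (hM.lv i hv.1) s hv.2.1) j hv.2.2
      simp only [Cert.entOK] at h
      cases h0 : Nat.beq (entAt C.D (i, s, j)).tag 0 with
      | true =>
        simp only [h0, cond_true, Bool.and_eq_true] at h
        rw [hvar _ _ hv rfl, show val _ = 1 from valFrom_vz B C hBm h.2 0]
        exact one_mem _
      | false =>
        cases h1 : Nat.beq (entAt C.D (i, s, j)).tag 1 with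
        | true =>
          simp only [h0, h1, cond_true, cond_false, Bool.and_eq_true, Nat.blt_eq] at h
          rw [hvar _ _ hv rfl, show val _ = _ from valFrom_vzsub B C hBm h.2 0, valFrom_vunit, Nat.zero_add]
          exact hBu (Nat.add C.nRel (entAt C.D (i, s, j)).idx) (Nat.add_lt_add_left h.1.1 _)
        | false =>
          simp only [h0, h1, cond_false, Bool.and_eq_true, Nat.blt_eq, Nat.beq_eq] at h
          obtain ⟨⟨⟨⟨⟨hn, hx⟩, hend⟩, hcnt⟩, hrk⟩, -⟩ := h
          obtain ⟨he, hvars⟩ := relEq _ hn _ hx hend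
          obtain ⟨a, b, hab, hna, hnb⟩ := split_of_count_one hcnt
          have hothers : ∀ (L : List Var), (∀ w ∈ L, w ∈ a ++ b) →
              cProd l C.D L ∈ U := by
            intro L hL
            refine list_prod_mem fun z hz => ?_
            obtain ⟨w, hw, rfl⟩ := List.mem_map.mp hz
            have hwab := hL w hw
            have hwm : w ∈ (C.relRun (entAt C.D (i, s, j)).idx (entAt C.D (i, s, j)).at').2 := by
              rw [hab]
              simp only [List.mem_append, List.mem_cons] at hwab ⊢
              tauto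
            have := allB_spec hrk w hwm
            simp only [Bool.or_eq_true, Nat.blt_eq] at this
            rcases this with h' | h'
            · rw [← varEq_eq h'] at hwab
              exact absurd hwab (by simp [hna, hnb])
            · exact ih _ (hr ▸ h') w (hvars w hwm) rfl
          rw [hab] at he
          have hB := hBu _ (lt_of_lt_of_le hn (Nat.le_add_right _ _))
          have e : cProd l C.D (a ++ (i, s, j) :: b) = cZ l C.D (i, s, j) * cProd l C.D (a ++ b) := by
            simp [cProd, mul_left_comm]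
          rw [e, ← eq_mul_inv_iff_mul_eq] at he
          rw [he]
          exact mul_mem hB (inv_mem (hothers _ fun _ h => h))
  have hvalker : ∀ (v : List ℤ) (n : ℕ), ((valFrom B v n : Subgroup.center Γ) : Γ) ∈ σ.ker := by
    intro v
    induction v with
    | nil => intro n; exact one_mem _
    | cons x v ihv =>
      intro n
      rw [valFrom, Subgroup.coe_mul, Subgroup.coe_zpow]
      refine mul_mem (zpow_mem ?_ _) (ihv _)
      show ((if (B0 n : Γ) ∈ σ.ker then B0 n else 1 : Subgroup.center Γ) : Γ) ∈ σ.ker
      split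
      · assumption
      · exact one_mem _
  refine ⟨fun r => (val (M.vecs.getD r []) : Γ), fun r hr => ⟨hvalker _ _, ?_⟩, fun a ha => ?_⟩
  · rw [← Subgroup.coe_pow, hu r hr, Subgroup.coe_one]
  · have hgenΓ : ∀ x : Γ, ∃ y ∈ Subgroup.closure (l '' {s | s < k}), ∃ z ∈ Subgroup.center Γ,
        x = y * z := by
      intro x
      have key : ∀ t ∈ Submonoid.closure (g '' {s | s < k}),
          ∃ y ∈ Subgroup.closure (l '' {s | s < k}), σ y = t := by
        intro t ht
        induction ht using Submonoid.closure_induction with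
        | mem t ht =>
          obtain ⟨s, hs, rfl⟩ := ht
          exact ⟨l s, Subgroup.subset_closure ⟨s, hs, rfl⟩, hl s⟩
        | one => exact ⟨1, one_mem _, map_one σ⟩
        | mul p q _ _ hp hq =>
          obtain ⟨y, hy, rfl⟩ := hp
          obtain ⟨y', hy', rfl⟩ := hq
          exact ⟨y * y', mul_mem hy hy', map_mul σ y y'⟩
      obtain ⟨y, hy, hyx⟩ := key _ (hgen (σ x))
      exact ⟨y, hy, y⁻¹ * x, hker (by simp [MonoidHom.mem_ker, hyx]), by group⟩
    have haC : a ∈ Subgroup.closure (l '' {s | s < k}) := by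
      have hle : commutator Γ ≤ Subgroup.closure (l '' {s | s < k}) := by
        rw [commutator_def, Subgroup.commutator_le]
        intro x _ y _
        obtain ⟨x', hx', z, hz, rfl⟩ := hgenΓ x
        obtain ⟨y', hy', w, hw, rfl⟩ := hgenΓ y
        rw [hcomm_central _ _ _ _ hz hw, commutatorElement_def]
        exact mul_mem (mul_mem (mul_mem hx' hy') (inv_mem hx')) (inv_mem hy')
      exact hle (hcm ha)
    rw [← Subgroup.mem_toSubmonoid, Subgroup.closure_toSubmonoid_of_finite] at haC
    obtain ⟨L, hL, rfl⟩ := Submonoid.exists_list_of_mem_closure haC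
    obtain ⟨w, hwk, rfl⟩ : ∃ w : List ℕ, (∀ s ∈ w, s < k) ∧ L = w.map l := by
      clear ha haC
      induction L with
      | nil => exact ⟨[], by simp, rfl⟩
      | cons x L ihL =>
        obtain ⟨s, hs, rfl⟩ := hL x (by simp)
        obtain ⟨w, hw, rfl⟩ := ihL fun y hy => hL y (List.mem_cons_of_mem _ hy)
        exact ⟨s :: w, fun t ht => by rcases List.mem_cons.mp ht with rfl | ht; exacts [hs, hw t ht],
          rfl⟩
    obtain ⟨hv, hvars, he⟩ := hsound C.D 0 rfl hM.wf w (List.replicate C.D.length 0)
      (fun s hs => hmemTop s (hwk s hs)) (valid_zero hM.wf)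
    rw [nf_zero l hM.wf, mul_one] at he
    have hsig := congrArg σ he
    rw [map_mul, map_nf, show σ ∘ l = g from funext hl] at hsig
    have hc1 : σ (cProd l C.D (act C.D 0 w (List.replicate C.D.length 0)).2 : Γ) = 1 := by
      refine MonoidHom.mem_ker.mp ?_
      rw [cProd, ← Subgroup.coe_subtype, map_list_prod]
      refine list_prod_mem fun z hz => ?_
      obtain ⟨c, hc, rfl⟩ := List.mem_map.mp hz
      obtain ⟨v, hv', rfl⟩ := List.mem_map.mp hc
      rw [Subgroup.coe_subtype, cZ_val σ hker l g hl C.D hT (hvars v hv')]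
      exact cRaw_mem σ l g hl C.D hT (hvars v hv')
    rw [hc1, mul_one, show σ (evalW l w) = 1 from MonoidHom.mem_ker.mp ha] at hsig
    have h0 := hF _ hv hsig.symm
    rw [h0, nf_zero l hM.wf, one_mul] at he
    have hmem : cProd l C.D (act C.D 0 w (List.replicate C.D.length 0)).2 ∈
        U := list_prod_mem fun z hz => by
      obtain ⟨v, hv', rfl⟩ := List.mem_map.mp hz
      exact hcZ v (hvars v hv')
    have himg := Subgroup.mem_map_of_mem (Subgroup.center Γ).subtype hmem
    rw [MonoidHom.map_closure, Set.image_image] at himg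
    have hcoe : (Subgroup.center Γ).subtype
        (cProd l C.D (act C.D 0 w (List.replicate C.D.length 0)).2) = (evalW l w : Γ) := he.symm
    rw [hcoe] at himg
    exact himg

end Main

end Cfsg.Agent.StemCert
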