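import Cfsg.Agent.StemCert.Defs
import Cfsg.Prelude.Def_KGroupFacts

/-! Soundness of the certificates. -/

set_option autoImplicit false

namespace Cfsg.Agent.StemCert

open Cfsg.Agent.Compute
open scoped commutatorElement

theorem natsEq_eq : ∀ {a b : List ℕ}, natsEq a b = true → a = b
  | [], [], _ => rfl
  | [], _ :: _, h => by simp [natsEq] at h
  | _ :: _, [], h => by simp [natsEq] at h
  | x :: a, y :: b, h => by
    have h' : (Nat.beq x y && natsEq a b) = true := h
    rw [Bool.and_eq_true] at h'
    rw [Nat.eq_of_beq_eq_true h'.1, natsEq_eq h'.2]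

theorem allB_spec {α : Type} {f : α → Bool} :
    ∀ {l : List α}, allB f l = true → ∀ x ∈ l, f x = true
  | [], _, _, hx => by simp at hx
  | a :: l, h, x, hx => by
    have h' : (f a && allB f l) = true := h
    rw [Bool.and_eq_true] at h'
    rcases List.mem_cons.mp hx with rfl | hx
    exacts [h'.1, allB_spec h'.2 x hx]

theorem varEq_eq {a b : Var} (h : varEq a b = true) : a = b := by
  simp only [varEq, Bool.and_eq_true, Nat.beq_eq] at h
  exact Prod.ext h.1.1 (Prod.ext h.1.2 h.2)

theorem varEq_self (a : Var) : varEq a a = true := by simp [varEq, Nat.beq_eq]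

theorem forceN_eq {α : Type} (n : ℕ) (k : ℕ → α) : forceN n k = k n := by
  cases n <;> rfl

theorem forceL_eq {α : Type} : ∀ (l : List ℕ) (k : List ℕ → α), forceL l k = k l
  | [], _ => rfl
  | a :: l, k => by
    show forceN a (fun a' => forceL l fun l' => k (a' :: l')) = _
    rw [forceN_eq]
    exact forceL_eq l fun l' => k (a :: l')

theorem forceZ_eq {α : Type} (z : ℤ) (k : ℤ → α) : forceZ z k = k z := by
  cases z with
  | ofNat n => exact forceN_eq n fun m => k (Int.ofNat m)
  | negSucc n => exact forceN_eq n fun m => k (Int.negSucc m)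

/-- A word in a family of elements. -/
def evalW {H : Type*} [Group H] (g : ℕ → H) (w : List ℕ) : H := (w.map g).prod

theorem evalW_append {H : Type*} [Group H] (g : ℕ → H) (a b : List ℕ) :
    evalW g (a ++ b) = evalW g a * evalW g b := by simp [evalW]

theorem evalW_cons {H : Type*} [Group H] (g : ℕ → H) (s : ℕ) (b : List ℕ) :
    evalW g (s :: b) = g s * evalW g b := by simp [evalW]

theorem evalW_replicate {H : Type*} [Group H] (g : ℕ → H) (n s : ℕ) :
    evalW g (List.replicate n s) = g s ^ n := by simp [evalW]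

theorem map_evalW {H K : Type*} [Group H] [Group K] (f : H →* K) (g : ℕ → H) (w : List ℕ) :
    f (evalW g w) = evalW (f ∘ g) w := by simp [evalW, map_list_prod, List.map_map]

/-- The product along a normal form. -/
def nf {H : Type*} [Group H] (g : ℕ → H) (word : Lv → ℕ → List ℕ) : List Lv → List ℕ → H
  | [], _ => 1
  | L :: Ls, x => evalW g (word L (x.headD 0)) * nf g word Ls x.tail

theorem map_nf {H K : Type*} [Group H] [Group K] (f : H →* K) (g : ℕ → H)
    (word : Lv → ℕ → List ℕ) : ∀ (Ls : List Lv) (x : List ℕ),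
    f (nf g word Ls x) = nf (f ∘ g) word Ls x
  | [], _ => map_one f
  | L :: Ls, x => by rw [nf, nf, map_mul, map_evalW, map_nf f g word Ls]

theorem wfB_cons {L : Lv} {Ls : List Lv} (h : wfB (L :: Ls) = true) :
    0 < L.size ∧ L.word 0 = [] ∧ (∀ j < L.size, ∀ s ∈ L.word j, s ∈ L.gens) ∧
      (∀ s ∈ L.gens, ∀ j < L.size,
        (L.ent s j).jp < L.size ∧ ∀ t ∈ (L.ent s j).hw, t ∈ headGens Ls) ∧ wfB Ls = true := by
  have h' : (Nat.blt 0 L.size && natsEq (L.word 0) [] &&
      allBelow L.size (fun j => allB (fun s => memB s L.gens) (L.word j)) &&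
      allB (fun s => allBelow L.size fun j =>
        Nat.blt (L.ent s j).jp L.size && allB (fun t => memB t (headGens Ls)) (L.ent s j).hw) L.gens &&
      wfB Ls) = true := h
  simp only [Bool.and_eq_true, Nat.blt_eq] at h'
  obtain ⟨⟨⟨⟨h1, h2⟩, h3⟩, h4⟩, h5⟩ := h'
  refine ⟨h1, natsEq_eq h2,
    fun j hj s hs => memB_eq_true.mp (allB_spec (allBelow_eq_true.mp h3 j hj) s hs),
    fun s hs j hj => ?_, h5⟩
  have := allBelow_eq_true.mp (allB_spec h4 s hs) j hj
  simp only [Bool.and_eq_true, Nat.blt_eq] at this
  exact ⟨this.1, fun t ht => memB_eq_true.mp (allB_spec this.2 t ht)⟩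

theorem wfB_drop : ∀ {Ls : List Lv} (i : ℕ), wfB Ls = true → wfB (Ls.drop i) = true
  | [], i, _ => by rw [List.drop_nil]; rfl
  | _ :: _, 0, h => h
  | _ :: _, i + 1, h => wfB_drop i (wfB_cons h).2.2.2.2

/-- A valid normal form. -/
def Valid : List Lv → List ℕ → Prop
  | [], x => x = []
  | L :: Ls, x => ∃ j r, x = j :: r ∧ j < L.size ∧ Valid Ls r

theorem valid_of_check : ∀ {Ls : List Lv} {x : List ℕ}, validB Ls x = true → Valid Ls x
  | [], _, h => natsEq_eq h
  | _ :: _, [], h => by simp [validB] at h
  | L :: Ls, j :: r, h => by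
    have h' : (Nat.blt j L.size && validB Ls r) = true := h
    simp only [Bool.and_eq_true, Nat.blt_eq] at h'
    exact ⟨j, r, rfl, h'.1, valid_of_check h'.2⟩

theorem valid_zero : ∀ {Ls : List Lv}, wfB Ls = true → Valid Ls (List.replicate Ls.length 0)
  | [], _ => rfl
  | _ :: _, h => ⟨0, _, rfl, (wfB_cons h).1, valid_zero (wfB_cons h).2.2.2.2⟩

theorem nf_zero {H : Type*} [Group H] (g : ℕ → H) : ∀ {Ls : List Lv}, wfB Ls = true →
    nf g Lv.word Ls (List.replicate Ls.length 0) = 1
  | [], _ => rfl
  | L :: Ls, h => by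
    simp only [List.length_cons, List.replicate_succ, nf, List.headD_cons, List.tail_cons]
    rw [(wfB_cons h).2.1, nf_zero g (wfB_cons h).2.2.2.2]
    simp [evalW]

/-- A variable of the tables. -/
def IsVar (D : List Lv) (v : Var) : Prop :=
  v.1 < D.length ∧ v.2.1 ∈ (lvAt D v.1).gens ∧ v.2.2 < (lvAt D v.1).size

/-- The table identities in the group. -/
def TableOK {G : Type*} [Group G] (g : ℕ → G) (D : List Lv) : Prop :=
  ∀ v : Var, IsVar D v → g v.2.1 * evalW g ((lvAt D v.1).word v.2.2) =
    evalW g ((lvAt D v.1).word (entAt D v).jp) * evalW g (entAt D v).hw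

section

variable {Γ G : Type*} [Group Γ] [Group G] (σ : Γ →* G) (hker : σ.ker ≤ Subgroup.center Γ)
  (l : ℕ → Γ) (g : ℕ → G) (hl : ∀ s, σ (l s) = g s) (D : List Lv)

/-- The central element of a variable, in `Γ`. -/
noncomputable def cRaw (v : Var) : Γ :=
  (evalW l ((lvAt D v.1).word (entAt D v).jp) * evalW l (entAt D v).hw)⁻¹ *
    (l v.2.1 * evalW l ((lvAt D v.1).word v.2.2))

include hl in
theorem comp_eq : σ ∘ l = g := funext hl

include hl in
theorem cRaw_mem (hT : TableOK g D) {v : Var} (hv : IsVar D v) : cRaw l D v ∈ σ.ker := by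
  rw [MonoidHom.mem_ker, cRaw, map_mul, map_inv, map_mul, map_mul, map_evalW, map_evalW, map_evalW,
    comp_eq σ l g hl, hl, inv_mul_eq_one, hT v hv]

open Classical in
/-- The central element of a variable. -/
noncomputable def cZ (v : Var) : Subgroup.center Γ :=
  if h : cRaw l D v ∈ Subgroup.center Γ then ⟨_, h⟩ else 1

/-- The product of the variables in a list. -/
noncomputable def cProd (vs : List Var) : Subgroup.center Γ := (vs.map (cZ l D)).prod

theorem cProd_append (a b : List Var) : cProd l D (a ++ b) = cProd l D a * cProd l D b := by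
  simp [cProd]

include hl hker in
theorem cZ_val (hT : TableOK g D) {v : Var} (hv : IsVar D v) :
    (cZ l D v : Γ) = cRaw l D v := by
  rw [cZ, dif_pos (hker (cRaw_mem σ l g hl D hT hv))]

theorem center_comm (z : Subgroup.center Γ) (x : Γ) : x * z = z * x :=
  Subgroup.mem_center_iff.mp z.2 x

include hl hker in
/-- Evaluation of a word on a normal form. -/
theorem act_sound (hT : TableOK g D) : ∀ (Ls : List Lv) (i : ℕ), Ls = D.drop i → wfB Ls = true →
    ∀ (w x : List ℕ), (∀ s ∈ w, s ∈ headGens Ls) → Valid Ls x →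
      Valid Ls (act Ls i w x).1 ∧ (∀ v ∈ (act Ls i w x).2, IsVar D v) ∧
        evalW l w * nf l Lv.word Ls x = nf l Lv.word Ls (act Ls i w x).1 * cProd l D (act Ls i w x).2 := by
  intro Ls
  induction Ls with
  | nil =>
    intro i _ _ w x hw hx
    have hw0 : w = [] := List.eq_nil_iff_forall_not_mem.mpr fun s hs => by
      simpa [headGens] using hw s hs
    subst hw0
    refine ⟨hx, fun v hv => ?_, ?_⟩
    · simp [act] at hv
    · simp [act, nf, evalW, cProd]
  | cons L Ls ih =>
    intro i hi hwf w x hw hx
    obtain ⟨hpos, hw0, hword, hent, hwf'⟩ := wfB_cons hwf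
    have hi' : Ls = D.drop (i + 1) := by
      rw [← List.drop_drop, ← hi]; rfl
    have hilt : i < D.length := by
      by_contra hc
      rw [List.drop_eq_nil_of_le (by omega)] at hi
      exact List.cons_ne_nil _ _ hi
    have hL : lvAt D i = L := by
      rw [lvAt, List.getD_eq_getElem _ _ hilt]
      rw [List.drop_eq_getElem_cons hilt] at hi
      exact (List.cons.inj hi).1.symm
    induction w with
    | nil => exact ⟨hx, fun v hv => by simp [act] at hv, by simp [act, evalW, cProd]⟩
    | cons s w ihw =>
      obtain ⟨hp1, hp2, hp3⟩ := ihw fun t ht => hw t (List.mem_cons_of_mem _ ht)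
      generalize hp : act (L :: Ls) i w x = p at hp1 hp2 hp3
      obtain ⟨j, rest, hj, hjlt, hrest⟩ := hp1
      have hs : s ∈ L.gens := hw s (by simp)
      obtain ⟨hjp, hhw⟩ := hent s hs j hjlt
      have hv : IsVar D (i, s, j) := ⟨hilt, by rw [hL]; exact hs, by rw [hL]; exact hjlt⟩
      have hE : entAt D (i, s, j) = L.ent s j := by rw [entAt, hL]
      have he : act (L :: Ls) i (s :: w) x = ((L.ent s j).jp :: (act Ls (i + 1) (L.ent s j).hw rest).1,
          (i, s, j) :: ((act Ls (i + 1) (L.ent s j).hw rest).2 ++ p.2)) := by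
        have : act (L :: Ls) i (s :: w) x = ((L.ent s (p.1.headD 0)).jp ::
            (act Ls (i + 1) (L.ent s (p.1.headD 0)).hw p.1.tail).1, (i, s, p.1.headD 0) ::
              ((act Ls (i + 1) (L.ent s (p.1.headD 0)).hw p.1.tail).2 ++ p.2)) := by
          rw [← hp]
          exact forceL_eq _ _
        rw [this, hj]
        rfl
      obtain ⟨hr1, hr2, hr3⟩ := ih (i + 1) hi' hwf' _ rest hhw hrest
      rw [he]
      refine ⟨⟨_, _, rfl, hjp, hr1⟩, ?_, ?_⟩
      · intro v hv'
        rcases List.mem_cons.mp hv' with rfl | hv'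
        · exact hv
        · rcases List.mem_append.mp hv' with h | h
          exacts [hr2 v h, hp2 v h]
      · rw [evalW_cons, mul_assoc, hp3, hj]
        simp only [nf, List.headD_cons, List.tail_cons]
        have hc : cProd l D ((i, s, j) :: ((act Ls (i + 1) (L.ent s j).hw rest).2 ++ p.2)) =
            cZ l D (i, s, j) * (cProd l D (act Ls (i + 1) (L.ent s j).hw rest).2 * cProd l D p.2) := by
          rw [← cProd_append]; simp [cProd]
        rw [hc, Subgroup.coe_mul, Subgroup.coe_mul]
        have hcv := cZ_val σ hker l g hl D hT hv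
        rw [cRaw, hE] at hcv
        simp only [hL] at hcv
        have hkey : l s * evalW l (L.word j) =
            evalW l (L.word (L.ent s j).jp) * evalW l (L.ent s j).hw * cZ l D (i, s, j) := by
          rw [hcv, mul_inv_cancel_left]
        simp only [mul_assoc]
        rw [← mul_assoc (l s), hkey]
        simp only [mul_assoc]
        congr 1
        rw [← mul_assoc ((cZ l D (i, s, j) : Γ)), ← center_comm (cZ l D (i, s, j)), mul_assoc,
          ← mul_assoc (evalW l (L.ent s j).hw), hr3, mul_assoc]
        congr 1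
        rw [← mul_assoc, ← mul_assoc, center_comm (cZ l D (i, s, j))]

end

/-- The value of an integer vector in a commutative group. -/
def valFrom {A : Type*} [CommGroup A] (B : ℕ → A) : List ℤ → ℕ → A
  | [], _ => 1
  | a :: v, n => B n ^ a * valFrom B v (n + 1)

section

variable {A : Type*} [CommGroup A] (B : ℕ → A)

theorem valFrom_vadd : ∀ (a b : List ℤ) (n : ℕ),
    valFrom B (vadd a b) n = valFrom B a n * valFrom B b n
  | [], b, n => (one_mul _).symm
  | x :: a, [], n => (mul_one _).symm
  | x :: a, y :: b, n => by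
    rw [show vadd (x :: a) (y :: b) = Int.add x y :: vadd a b from
      forceZ_eq (Int.add x y) fun z => z :: vadd a b]
    rw [valFrom, valFrom, valFrom, valFrom_vadd a b, show Int.add x y = x + y from rfl, zpow_add]
    exact mul_mul_mul_comm _ _ _ _

theorem valFrom_vsmul (c : ℤ) : ∀ (a : List ℤ) (n : ℕ), valFrom B (vsmul c a) n = valFrom B a n ^ c
  | [], n => (one_zpow c).symm
  | x :: a, n => by
    rw [show vsmul c (x :: a) = Int.mul c x :: vsmul c a from
      forceZ_eq (Int.mul c x) fun z => z :: vsmul c a]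
    rw [valFrom, valFrom, valFrom_vsmul c a, mul_zpow, ← zpow_mul, show Int.mul c x = c * x from rfl,
      mul_comm c x]

theorem valFrom_vunit : ∀ (k n : ℕ), valFrom B (vunit k) n = B (n + k)
  | 0, n => by simp [vunit, valFrom]
  | k + 1, n => by
    show valFrom B (0 :: vunit k) n = _
    rw [valFrom, zpow_zero, one_mul, valFrom_vunit k]
    congr 1
    omega

theorem valFrom_vzero : ∀ {a : List ℤ}, vzero a = true → ∀ n, valFrom B a n = 1
  | [], _, _ => rfl
  | x :: a, h, n => by
    have h' : (Int.rec (motive := fun _ => Bool) (fun n => Nat.beq n 0) (fun _ => false) x &&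
      vzero a) = true := h
    rw [Bool.and_eq_true] at h'
    have hx : x = 0 := by
      cases x with
      | ofNat m => rw [Nat.eq_of_beq_eq_true h'.1]; rfl
      | negSucc m => exact absurd h'.1 (by simp)
    rw [valFrom, valFrom_vzero h'.2, hx, zpow_zero, one_mul]

theorem valFrom_vsub {a b : List ℤ} (h : vzero (vsub a b) = true) (n : ℕ) :
    valFrom B a n = valFrom B b n := by
  have := valFrom_vzero B h n
  rw [vsub, valFrom_vadd, valFrom_vsmul, zpow_neg_one, mul_inv_eq_one] at this
  exact this

end

theorem valFrom_vz {A : Type*} [CommGroup A] (B : ℕ → A) (C : Cert) (hB : ∀ n, B n ^ C.md = 1) :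
    ∀ {a : List ℤ}, C.vz a = true → ∀ n, valFrom B a n = 1 := by
  intro a h
  rw [Cert.vz] at h
  cases h0 : Nat.beq C.md 0 with
  | true => exact valFrom_vzero B (by simpa [h0] using h)
  | false =>
    rw [h0, cond_false] at h
    induction a with
    | nil => intro n; rfl
    | cons x a ih =>
      intro n
      have h' : (Nat.beq (Nat.mod (Int.natAbs x) C.md) 0 &&
        allB (fun x => Nat.beq (Nat.mod (Int.natAbs x) C.md) 0) a) = true := h
      simp only [Bool.and_eq_true, Nat.beq_eq] at h'
      obtain ⟨c, hc⟩ : (C.md : ℤ) ∣ x :=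
        Int.natCast_dvd.mpr (Nat.dvd_of_mod_eq_zero h'.1)
      rw [valFrom, ih h'.2, mul_one, hc, zpow_mul, zpow_natCast, hB, one_zpow]

theorem valFrom_vzsub {A : Type*} [CommGroup A] (B : ℕ → A) (C : Cert) (hB : ∀ n, B n ^ C.md = 1)
    {a b : List ℤ} (h : C.vz (vsub a b) = true) (n : ℕ) : valFrom B a n = valFrom B b n := by
  have := valFrom_vz B C hB h n
  rw [vsub, valFrom_vadd, valFrom_vsmul, zpow_neg_one, mul_inv_eq_one] at this
  exact this

/-- The product of the commutators of a list of pairs. -/
def commProd {H : Type*} [Group H] (g : ℕ → H) (l : List (ℕ × ℕ)) : H :=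
  (l.map fun p => ⁅g p.1, g p.2⁆).prod

/-- The checks on a certificate. -/
structure Cert.Checked (C : Cert) (k : ℕ) : Prop where
  wf : wfB C.D = true
  top : C.topOK k = true
  rel : allBelow C.nRel C.relOK = true
  pow : allBelow k C.powOK = true
  comm : allBelow k C.commOK = true
  lv : ∀ i < C.D.length, C.lvOK i = true
  row : allB C.rowOK C.rows = true
  basis : allBelow C.dim C.basisOK = true
  order : C.ordOK = true
  piv_lt : 0 < C.ord

theorem varCount_cons (v w : Var) (l : List Var) :
    varCount v (w :: l) = cond (varEq v w) (varCount v l + 1) (varCount v l) := rfl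

theorem varCount_eq_zero : ∀ {v : Var} {l : List Var}, varCount v l = 0 → v ∉ l
  | _, [], _ => by simp
  | v, w :: l, h => by
    rw [varCount_cons] at h
    cases he : varEq v w with
    | true => rw [he] at h; simp at h
    | false =>
      rw [he] at h
      intro hm
      rcases List.mem_cons.mp hm with rfl | hm
      · rw [varEq_self] at he; exact absurd he (by simp)
      · exact varCount_eq_zero h hm

theorem split_of_count_one : ∀ {v : Var} {l : List Var}, varCount v l = 1 →
    ∃ a b, l = a ++ v :: b ∧ v ∉ a ∧ v ∉ b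
  | _, [], h => by simp [varCount] at h
  | v, w :: l, h => by
    rw [varCount_cons] at h
    cases he : varEq v w with
    | true =>
      rw [he] at h
      exact ⟨[], l, by rw [varEq_eq he]; rfl, by simp, varCount_eq_zero (by simpa using h)⟩
    | false =>
      rw [he] at h
      obtain ⟨a, b, rfl, ha, hb⟩ := split_of_count_one (v := v) (l := l) h
      refine ⟨w :: a, b, rfl, ?_, hb⟩
      intro hm
      rcases List.mem_cons.mp hm with rfl | hm
      · rw [varEq_self] at he; exact absurd he (by simp)
      · exact ha hm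

section Main

variable {G : Type*} [Group G] (g : ℕ → G)

/-- No non-trivial valid normal form evaluates to 1. -/
def Faithful (D : List Lv) : Prop :=
  ∀ x, Valid D x → nf g Lv.word D x = 1 → x = List.replicate D.length 0

variable {C : Cert} {k : ℕ} (hC : C.Checked k) (hT : TableOK g C.D) (hF : Faithful g C.D)
  (hgen : ∀ x : G, x ∈ Submonoid.closure (g '' {s | s < k}))
  (hcomm : ∀ s, s < k → g s = commProd g (C.comms.getD s []))
  (hmd : Nat.card G ∣ C.md)

include hC hT hF hgen hcomm hmd

/-- The kernel of a finite stem extension is generated by one element of bounded order. -/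
theorem exists_generator {Γ : Type*} [Group Γ] [Finite Γ] (σ : Γ →* G)
    (hσ : Cfsg.IsStemExtension σ) :
    ∃ u : Γ, u ^ C.ord = 1 ∧ σ.ker ≤ Subgroup.zpowers u := by
  obtain ⟨hsurj, hker, hcm⟩ := hσ
  classical
  let l0 : ℕ → Γ := fun s => Function.surjInv hsurj (g s)
  have hl0 : ∀ s, σ (l0 s) = g s := fun s => Function.surjInv_eq hsurj _
  let l : ℕ → Γ := fun s => if s < k then commProd l0 (C.comms.getD s []) else l0 s
  have map_commProd : ∀ (f : ℕ → Γ) (L : List (ℕ × ℕ)),
      σ (commProd f L) = commProd (σ ∘ f) L := fun f L => by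
    simp [commProd, map_list_prod, List.map_map, Function.comp_def, map_commutatorElement]
  have hl : ∀ s, σ (l s) = g s := fun s => by
    by_cases hs : s < k
    · rw [show l s = commProd l0 (C.comms.getD s []) from if_pos hs, map_commProd,
        show σ ∘ l0 = g from funext hl0, ← hcomm s hs]
    · rw [show l s = l0 s from if_neg hs, hl0]
  have hdiff : ∀ s, ∃ z ∈ Subgroup.center Γ, l s = l0 s * z := fun s =>
    ⟨(l0 s)⁻¹ * l s, hker (by simp [MonoidHom.mem_ker, hl, hl0]), by group⟩
  have hcomm_central : ∀ (a b z w : Γ), z ∈ Subgroup.center Γ → w ∈ Subgroup.center Γ →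
      ⁅a * z, b * w⁆ = ⁅a, b⁆ := by
    intro a b z w hz hw
    have hz' := Subgroup.mem_center_iff.mp hz
    have hw' := Subgroup.mem_center_iff.mp hw
    simp only [commutatorElement_def, mul_inv_rev]
    calc a * z * (b * w) * (z⁻¹ * a⁻¹) * (w⁻¹ * b⁻¹)
        = a * (z * (b * w)) * z⁻¹ * a⁻¹ * w⁻¹ * b⁻¹ := by group
      _ = a * (b * w * z) * z⁻¹ * a⁻¹ * w⁻¹ * b⁻¹ := by rw [hz' (b * w)]
      _ = a * b * (w * a⁻¹) * w⁻¹ * b⁻¹ := by group
      _ = a * b * (a⁻¹ * w) * w⁻¹ * b⁻¹ := by rw [hw' a⁻¹]
      _ = a * b * a⁻¹ * b⁻¹ := by group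
  have hlc : ∀ s, s < k → l s = commProd l (C.comms.getD s []) := fun s hs => by
    rw [show l s = commProd l0 (C.comms.getD s []) from if_pos hs, commProd, commProd]
    congr 1
    refine List.map_congr_left fun p _ => ?_
    obtain ⟨z, hz, e1⟩ := hdiff p.1
    obtain ⟨w, hw, e2⟩ := hdiff p.2
    rw [e1, e2, hcomm_central _ _ _ _ hz hw]
  have hsound := act_sound σ hker l g hl C.D hT
  letI : CommGroup (Subgroup.center Γ) :=
    { (inferInstance : Group (Subgroup.center Γ)) with
      mul_comm := fun a b => Subtype.ext (Subgroup.mem_center_iff.mp b.2 a) }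
  let B0 : ℕ → Subgroup.center Γ := fun n =>
    if n < C.nRel then cProd l C.D (C.relRun n (C.relZero n)).2
    else cZ l C.D (C.seeds.getD (n - C.nRel) (0, 0, 0))
  let B : ℕ → Subgroup.center Γ := fun n => if (B0 n : Γ) ∈ σ.ker then B0 n else 1
  let val : List ℤ → Subgroup.center Γ := fun v => valFrom B v 0
  have hkerB : ∀ c : Subgroup.center Γ, (c : Γ) ∈ σ.ker → c ^ C.md = 1 := by
    intro c hc
    have hc1 : (c : Γ) ^ (Subgroup.center Γ).index = 1 := by
      have hle : commutator Γ ≤ (MonoidHom.transferCenterPow Γ).ker :=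
        Abelianization.commutator_subset_ker _
      have := congrArg Subtype.val (MonoidHom.mem_ker.mp (hle (hcm hc)))
      simpa using this
    have hd : (Subgroup.center Γ).index ∣ Nat.card G := by
      refine (Subgroup.index_dvd_of_le hker).trans (dvd_of_eq ?_)
      rw [Subgroup.index_ker, MonoidHom.range_eq_top.mpr hsurj, Subgroup.card_top]
    obtain ⟨d, hd'⟩ := hd.trans hmd
    refine Subtype.ext ?_
    rw [Subgroup.coe_pow, hd', pow_mul, hc1, one_pow, Subgroup.coe_one]
  have hvker : ∀ v, IsVar C.D v → (cZ l C.D v : Γ) ∈ σ.ker := fun v hv => by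
    rw [cZ_val σ hker l g hl C.D hT hv]
    exact cRaw_mem σ l g hl C.D hT hv
  have hpker : ∀ vs, (∀ v ∈ vs, IsVar C.D v) → (cProd l C.D vs : Γ) ∈ σ.ker := fun vs hvs => by
    rw [cProd, ← Subgroup.coe_subtype, map_list_prod]
    refine list_prod_mem fun z hz => ?_
    obtain ⟨c, hc, rfl⟩ := List.mem_map.mp hz
    obtain ⟨v, hv, rfl⟩ := List.mem_map.mp hc
    exact hvker v (hvs v hv)
  have hBm : ∀ n, B n ^ C.md = 1 := fun n => by
    by_cases h : (B0 n : Γ) ∈ σ.ker
    · rw [show B n = B0 n from if_pos h]
      exact hkerB _ h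
    · rw [show B n = 1 from if_neg h, one_pow]
  have hBrel : ∀ n, n < C.nRel → evalW l (C.rels.getD n (0, [])).2 = B n ∧
      ∀ t ∈ (C.rels.getD n (0, [])).2, t ∈ headGens (C.D.drop (C.rels.getD n (0, [])).1) := by
    intro n hn
    have h := allBelow_eq_true.mp hC.rel n hn
    simp only [Cert.relOK, Bool.and_eq_true] at h
    have hmem : ∀ t ∈ (C.rels.getD n (0, [])).2,
        t ∈ headGens (C.D.drop (C.rels.getD n (0, [])).1) :=
      fun t ht => memB_eq_true.mp (allB_spec h.1 t ht)
    refine ⟨?_, hmem⟩
    have hwf := wfB_drop (C.rels.getD n (0, [])).1 hC.wf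
    obtain ⟨-, hvz, he⟩ := hsound _ _ rfl hwf _ _ hmem (valid_zero hwf)
    rw [nf_zero l hwf, mul_one] at he
    have hend := natsEq_eq h.2
    rw [Cert.relRun, Cert.relZero] at hend
    rw [hend, nf_zero l hwf, one_mul] at he
    have hB0 : B0 n = cProd l C.D (C.relRun n (C.relZero n)).2 := if_pos hn
    rw [he, show B n = B0 n from if_pos (by rw [hB0]; exact hpker _ hvz), hB0]
    rfl
  have relEq : ∀ n, n < C.nRel → ∀ x, validB (C.D.drop (C.rels.getD n (0, [])).1) x = true →
      natsEq (C.relRun n x).1 x = true →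
      cProd l C.D (C.relRun n x).2 = B n ∧ ∀ v ∈ (C.relRun n x).2, IsVar C.D v := by
    intro n hn x hx hend
    obtain ⟨hB, hmem⟩ := hBrel n hn
    obtain ⟨-, hvars, he⟩ := hsound _ _ rfl (wfB_drop _ hC.wf) _ x hmem (valid_of_check hx)
    refine ⟨Subtype.ext ?_, hvars⟩
    have hend' := natsEq_eq hend
    rw [Cert.relRun] at hend' ⊢
    rw [hend', hB, ← center_comm] at he
    exact (mul_left_cancel he).symm
  have hsum : ∀ vs : List Var, (∀ v ∈ vs, cZ l C.D v = val (entAt C.D v).e) →
      cProd l C.D vs = val (vsum C.D vs) := by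
    intro vs
    induction vs with
    | nil => intro _; rfl
    | cons v vs ih =>
      intro h
      show _ = valFrom B (vadd (entAt C.D v).e (vsum C.D vs)) 0
      rw [valFrom_vadd, cProd, List.map_cons, List.prod_cons, h v (by simp),
        show (vs.map (cZ l C.D)).prod = _ from ih fun w hw => h w (List.mem_cons_of_mem _ hw)]
  have hvar : ∀ r v, IsVar C.D v → (entAt C.D v).rk = r → cZ l C.D v = val (entAt C.D v).e := by
    intro r
    induction r using Nat.strong_induction_on with
    | _ r ih =>
      rintro ⟨i, s, j⟩ hv hr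
      have h := allBelow_eq_true.mp (allB_spec (hC.lv i hv.1) s hv.2.1) j hv.2.2
      simp only [Cert.entOK] at h
      cases h0 : Nat.beq (entAt C.D (i, s, j)).tag 0 with
      | true =>
        simp only [h0, cond_true, Bool.and_eq_true] at h
        refine Eq.trans ?_ (valFrom_vz B C hBm h.2 0).symm
        apply Subtype.ext
        rw [cZ_val σ hker l g hl C.D hT hv, cRaw, ← evalW_append, ← evalW_cons, natsEq_eq h.1,
          inv_mul_cancel]
        rfl
      | false =>
        cases h1 : Nat.beq (entAt C.D (i, s, j)).tag 1 with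
        | true =>
          simp only [h0, h1, cond_true, cond_false, Bool.and_eq_true, Nat.blt_eq] at h
          show _ = valFrom B (entAt C.D (i, s, j)).e 0
          rw [valFrom_vzsub B C hBm h.2 0, valFrom_vunit]
          have hB0 : B0 (0 + Nat.add C.nRel (entAt C.D (i, s, j)).idx) = cZ l C.D (i, s, j) := by
            rw [show B0 (0 + Nat.add C.nRel (entAt C.D (i, s, j)).idx) =
              cZ l C.D (C.seeds.getD (0 + Nat.add C.nRel (entAt C.D (i, s, j)).idx - C.nRel) (0, 0, 0))
              from if_neg (by simp)]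
            rw [show 0 + Nat.add C.nRel (entAt C.D (i, s, j)).idx - C.nRel = (entAt C.D (i, s, j)).idx
              by simp, varEq_eq h.1.2]
          rw [show B (0 + Nat.add C.nRel (entAt C.D (i, s, j)).idx) = B0 _ from
            if_pos (by rw [hB0]; exact hvker _ hv), hB0]
        | false =>
          simp only [h0, h1, cond_false, Bool.and_eq_true, Nat.blt_eq, Nat.beq_eq] at h
          obtain ⟨⟨⟨⟨⟨hn, hx⟩, hend⟩, hcnt⟩, hrk⟩, hz⟩ := h
          obtain ⟨he, hvars⟩ := relEq _ hn _ hx hend
          obtain ⟨a, b, hab, hna, hnb⟩ := split_of_count_one hcnt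
          have hothers : ∀ w ∈ a ++ b, cZ l C.D w = val (entAt C.D w).e := by
            intro w hw
            have hwm : w ∈ (C.relRun (entAt C.D (i, s, j)).idx (entAt C.D (i, s, j)).at').2 := by
              rw [hab]
              simp only [List.mem_append, List.mem_cons] at hw ⊢
              tauto
            have := allB_spec hrk w hwm
            simp only [Bool.or_eq_true, Nat.blt_eq] at this
            rcases this with h' | h'
            · rw [← varEq_eq h'] at hw
              exact absurd hw (by simp [hna, hnb])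
            · exact ih _ (hr ▸ h') w (hvars w hwm) rfl
          have e1 : valFrom B (vsum C.D (C.relRun (entAt C.D (i, s, j)).idx
              (entAt C.D (i, s, j)).at').2) 0 = B (entAt C.D (i, s, j)).idx := by
            rw [valFrom_vzsub B C hBm hz 0, valFrom_vunit, Nat.zero_add]
          have hsplit : ∀ f : Var → Subgroup.center Γ,
              ((a ++ (i, s, j) :: b).map f).prod = f (i, s, j) * ((a ++ b).map f).prod := by
            intro f; simp [mul_left_comm]
          have hval : ∀ vs : List Var, val (vsum C.D vs) =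
              (vs.map fun v => val (entAt C.D v).e).prod := by
            intro vs
            induction vs with
            | nil => rfl
            | cons v vs ihv =>
              show valFrom B (vadd (entAt C.D v).e (vsum C.D vs)) 0 = _
              rw [valFrom_vadd, List.map_cons, List.prod_cons, ← ihv]
          rw [← e1, show valFrom B _ 0 = val _ from rfl, hval, hab, cProd, hsplit, hsplit] at he
          rw [List.map_congr_left hothers] at he
          exact mul_right_cancel he
  have hprod : ∀ vs : List Var, (∀ v ∈ vs, IsVar C.D v) → cProd l C.D vs = val (vsum C.D vs) :=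
    fun vs h => hsum vs fun v hv => hvar _ v (h v hv) rfl
  have htop := hC.top
  simp only [Cert.topOK, Bool.and_eq_true] at htop
  have hmemTop : ∀ t, t < k → t ∈ headGens C.D := fun t ht =>
    memB_eq_true.mp (allBelow_eq_true.mp htop.1 t ht)
  have hltTop : ∀ t ∈ headGens C.D, t < k := fun t ht => by
    simpa [Nat.blt_eq] using allB_spec htop.2 t ht
  have hcw : ∀ L : List (ℕ × ℕ), (∀ p ∈ L, p.1 < k ∧ p.2 < k) →
      (∀ t ∈ C.commWord L, t ∈ headGens C.D) ∧
        evalW l (C.commWord L) = commProd l L * val (C.commVec L) := by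
    intro L
    induction L with
    | nil => intro _; exact ⟨by simp [Cert.commWord], by simp [Cert.commWord, Cert.commVec, evalW, commProd, val, valFrom]⟩
    | cons p L ihL =>
      intro h
      obtain ⟨h1, h2⟩ := ihL fun q hq => h q (List.mem_cons_of_mem _ hq)
      obtain ⟨ha, hb⟩ := h p (by simp)
      have hw : C.commWord (p :: L) = p.1 :: p.2 ::
          (List.replicate ((C.pows.getD p.1 (0, 0)).1 - 1) p.1 ++
            (List.replicate ((C.pows.getD p.2 (0, 0)).1 - 1) p.2 ++ C.commWord L)) := rfl
      refine ⟨fun t ht => ?_, ?_⟩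
      · rw [hw] at ht
        simp only [List.mem_cons, List.mem_append, List.mem_replicate] at ht
        rcases ht with rfl | rfl | ⟨-, rfl⟩ | ⟨-, rfl⟩ | ht
        exacts [hmemTop _ ha, hmemTop _ hb, hmemTop _ ha, hmemTop _ hb, h1 t ht]
      · have hpw : ∀ a, a < k → l a ^ ((C.pows.getD a (0, 0)).1 - 1) =
            (l a)⁻¹ * B (C.pows.getD a (0, 0)).2 := by
          intro a ha
          have hp := allBelow_eq_true.mp hC.pow a ha
          simp only [Cert.powOK, Bool.and_eq_true, Nat.blt_eq] at hp
          obtain ⟨⟨hpos, hn⟩, hrep⟩ := hp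
          rw [← (hBrel _ hn).1, natsEq_eq hrep, evalW_replicate, eq_inv_mul_iff_mul_eq, ← pow_succ',
            Nat.sub_add_cancel hpos]
        have hv : val (C.commVec (p :: L)) =
            B (C.pows.getD p.1 (0, 0)).2 * (B (C.pows.getD p.2 (0, 0)).2 * val (C.commVec L)) := by
          show valFrom B (vadd _ (vadd _ (C.commVec L))) 0 = _
          rw [valFrom_vadd, valFrom_vadd, valFrom_vunit, valFrom_vunit, Nat.zero_add, Nat.zero_add]
        rw [hw, evalW_cons, evalW_cons, evalW_append, evalW_append, evalW_replicate, evalW_replicate,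
          hpw _ ha, hpw _ hb, h2, hv, Subgroup.coe_mul, Subgroup.coe_mul,
          show commProd l (p :: L) = ⁅l p.1, l p.2⁆ * commProd l L from rfl, commutatorElement_def]
        have c1 := fun x => center_comm (B (C.pows.getD p.1 (0, 0)).2) x
        have c2 := fun x => center_comm (B (C.pows.getD p.2 (0, 0)).2) x
        calc l p.1 * (l p.2 * ((l p.1)⁻¹ * (B (C.pows.getD p.1 (0, 0)).2 : Γ) *
              ((l p.2)⁻¹ * (B (C.pows.getD p.2 (0, 0)).2 : Γ) * (commProd l L * val (C.commVec L)))))
            = l p.1 * l p.2 * (l p.1)⁻¹ * ((B (C.pows.getD p.1 (0, 0)).2 : Γ) * (l p.2)⁻¹) *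
                ((B (C.pows.getD p.2 (0, 0)).2 : Γ) * commProd l L) * val (C.commVec L) := by group
          _ = l p.1 * l p.2 * (l p.1)⁻¹ * (l p.2)⁻¹ *
                ((B (C.pows.getD p.1 (0, 0)).2 : Γ) * commProd l L) *
                ((B (C.pows.getD p.2 (0, 0)).2 : Γ)) * val (C.commVec L) := by
              rw [← c1, ← c2]; group
          _ = _ := by rw [← c1]; group
  have hrow : ∀ r ∈ C.rows, val (C.rowVec r) = 1 := by
    rintro ⟨kind, n, x⟩ hr
    have h := allB_spec hC.row _ hr
    simp only [Cert.rowOK] at h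
    simp only [Cert.rowVec]
    cases hk : Nat.beq kind 0 with
    | true =>
      simp only [hk, cond_true, Bool.and_eq_true, Nat.blt_eq] at h ⊢
      obtain ⟨⟨hn, hx⟩, hend⟩ := h
      obtain ⟨he, hvars⟩ := relEq n hn x hx hend
      show valFrom B (vadd _ (vsmul (-1) _)) 0 = 1
      rw [valFrom_vadd, valFrom_vsmul, valFrom_vunit, Nat.zero_add, zpow_neg_one, mul_inv_eq_one,
        ← he, hprod _ hvars]
    | false =>
      simp only [hk, cond_false, Bool.and_eq_true] at h ⊢
      obtain ⟨⟨hn, hx⟩, hend⟩ := h
      have hnk := hltTop n (memB_eq_true.mp hn)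
      have hpairs : ∀ p ∈ C.comms.getD n [], p.1 < k ∧ p.2 < k := fun p hp => by
        have := allB_spec (allBelow_eq_true.mp hC.comm n hnk) p hp
        simp only [Bool.and_eq_true, memB_eq_true] at this
        exact ⟨hltTop _ this.1, hltTop _ this.2⟩
      obtain ⟨hmem, hcv⟩ := hcw _ hpairs
      obtain ⟨-, v1, e1⟩ := hsound C.D 0 rfl hC.wf _ x hmem (valid_of_check hx)
      obtain ⟨-, v2, e2⟩ := hsound C.D 0 rfl hC.wf [n] x (by simpa using memB_eq_true.mp hn)
        (valid_of_check hx)
      show valFrom B (vadd _ (vsmul (-1) _)) 0 = 1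
      rw [valFrom_vadd, valFrom_vsmul, valFrom_vadd, zpow_neg_one, mul_inv_eq_one]
      refine (hprod _ v1).symm.trans (Subtype.ext ?_)
      rw [Subgroup.coe_mul]
      show _ = (val (vsum C.D _) : Γ) * val _
      rw [← hprod _ v2]
      rw [hcv, natsEq_eq hend, ← hlc n hnk] at e1
      rw [show evalW l [n] = l n by simp [evalW]] at e2
      refine mul_left_cancel (a := nf l Lv.word C.D (act C.D 0 [n] x).1) ?_
      rw [← e1, ← mul_assoc, ← e2, mul_assoc, mul_assoc, center_comm]
  have hcombo : ∀ cs : List ℤ, val (C.combo cs) = 1 := by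
    intro cs
    have key : ∀ (cs : List ℤ) (rs : List (ℕ × ℕ × List ℕ)), (∀ r ∈ rs, val (C.rowVec r) = 1) →
        val (List.rec (motive := fun _ => List (ℕ × ℕ × List ℕ) → List ℤ) (fun _ => [])
          (fun c _ rec rs => List.rec (motive := fun _ => List ℤ) []
            (fun r rest _ => vadd (vsmul c (C.rowVec r)) (rec rest)) rs) cs rs) = 1 := by
      intro cs
      induction cs with
      | nil => intro rs _; rfl
      | cons c cs ihc =>
        intro rs hrs
        cases rs with
        | nil => rfl
        | cons r rest =>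
          show valFrom B (vadd (vsmul c (C.rowVec r)) _) 0 = 1
          rw [valFrom_vadd, valFrom_vsmul, show valFrom B (C.rowVec r) 0 = 1 from hrs r (by simp),
            one_zpow, one_mul]
          exact ihc rest fun q hq => hrs q (List.mem_cons_of_mem _ hq)
    exact key cs C.rows hrow
  have hBu : ∀ n, n < C.dim → B n = B C.piv ^ (C.combos.getD n (0, [])).1 := by
    intro n hn
    have h := allBelow_eq_true.mp hC.basis n hn
    simp only [Cert.basisOK] at h
    have h2 := valFrom_vzsub B C hBm h 0
    rw [show valFrom B (C.combo _) 0 = 1 from hcombo _, vsub, valFrom_vadd, valFrom_vsmul,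
      valFrom_vsmul, valFrom_vunit, valFrom_vunit, Nat.zero_add, Nat.zero_add, zpow_neg_one,
      eq_comm, mul_inv_eq_one] at h2
    exact h2
  have hu : B C.piv ^ C.ord = 1 := by
    have h2 := valFrom_vzsub B C hBm hC.order 0
    rw [show valFrom B (C.combo _) 0 = 1 from hcombo _, valFrom_vsmul, valFrom_vunit,
      Nat.zero_add] at h2
    rw [← zpow_natCast]
    exact h2.symm
  have hcZ : ∀ v, IsVar C.D v → cZ l C.D v ∈ Subgroup.zpowers (B C.piv) := by
    intro v hv
    induction hr : (entAt C.D v).rk using Nat.strong_induction_on generalizing v with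
    | _ r ih =>
      obtain ⟨i, s, j⟩ := v
      have h := allBelow_eq_true.mp (allB_spec (hC.lv i hv.1) s hv.2.1) j hv.2.2
      simp only [Cert.entOK] at h
      cases h0 : Nat.beq (entAt C.D (i, s, j)).tag 0 with
      | true =>
        simp only [h0, cond_true, Bool.and_eq_true] at h
        rw [hvar _ _ hv rfl, show val _ = 1 from valFrom_vz B C hBm h.2 0]
        exact one_mem _
      | false =>
        cases h1 : Nat.beq (entAt C.D (i, s, j)).tag 1 with
        | true =>
          simp only [h0, h1, cond_true, cond_false, Bool.and_eq_true, Nat.blt_eq] at h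
          rw [hvar _ _ hv rfl, show val _ = _ from valFrom_vzsub B C hBm h.2 0, valFrom_vunit, Nat.zero_add,
            hBu (Nat.add C.nRel (entAt C.D (i, s, j)).idx) (Nat.add_lt_add_left h.1.1 _)]
          exact zpow_mem (Subgroup.mem_zpowers _) _
        | false =>
          simp only [h0, h1, cond_false, Bool.and_eq_true, Nat.blt_eq, Nat.beq_eq] at h
          obtain ⟨⟨⟨⟨⟨hn, hx⟩, hend⟩, hcnt⟩, hrk⟩, -⟩ := h
          obtain ⟨he, hvars⟩ := relEq _ hn _ hx hend
          obtain ⟨a, b, hab, hna, hnb⟩ := split_of_count_one hcnt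
          have hothers : ∀ (L : List Var), (∀ w ∈ L, w ∈ a ++ b) →
              cProd l C.D L ∈ Subgroup.zpowers (B C.piv) := by
            intro L hL
            refine list_prod_mem fun z hz => ?_
            obtain ⟨w, hw, rfl⟩ := List.mem_map.mp hz
            have hwab := hL w hw
            have hwm : w ∈ (C.relRun (entAt C.D (i, s, j)).idx (entAt C.D (i, s, j)).at').2 := by
              rw [hab]
              simp only [List.mem_append, List.mem_cons] at hwab ⊢
              tauto
            have := allB_spec hrk w hwm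
            simp only [Bool.or_eq_true, Nat.blt_eq] at this
            rcases this with h' | h'
            · rw [← varEq_eq h'] at hwab
              exact absurd hwab (by simp [hna, hnb])
            · exact ih _ (hr ▸ h') w (hvars w hwm) rfl
          rw [hab] at he
          have hB := hBu _ (lt_of_lt_of_le hn (Nat.le_add_right _ _))
          have e : cProd l C.D (a ++ (i, s, j) :: b) = cZ l C.D (i, s, j) * cProd l C.D (a ++ b) := by
            simp [cProd, mul_left_comm]
          rw [e, ← eq_mul_inv_iff_mul_eq] at he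
          rw [he, hB]
          exact mul_mem (zpow_mem (Subgroup.mem_zpowers _) _) (inv_mem (hothers _ fun _ h => h))
  refine ⟨(B C.piv : Γ), ?_, fun a ha => ?_⟩
  · rw [← Subgroup.coe_pow, hu, Subgroup.coe_one]
  · have hgenΓ : ∀ x : Γ, ∃ y ∈ Subgroup.closure (l '' {s | s < k}), ∃ z ∈ Subgroup.center Γ,
        x = y * z := by
      intro x
      have key : ∀ t ∈ Submonoid.closure (g '' {s | s < k}),
          ∃ y ∈ Subgroup.closure (l '' {s | s < k}), σ y = t := by
        intro t ht
        induction ht using Submonoid.closure_induction with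
        | mem t ht =>
          obtain ⟨s, hs, rfl⟩ := ht
          exact ⟨l s, Subgroup.subset_closure ⟨s, hs, rfl⟩, hl s⟩
        | one => exact ⟨1, one_mem _, map_one σ⟩
        | mul p q _ _ hp hq =>
          obtain ⟨y, hy, rfl⟩ := hp
          obtain ⟨y', hy', rfl⟩ := hq
          exact ⟨y * y', mul_mem hy hy', map_mul σ y y'⟩
      obtain ⟨y, hy, hyx⟩ := key _ (hgen (σ x))
      exact ⟨y, hy, y⁻¹ * x, hker (by simp [MonoidHom.mem_ker, hyx]), by group⟩
    have haC : a ∈ Subgroup.closure (l '' {s | s < k}) := by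
      have hle : commutator Γ ≤ Subgroup.closure (l '' {s | s < k}) := by
        rw [commutator_def, Subgroup.commutator_le]
        intro x _ y _
        obtain ⟨x', hx', z, hz, rfl⟩ := hgenΓ x
        obtain ⟨y', hy', w, hw, rfl⟩ := hgenΓ y
        rw [hcomm_central _ _ _ _ hz hw, commutatorElement_def]
        exact mul_mem (mul_mem (mul_mem hx' hy') (inv_mem hx')) (inv_mem hy')
      exact hle (hcm ha)
    rw [← Subgroup.mem_toSubmonoid, Subgroup.closure_toSubmonoid_of_finite] at haC
    obtain ⟨L, hL, rfl⟩ := Submonoid.exists_list_of_mem_closure haC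
    obtain ⟨w, hwk, rfl⟩ : ∃ w : List ℕ, (∀ s ∈ w, s < k) ∧ L = w.map l := by
      clear ha haC
      induction L with
      | nil => exact ⟨[], by simp, rfl⟩
      | cons x L ihL =>
        obtain ⟨s, hs, rfl⟩ := hL x (by simp)
        obtain ⟨w, hw, rfl⟩ := ihL fun y hy => hL y (List.mem_cons_of_mem _ hy)
        exact ⟨s :: w, fun t ht => by rcases List.mem_cons.mp ht with rfl | ht; exacts [hs, hw t ht],
          rfl⟩
    obtain ⟨hv, hvars, he⟩ := hsound C.D 0 rfl hC.wf w (List.replicate C.D.length 0)
      (fun s hs => hmemTop s (hwk s hs)) (valid_zero hC.wf)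
    rw [nf_zero l hC.wf, mul_one] at he
    have hsig := congrArg σ he
    rw [map_mul, map_nf, show σ ∘ l = g from funext hl] at hsig
    have hc1 : σ (cProd l C.D (act C.D 0 w (List.replicate C.D.length 0)).2 : Γ) = 1 := by
      refine MonoidHom.mem_ker.mp ?_
      rw [cProd, ← Subgroup.coe_subtype, map_list_prod]
      refine list_prod_mem fun z hz => ?_
      obtain ⟨c, hc, rfl⟩ := List.mem_map.mp hz
      obtain ⟨v, hv', rfl⟩ := List.mem_map.mp hc
      rw [Subgroup.coe_subtype, cZ_val σ hker l g hl C.D hT (hvars v hv')]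
      exact cRaw_mem σ l g hl C.D hT (hvars v hv')
    rw [hc1, mul_one, show σ (evalW l w) = 1 from MonoidHom.mem_ker.mp ha] at hsig
    have h0 := hF _ hv hsig.symm
    rw [h0, nf_zero l hC.wf, one_mul] at he
    have hmem : cProd l C.D (act C.D 0 w (List.replicate C.D.length 0)).2 ∈
        Subgroup.zpowers (B C.piv) := list_prod_mem fun z hz => by
      obtain ⟨v, hv', rfl⟩ := List.mem_map.mp hz
      exact hcZ v (hvars v hv')
    obtain ⟨n, hn⟩ := hmem
    refine ⟨n, ?_⟩
    show (B C.piv : Γ) ^ n = evalW l w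
    rw [he, ← hn, Subgroup.coe_zpow]

/-- The kernel of a finite stem extension is an image of the cyclic group. -/
theorem kernel_image {Γ : Type*} [Group Γ] [Finite Γ] (σ : Γ →* G)
    (hσ : Cfsg.IsStemExtension σ) :
    ∃ π : Multiplicative (ZMod C.ord) →* σ.ker, Function.Surjective π := by
  obtain ⟨u, hu, hle⟩ := exists_generator g hC hT hF hgen hcomm hmd σ hσ
  have hcyc : IsCyclic σ.ker := by
    have := (Subgroup.subgroupOfEquivOfLe hle).symm.isCyclic
    exact this.mpr inferInstance
  obtain ⟨v, hv⟩ := hcyc.exists_generator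
  have hvo : v ^ C.ord = 1 := by
    obtain ⟨n, hn⟩ := hle v.2
    apply Subtype.ext
    show (v : Γ) ^ C.ord = 1
    rw [show (v : Γ) = u ^ n from hn.symm, ← zpow_natCast, ← zpow_mul, mul_comm, zpow_mul,
      zpow_natCast, hu, one_zpow]
  let f : ZMod C.ord →+ Additive σ.ker := ZMod.lift C.ord
    ⟨zmultiplesHom (Additive σ.ker) (Additive.ofMul v), by
      simp only [zmultiplesHom_apply, natCast_zsmul]
      exact congrArg Additive.ofMul hvo⟩
  refine ⟨AddMonoidHom.toMultiplicativeLeft f, fun z => ?_⟩
  obtain ⟨n, hn⟩ := hv z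
  refine ⟨Multiplicative.ofAdd (n : ZMod C.ord), ?_⟩
  rw [← hn]
  show Additive.toMul (f (n : ZMod C.ord)) = v ^ n
  rw [ZMod.lift_coe]
  rfl

end Main

end Cfsg.Agent.StemCert
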