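import Cfsg.Agent.StemCert.Bound

/-!
Faster checks with vectors modulo `md` packed into natural numbers in fields of width 64.
-/

set_option autoImplicit false

namespace Cfsg.Agent.StemCert

open Cfsg.Agent.Compute

/-- The field modulus. -/
abbrev fieldMod : ℕ := 18446744073709551616

/-- Field `i` of a packed vector. -/
def pfld : ℕ → ℕ → ℕ
  | 0, p => p % fieldMod
  | i + 1, p => pfld i (p / fieldMod)

theorem pfld_zero (i : ℕ) : pfld i 0 = 0 := by
  induction i with
  | zero => rfl
  | succ i ih => simp [pfld, ih]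

theorem pfld_lt (i : ℕ) : ∀ p, pfld i p < fieldMod := by
  induction i with
  | zero => exact fun p => Nat.mod_lt _ (by norm_num)
  | succ i ih => exact fun p => ih _

theorem pfld_add : ∀ (i : ℕ) (p q : ℕ), (∀ t, pfld t p + pfld t q < fieldMod) →
    pfld i (p + q) = pfld i p + pfld i q
  | 0, p, q, h => by
    have h0 : p % fieldMod + q % fieldMod < fieldMod := h 0
    show (p + q) % fieldMod = _
    rw [Nat.add_mod, Nat.mod_eq_of_lt h0]
    rfl
  | i + 1, p, q, h => by
    have h0 : p % fieldMod + q % fieldMod < fieldMod := h 0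
    show pfld i ((p + q) / fieldMod) = _
    rw [Nat.add_div_eq_of_add_mod_lt h0]
    exact pfld_add i _ _ fun t => h (t + 1)

theorem pfld_mul : ∀ (i : ℕ) (c p : ℕ), (∀ t, c * pfld t p < fieldMod) →
    pfld i (c * p) = c * pfld i p
  | 0, c, p, h => by
    have h0 : c * (p % fieldMod) < fieldMod := h 0
    show c * p % fieldMod = _
    conv_lhs => rw [← Nat.div_add_mod p fieldMod]
    rw [Nat.mul_add, ← mul_assoc, mul_comm c fieldMod, mul_assoc, Nat.mul_add_mod,
      Nat.mod_eq_of_lt h0]
    rfl
  | i + 1, c, p, h => by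
    have h0 : c * (p % fieldMod) < fieldMod := h 0
    show pfld i (c * p / fieldMod) = _
    have he : c * p / fieldMod = c * (p / fieldMod) := by
      conv_lhs => rw [← Nat.div_add_mod p fieldMod]
      rw [Nat.mul_add, ← mul_assoc, mul_comm c fieldMod, mul_assoc,
        Nat.mul_add_div (by norm_num), Nat.div_eq_of_lt h0, add_zero]
    rw [he]
    exact pfld_mul i c _ fun t => h (t + 1)

/-- A packed unit vector in fields of size `B`. -/
noncomputable def punitB (B : ℕ) (k : ℕ) : ℕ :=
  Nat.rec (motive := fun _ => ℕ) 1 (fun _ r => Nat.mul r B) k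

theorem punitB_succ (B k : ℕ) : punitB B (k + 1) = punitB B k * B := rfl

/-- A packed unit vector. -/
noncomputable def punit (k : ℕ) : ℕ := punitB fieldMod k

theorem pfld_succ (i p : ℕ) : pfld (i + 1) p = pfld i (p / fieldMod) := by rw [pfld]

theorem pfld_punit : ∀ (i k : ℕ), pfld i (punit k) = if i = k then 1 else 0 := by
  intro i
  induction i with
  | zero =>
    intro k
    rw [pfld, punit]
    cases k with
    | zero =>
      rw [if_pos rfl, show punitB fieldMod 0 = 1 from rfl]
      exact Nat.mod_eq_of_lt (by norm_num)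
    | succ k => rw [punitB_succ, Nat.mul_mod_left, if_neg (Nat.succ_ne_zero k).symm]
  | succ i ih =>
    intro k
    rw [pfld_succ, punit]
    cases k with
    | zero =>
      rw [show punitB fieldMod 0 = 1 from rfl, Nat.div_eq_of_lt (by norm_num), pfld_zero,
        if_neg (Nat.succ_ne_zero i)]
    | succ k =>
      rw [punitB_succ, Nat.mul_div_cancel _ (by norm_num), ← punit, ih k]
      simp

/-- The coordinates of a vector. -/
def gd (a : List ℤ) (i : ℕ) : ℤ := a.getD i 0

theorem gd_nil (i : ℕ) : gd [] i = 0 := rfl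

theorem gd_vadd : ∀ (a b : List ℤ) (i : ℕ), gd (vadd a b) i = gd a i + gd b i
  | [], b, i => by simp [vadd, gd_nil]
  | x :: a, [], i => by simp [vadd, gd_nil]
  | x :: a, y :: b, i => by
    rw [show vadd (x :: a) (y :: b) = Int.add x y :: vadd a b from
      forceZ_eq (Int.add x y) fun z => z :: vadd a b]
    cases i with
    | zero => rfl
    | succ i => exact gd_vadd a b i

theorem gd_vsmul (c : ℤ) : ∀ (a : List ℤ) (i : ℕ), gd (vsmul c a) i = c * gd a i
  | [], i => by simp [vsmul, gd_nil]
  | x :: a, i => by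
    rw [show vsmul c (x :: a) = Int.mul c x :: vsmul c a from
      forceZ_eq (Int.mul c x) fun z => z :: vsmul c a]
    cases i with
    | zero => rfl
    | succ i => exact gd_vsmul c a i

theorem gd_vsub (a b : List ℤ) (i : ℕ) : gd (vsub a b) i = gd a i - gd b i := by
  rw [vsub, gd_vadd, gd_vsmul]
  ring

theorem gd_vunit : ∀ (k i : ℕ), gd (vunit k) i = if i = k then 1 else 0
  | 0, 0 => rfl
  | 0, i + 1 => by simp [vunit, gd]
  | k + 1, 0 => rfl
  | k + 1, i + 1 => by
    show gd (vunit k) i = _
    rw [gd_vunit k i]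
    simp

variable (C : Cert)

theorem vz_of_dvd (hN : 0 < C.md) : ∀ {a : List ℤ}, (∀ i, (C.md : ℤ) ∣ gd a i) → C.vz a = true := by
  intro a h
  have h0 : Nat.beq C.md 0 = false := by
    cases hb : Nat.beq C.md 0 with
    | false => rfl
    | true => exact absurd (Nat.eq_of_beq_eq_true hb) hN.ne'
  rw [Cert.vz, h0, cond_false]
  induction a with
  | nil => rfl
  | cons x a ih =>
    show (Nat.beq (Nat.mod (Int.natAbs x) C.md) 0 &&
      allB (fun x => Nat.beq (Nat.mod (Int.natAbs x) C.md) 0) a) = true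
    rw [ih fun i => h (i + 1), Bool.and_true, Nat.beq_eq]
    exact Nat.mod_eq_zero_of_dvd (Int.natCast_dvd.mp (h 0))

/-- A packed vector with fields at most `K` represents a function modulo `N`. -/
def PRep (N K : ℕ) (f : ℕ → ℤ) (p : ℕ) : Prop :=
  ∀ i, pfld i p ≤ K ∧ (N : ℤ) ∣ f i - (pfld i p : ℤ)

theorem PRep.add {N K L : ℕ} {f g : ℕ → ℤ} {p q : ℕ} (hp : PRep N K f p) (hq : PRep N L g q)
    (h : K + L < fieldMod) : PRep N (K + L) (fun i => f i + g i) (p + q) := by
  intro i
  rw [pfld_add i p q fun t => lt_of_le_of_lt (Nat.add_le_add (hp t).1 (hq t).1) h]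
  refine ⟨Nat.add_le_add (hp i).1 (hq i).1, ?_⟩
  have := dvd_add (hp i).2 (hq i).2
  push_cast
  rwa [show f i - (pfld i p : ℤ) + (g i - (pfld i q : ℤ)) =
    f i + g i - ((pfld i p : ℤ) + (pfld i q : ℤ)) by ring] at this

theorem PRep.mul {N K : ℕ} {f : ℕ → ℤ} {p : ℕ} (hp : PRep N K f p) (c : ℕ)
    (h : c * K < fieldMod) : PRep N (c * K) (fun i => c * f i) (c * p) := by
  intro i
  rw [pfld_mul i c p fun t => lt_of_le_of_lt (Nat.mul_le_mul_left c (hp t).1) h]
  refine ⟨Nat.mul_le_mul_left c (hp i).1, ?_⟩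
  have := (hp i).2.mul_left (c : ℤ)
  push_cast
  rwa [mul_sub] at this

theorem PRep.zero (N : ℕ) : PRep N 0 (fun _ => 0) 0 := fun i => by simp [pfld_zero]

theorem PRep.unit (N k : ℕ) : PRep N 1 (gd (vunit k)) (punit k) := fun i => by
  rw [pfld_punit, gd_vunit]
  split <;> simp

theorem PRep.congr {N K : ℕ} {f g : ℕ → ℤ} {p : ℕ} (hp : PRep N K f p) (h : ∀ i, f i = g i) :
    PRep N K g p := fun i => h i ▸ hp i

theorem PRep.mono {N K L : ℕ} {f : ℕ → ℤ} {p : ℕ} (hp : PRep N K f p) (h : K ≤ L) :
    PRep N L f p := fun i => ⟨(hp i).1.trans h, (hp i).2⟩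

/-- Comparison of a vector with a packed one. -/
noncomputable def pcong (N dim : ℕ) : ℕ → List ℤ → Bool :=
  Nat.rec (motive := fun _ => ℕ → List ℤ → Bool)
    (fun p e => Nat.beq p 0 && List.rec (motive := fun _ => Bool) true (fun _ _ _ => false) e)
    (fun _ r p e => Nat.blt (Nat.mod p fieldMod) N &&
      Nat.beq (Nat.mod (Int.natAbs (Int.sub (e.headD 0) (Int.ofNat (Nat.mod p fieldMod)))) N) 0 &&
      r (Nat.div p fieldMod) e.tail) dim

theorem pcong_spec {N : ℕ} : ∀ {dim p : ℕ} {e : List ℤ}, pcong N dim p e = true →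
    PRep N N (gd e) p
  | 0, p, e, h => by
    have h' : (Nat.beq p 0 && List.rec (motive := fun _ => Bool) true (fun _ _ _ => false) e) =
      true := h
    simp only [Bool.and_eq_true, Nat.beq_eq] at h'
    cases e with
    | nil => intro i; simp [h'.1, pfld_zero, gd_nil]
    | cons x a => exact absurd h'.2 (by simp)
  | dim + 1, p, e, h => by
    have h' : (Nat.blt (p % fieldMod) N &&
      Nat.beq (Int.natAbs (e.headD 0 - ((p % fieldMod : ℕ) : ℤ)) % N) 0 &&
      pcong N dim (p / fieldMod) e.tail) = true := h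
    simp only [Bool.and_eq_true, Nat.beq_eq, Nat.blt_eq] at h'
    obtain ⟨⟨h1, h2⟩, h3⟩ := h'
    have ih := pcong_spec h3
    intro i
    cases i with
    | zero =>
      refine ⟨h1.le, ?_⟩
      have hh : gd e 0 = e.headD 0 := by cases e <;> rfl
      rw [hh]
      exact Int.natCast_dvd.mpr (Nat.dvd_of_mod_eq_zero h2)
    | succ i =>
      have hh : gd e (i + 1) = gd e.tail i := by cases e <;> rfl
      rw [hh]
      exact ih i

/-- Fields below `N`. -/
noncomputable def pgood (N dim : ℕ) : ℕ → Bool :=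
  Nat.rec (motive := fun _ => ℕ → Bool) (fun p => Nat.beq p 0)
    (fun _ r p => Nat.blt (Nat.mod p fieldMod) N && r (Nat.div p fieldMod)) dim

theorem pgood_spec {N : ℕ} : ∀ {dim p : ℕ}, pgood N dim p = true → ∀ i, pfld i p ≤ N
  | 0, p, h, i => by
    rw [Nat.eq_of_beq_eq_true (show Nat.beq p 0 = true from h), pfld_zero]
    exact Nat.zero_le _
  | dim + 1, p, h, i => by
    have h' : (Nat.blt (p % fieldMod) N && pgood N dim (p / fieldMod)) = true := h
    simp only [Bool.and_eq_true, Nat.blt_eq] at h'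
    cases i with
    | zero => exact h'.1.le
    | succ i => exact pgood_spec h'.2 i

/-- Fieldwise congruence of packed vectors. -/
noncomputable def peq (N dim : ℕ) : ℕ → ℕ → Bool :=
  Nat.rec (motive := fun _ => ℕ → ℕ → Bool) (fun p q => Nat.beq p 0 && Nat.beq q 0)
    (fun _ r p q => Nat.beq (Nat.mod (Nat.mod p fieldMod) N) (Nat.mod (Nat.mod q fieldMod) N) &&
      r (Nat.div p fieldMod) (Nat.div q fieldMod)) dim

theorem peq_spec {N : ℕ} : ∀ {dim p q : ℕ}, peq N dim p q = true →
    ∀ i, (N : ℤ) ∣ (pfld i p : ℤ) - (pfld i q : ℤ)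
  | 0, p, q, h, i => by
    have h' : (Nat.beq p 0 && Nat.beq q 0) = true := h
    simp only [Bool.and_eq_true, Nat.beq_eq] at h'
    simp [h'.1, h'.2, pfld_zero]
  | dim + 1, p, q, h, i => by
    have h' : (Nat.beq (p % fieldMod % N) (q % fieldMod % N) &&
      peq N dim (p / fieldMod) (q / fieldMod)) = true := h
    simp only [Bool.and_eq_true, Nat.beq_eq] at h'
    cases i with
    | zero => exact Nat.modEq_iff_dvd.mp h'.1.symm
    | succ i => exact peq_spec h'.2 i

theorem PRep.dvd_sub {N K L dim : ℕ} {f g : ℕ → ℤ} {p q : ℕ} (hp : PRep N K f p)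
    (hq : PRep N L g q) (h : peq N dim p q = true) (i : ℕ) : (N : ℤ) ∣ f i - g i := by
  have := dvd_add (_root_.dvd_sub (hp i).2 (hq i).2) (peq_spec h i)
  rwa [show f i - (pfld i p : ℤ) - (g i - (pfld i q : ℤ)) + ((pfld i p : ℤ) - (pfld i q : ℤ)) =
    f i - g i by ring] at this

/-- The packed value of a variable. -/
noncomputable def pvAt (PV : List (List (Arr ℕ))) (v : Var) : ℕ :=
  ((PV.getD v.1 []).getD v.2.1 .nil).get 0 v.2.2

/-- The packed table agrees with level `i`. -/
noncomputable def Cert.pvOK (PV : List (List (Arr ℕ))) (i : ℕ) : Bool :=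
  allB (fun s => allBelow (lvAt C.D i).size fun j =>
    pcong C.md C.dim (pvAt PV (i, s, j)) (entAt C.D (i, s, j)).e) (lvAt C.D i).gens

/-- A variable of the tables. -/
noncomputable def varB (D : List Lv) (v : Var) : Bool :=
  Nat.blt v.1 D.length && memB v.2.1 (lvAt D v.1).gens && Nat.blt v.2.2 (lvAt D v.1).size

theorem pvAt_rep {PV : List (List (Arr ℕ))} (hPV : ∀ i < C.D.length, C.pvOK PV i = true)
    {v : Var} (hv : varB C.D v = true) : PRep C.md C.md (gd (entAt C.D v).e) (pvAt PV v) := by
  rw [varB] at hv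
  simp only [Bool.and_eq_true, Nat.blt_eq] at hv
  have := allB_spec (hPV v.1 hv.1.1) v.2.1 (memB_eq_true.mp hv.1.2)
  exact pcong_spec (allBelow_eq_true.mp this v.2.2 hv.2)

/-- The packed sum over variables. -/
noncomputable def psum (PV : List (List (Arr ℕ))) (l : List Var) : ℕ → ℕ :=
  List.rec (motive := fun _ => ℕ → ℕ) (fun acc => acc)
    (fun v _ r acc => forceN (Nat.add acc (pvAt PV v)) r) l

/-- At most `n` elements. -/
noncomputable def short {α : Type} (l : List α) : ℕ → Bool :=
  List.rec (motive := fun _ => ℕ → Bool) (fun _ => true)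
    (fun _ _ r n => Nat.rec (motive := fun _ => Bool) false (fun m _ => r m) n) l

theorem short_spec {α : Type} : ∀ {l : List α} {n : ℕ}, short l n = true → l.length ≤ n
  | [], _, _ => Nat.zero_le _
  | _ :: _, 0, h => by simp [short] at h
  | _ :: l, n + 1, h => Nat.succ_le_succ (short_spec (l := l) h)

theorem vsum_cons (D : List Lv) (v : Var) (l : List Var) :
    vsum D (v :: l) = vadd (entAt D v).e (vsum D l) := rfl

theorem psum_spec {PV : List (List (Arr ℕ))} (hPV : ∀ i < C.D.length, C.pvOK PV i = true) :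
    ∀ (l : List Var), (∀ v ∈ l, varB C.D v = true) → ∀ (K : ℕ) (f : ℕ → ℤ) (acc : ℕ),
    PRep C.md K f acc → K + C.md * l.length < fieldMod →
    PRep C.md (K + C.md * l.length) (fun i => f i + gd (vsum C.D l) i) (psum PV l acc)
  | [], _, K, f, acc, h, _ => by simpa [psum, vsum, gd_nil] using h
  | v :: l, hl, K, f, acc, h, hK => by
    have e : psum PV (v :: l) acc = psum PV l (acc + pvAt PV v) :=
      forceN_eq (Nat.add acc (pvAt PV v)) (psum PV l)
    rw [List.length_cons, Nat.mul_succ] at hK ⊢
    have h1 := h.add (pvAt_rep C hPV (hl v (by simp))) (by omega)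
    have h2 := psum_spec hPV l (fun w hw => hl w (by simp [hw])) _ _ _ h1 (by omega)
    rw [e, show K + (C.md * l.length + C.md) = K + C.md + C.md * l.length by ring]
    refine h2.congr fun i => ?_
    rw [vsum_cons, gd_vadd]
    ring

/-- The checks on a list of variables to be summed. -/
noncomputable def Cert.listOK (l : List Var) : Bool :=
  allB (varB C.D) l && short l 1048576 && Nat.blt (Nat.mul C.md 1048576) 4611686018427387904

theorem psum_rep {PV : List (List (Arr ℕ))} (hPV : ∀ i < C.D.length, C.pvOK PV i = true)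
    {l : List Var} (h : C.listOK l = true) :
    PRep C.md 4611686018427387904 (gd (vsum C.D l)) (psum PV l 0) := by
  simp only [Cert.listOK, Bool.and_eq_true, Nat.blt_eq] at h
  obtain ⟨⟨h1, h2⟩, h3⟩ := h
  have hl : C.md * l.length ≤ C.md * 1048576 := Nat.mul_le_mul_left _ (short_spec h2)
  replace h3 : C.md * 1048576 < 4611686018427387904 := h3
  have := psum_spec C hPV l (allB_spec h1) 0 _ 0 (PRep.zero _)
    (show 0 + C.md * l.length < 18446744073709551616 by omega)
  exact (this.mono (by omega)).congr fun i => by simp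

/-- Counting without nested recursion. -/
noncomputable def countF (v : Var) (l : List Var) : ℕ → ℕ :=
  List.rec (motive := fun _ => ℕ → ℕ) (fun acc => acc)
    (fun w _ r acc => forceN (cond (varEq v w) (Nat.succ acc) acc) r) l

theorem countF_eq (v : Var) : ∀ (l : List Var) (acc : ℕ), countF v l acc = acc + varCount v l
  | [], _ => rfl
  | w :: l, acc => by
    have e : countF v (w :: l) acc = countF v l (cond (varEq v w) (acc + 1) acc) :=
      forceN_eq (cond (varEq v w) (acc + 1) acc) (countF v l)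
    rw [e, countF_eq v l, varCount_cons]
    cases varEq v w <;> simp only [cond_true, cond_false] <;> omega

/-- The justification of one variable, with packed vectors. -/
noncomputable def Cert.entP (PV : List (List (Arr ℕ))) (i s j : ℕ) : Bool :=
  let E := entAt C.D (i, s, j)
  cond (Nat.beq E.tag 0)
    (natsEq (s :: (lvAt C.D i).word j) ((lvAt C.D i).word E.jp ++ E.hw) && C.vz E.e)
    (cond (Nat.beq E.tag 1)
      (Nat.blt E.idx C.seeds.length && varEq (C.seeds.getD E.idx (0, 0, 0)) (i, s, j) &&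
        C.vz (vsub E.e (vunit (Nat.add C.nRel E.idx))))
      (Nat.blt E.idx C.nRel && validB (C.D.drop (C.rels.getD E.idx (0, [])).1) E.at' &&
        natsEq (C.relRun E.idx E.at').1 E.at' &&
        Nat.beq (countF (i, s, j) (C.relRun E.idx E.at').2 0) 1 &&
        allB (fun v => varEq (i, s, j) v || Nat.blt (entAt C.D v).rk E.rk) (C.relRun E.idx E.at').2 &&
        C.listOK (C.relRun E.idx E.at').2 &&
        peq C.md C.dim (psum PV (C.relRun E.idx E.at').2 0) (punit E.idx)))

/-- The justification of one level, with packed vectors. -/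
noncomputable def Cert.lvP (PV : List (List (Arr ℕ))) (i : ℕ) : Bool :=
  allB (fun s => allBelow (lvAt C.D i).size (C.entP PV i s)) (lvAt C.D i).gens

theorem entOK_of_entP (hN : 0 < C.md) {PV : List (List (Arr ℕ))}
    (hPV : ∀ i < C.D.length, C.pvOK PV i = true) {i s j : ℕ} (h : C.entP PV i s j = true) :
    C.entOK i s j = true := by
  unfold Cert.entP at h
  unfold Cert.entOK
  cases h0 : Nat.beq (entAt C.D (i, s, j)).tag 0 with
  | true => simpa [h0] using h
  | false =>
    cases h1 : Nat.beq (entAt C.D (i, s, j)).tag 1 with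
    | true => simpa [h0, h1] using h
    | false =>
      simp only [h0, h1, cond_false, Bool.and_eq_true] at h ⊢
      obtain ⟨⟨⟨⟨h2, h3⟩, h4⟩, h5⟩, h6⟩ := h
      refine ⟨⟨⟨h2, ?_⟩, h4⟩, vz_of_dvd C hN fun t => ?_⟩
      · rwa [countF_eq, zero_add] at h3
      · rw [gd_vsub]
        exact (psum_rep C hPV h5).dvd_sub (PRep.unit _ _) h6 t

theorem lvOK_of_lvP (hN : 0 < C.md) {PV : List (List (Arr ℕ))}
    (hPV : ∀ i < C.D.length, C.pvOK PV i = true) {i : ℕ} (h : C.lvP PV i = true) :
    C.lvOK i = true := by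
  have hsp := allB_spec h
  rw [Cert.lvOK]
  revert hsp
  generalize (lvAt C.D i).gens = G
  intro hsp
  induction G with
  | nil => rfl
  | cons a G ih =>
    show (allBelow _ (C.entOK i a) && allB _ G) = true
    rw [ih fun x hx => hsp x (by simp [hx]), Bool.and_true, allBelow_eq_true]
    exact fun j hj => entOK_of_entP C hN hPV (allBelow_eq_true.mp (hsp a (by simp)) j hj)

theorem lvP_of_gens {PV : List (List (Arr ℕ))} {i : ℕ}
    (h : ∀ s ∈ (lvAt C.D i).gens, allBelow (lvAt C.D i).size (C.entP PV i s) = true) :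
    C.lvP PV i = true := by
  rw [Cert.lvP]
  revert h
  generalize (lvAt C.D i).gens = G
  intro h
  induction G with
  | nil => rfl
  | cons a G ih =>
    show (allBelow _ (C.entP PV i a) && allB _ G) = true
    rw [ih fun x hx => h x (by simp [hx]), Bool.and_true]
    exact h a (by simp)

/-- The packed correction vector of a commutator word. -/
noncomputable def Cert.pcomm (l : List (ℕ × ℕ)) : ℕ :=
  List.rec (motive := fun _ => ℕ) 0
    (fun p _ r => Nat.add (punit (C.pows.getD p.1 (0, 0)).2)
      (Nat.add (punit (C.pows.getD p.2 (0, 0)).2) r)) l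

theorem pcomm_rep : ∀ (l : List (ℕ × ℕ)), 2 * l.length < fieldMod →
    PRep C.md (2 * l.length) (gd (C.commVec l)) (C.pcomm l)
  | [], _ => PRep.zero _
  | p :: l, h => by
    simp only [List.length_cons] at h ⊢
    have h1 := (PRep.unit C.md (C.pows.getD p.1 (0, 0)).2).add
      ((PRep.unit C.md (C.pows.getD p.2 (0, 0)).2).add (pcomm_rep l (by omega)) (by omega))
      (by omega)
    refine ((h1.congr fun i => ?_).mono (by omega))
    show _ = gd (vadd _ (vadd _ (C.commVec l))) i
    rw [gd_vadd, gd_vadd]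

/-- A packed row vector is correct. -/
noncomputable def Cert.rowP (PV : List (List (Arr ℕ))) (r : ℕ × ℕ × List ℕ) (R : ℕ) : Bool :=
  pgood C.md C.dim R && Nat.blt (Nat.mul C.md 2) 4611686018427387904 &&
  cond (Nat.beq r.1 0)
    (C.listOK (C.relRun r.2.1 r.2.2).2 &&
      peq C.md C.dim (psum PV (C.relRun r.2.1 r.2.2).2 0) (Nat.add R (punit r.2.1)))
    (C.listOK (act C.D 0 (C.commWord (C.comms.getD r.2.1 [])) r.2.2).2 &&
      C.listOK (act C.D 0 [r.2.1] r.2.2).2 && short (C.comms.getD r.2.1 []) 1048576 &&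
      peq C.md C.dim (psum PV (act C.D 0 (C.commWord (C.comms.getD r.2.1 [])) r.2.2).2 0)
        (Nat.add (Nat.add R (psum PV (act C.D 0 [r.2.1] r.2.2).2 0))
          (C.pcomm (C.comms.getD r.2.1 []))))

theorem rowP_spec {PV : List (List (Arr ℕ))} (hPV : ∀ i < C.D.length, C.pvOK PV i = true)
    {r : ℕ × ℕ × List ℕ} {R : ℕ} (h : C.rowP PV r R = true) :
    PRep C.md C.md (gd (C.rowVec r)) R := by
  unfold Cert.rowP at h
  simp only [Bool.and_eq_true, Nat.blt_eq] at h
  obtain ⟨⟨hg, hb⟩, h⟩ := h
  replace hb : C.md * 2 < 4611686018427387904 := hb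
  have hR : PRep C.md C.md (fun i => (pfld i R : ℤ)) R := fun i => ⟨pgood_spec hg i, by simp⟩
  intro i
  refine ⟨(hR i).1, ?_⟩
  unfold Cert.rowVec
  cases h0 : Nat.beq r.1 0 with
  | true =>
    rw [h0, cond_true, Bool.and_eq_true] at h
    rw [cond_true, gd_vsub]
    have := (psum_rep C hPV h.1).dvd_sub (hR.add (PRep.unit _ r.2.1)
      (show C.md + 1 < 18446744073709551616 by omega)) h.2 i
    convert this using 1
    ring
  | false =>
    simp only [h0, cond_false, Bool.and_eq_true] at h
    obtain ⟨⟨⟨h1, h2⟩, h3⟩, h4⟩ := h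
    have hs := short_spec h3
    rw [cond_false, gd_vsub, gd_vadd]
    have := (psum_rep C hPV h1).dvd_sub ((hR.add (psum_rep C hPV h2)
        (show C.md + 4611686018427387904 < 18446744073709551616 by omega)).add
      (pcomm_rep C (C.comms.getD r.2.1 [])
        (show 2 * (C.comms.getD r.2.1 []).length < 18446744073709551616 by omega))
      (show C.md + 4611686018427387904 + 2 * (C.comms.getD r.2.1 []).length < 18446744073709551616
        by omega)) h4 i
    convert this using 1
    ring

/-- All packed row vectors are correct. -/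
noncomputable def Cert.rowsP (PV : List (List (Arr ℕ))) (rs : List (ℕ × ℕ × List ℕ)) :
    List ℕ → Bool :=
  List.rec (motive := fun _ => List ℕ → Bool)
    (fun RV => List.rec (motive := fun _ => Bool) true (fun _ _ _ => false) RV)
    (fun r _ rec RV => List.rec (motive := fun _ => Bool) false
      (fun R RV' _ => C.rowP PV r R && rec RV') RV) rs

/-- A packed combination of rows. -/
noncomputable def pcombo (cs : List ℤ) : List ℕ → ℕ :=
  List.rec (motive := fun _ => List ℕ → ℕ) (fun _ => 0)
    (fun c _ rec RV => List.rec (motive := fun _ => ℕ) 0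
      (fun R RV' _ => Nat.add (Nat.mul (Int.toNat c) R) (rec RV')) RV) cs

/-- The unpacked combination, on explicit rows. -/
noncomputable def Cert.comboOn (cs : List ℤ) : List (ℕ × ℕ × List ℕ) → List ℤ :=
  List.rec (motive := fun _ => List (ℕ × ℕ × List ℕ) → List ℤ) (fun _ => [])
    (fun c _ rec rs => List.rec (motive := fun _ => List ℤ) []
      (fun r rest _ => vadd (vsmul c (C.rowVec r)) (rec rest)) rs) cs

/-- Coefficients in range. -/
noncomputable def Cert.coefOK (c : ℤ) : Bool :=
  Int.rec (motive := fun _ => Bool) (fun n => Nat.ble n C.md) (fun _ => false) c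

theorem coefOK_spec {c : ℤ} (h : C.coefOK c = true) : (c.toNat : ℤ) = c ∧ c.toNat ≤ C.md := by
  cases c with
  | ofNat n => exact ⟨rfl, Nat.le_of_ble_eq_true h⟩
  | negSucc n => simp [Cert.coefOK] at h

theorem pcombo_rep {PV : List (List (Arr ℕ))} (hPV : ∀ i < C.D.length, C.pvOK PV i = true) :
    ∀ (cs : List ℤ) (rs : List (ℕ × ℕ × List ℕ)) (RV : List ℕ),
    allB C.coefOK cs = true → C.rowsP PV rs RV = true →
    rs.length * (C.md * C.md) < fieldMod →
    PRep C.md (rs.length * (C.md * C.md)) (gd (C.comboOn cs rs)) (pcombo cs RV)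
  | [], rs, RV, _, _, _ => (PRep.zero _).mono (Nat.zero_le _)
  | c :: cs, [], [], _, _, _ => (PRep.zero _).mono (Nat.zero_le _)
  | c :: cs, [], _ :: _, _, h, _ => by simp [Cert.rowsP] at h
  | c :: cs, r :: rs, [], _, h, _ => by simp [Cert.rowsP] at h
  | c :: cs, r :: rs, R :: RV, hcs, h, hB => by
    have h' : (C.rowP PV r R && C.rowsP PV rs RV) = true := h
    have hcs' : (C.coefOK c && allB C.coefOK cs) = true := hcs
    rw [Bool.and_eq_true] at h' hcs'
    obtain ⟨hc, hcle⟩ := coefOK_spec C hcs'.1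
    simp only [List.length_cons] at hB ⊢
    rw [Nat.succ_mul] at hB ⊢
    have hle : c.toNat * C.md ≤ C.md * C.md := Nat.mul_le_mul_right _ hcle
    have h1 := ((rowP_spec C hPV h'.1).mul c.toNat (by omega)).add
      (pcombo_rep hPV cs rs RV hcs'.2 h'.2 (by omega)) (by omega)
    refine ((h1.congr fun i => ?_).mono (by omega))
    show _ = gd (vadd (vsmul c (C.rowVec r)) (C.comboOn cs rs)) i
    rw [gd_vadd, gd_vsmul, hc]

/-- The reduction of a basis element, with packed vectors. -/
noncomputable def Cert.basisP (RV : List ℕ) (k : ℕ) : Bool :=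
  let p := C.combos.getD k (0, [])
  allB C.coefOK p.2 && C.coefOK p.1 &&
    peq C.md C.dim (Nat.add (pcombo p.2 RV) (Nat.mul (Int.toNat p.1) (punit C.piv))) (punit k)

/-- The order of the pivot, with packed vectors. -/
noncomputable def Cert.ordP (RV : List ℕ) : Bool :=
  allB C.coefOK C.ordCombo && Nat.ble C.ord C.md &&
    peq C.md C.dim (pcombo C.ordCombo RV) (Nat.mul C.ord (punit C.piv))

/-- The bound on the sizes of combinations. -/
noncomputable def Cert.boundP : Bool :=
  Nat.blt 0 C.md && Nat.blt (Nat.mul C.rows.length (Nat.mul C.md C.md)) 16140901064495857664 &&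
    Nat.blt C.md 2305843009213693952

theorem basisOK_of_basisP {PV : List (List (Arr ℕ))} {RV : List ℕ} (hb : C.boundP = true)
    (hPV : ∀ i < C.D.length, C.pvOK PV i = true) (hr : C.rowsP PV C.rows RV = true) {k : ℕ}
    (h : C.basisP RV k = true) : C.basisOK k = true := by
  simp only [Cert.boundP, Bool.and_eq_true, Nat.blt_eq] at hb
  obtain ⟨⟨hN, hb1⟩, hb2⟩ := hb
  replace hb1 : C.rows.length * (C.md * C.md) < 16140901064495857664 := hb1
  unfold Cert.basisP at h
  simp only [Bool.and_eq_true] at h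
  obtain ⟨⟨h1, h2⟩, h3⟩ := h
  obtain ⟨hc, hcle⟩ := coefOK_spec C h2
  unfold Cert.basisOK
  refine vz_of_dvd C hN fun i => ?_
  rw [gd_vsub, gd_vsub, gd_vsmul]
  have hp := pcombo_rep C hPV _ C.rows RV h1 hr
    (show C.rows.length * (C.md * C.md) < 18446744073709551616 by omega)
  have hu := (PRep.unit C.md C.piv).mul _
    (show (C.combos.getD k (0, [])).1.toNat * 1 < 18446744073709551616 by omega)
  have := (hp.add hu (show C.rows.length * (C.md * C.md) +
      (C.combos.getD k (0, [])).1.toNat * 1 < 18446744073709551616 by omega)).dvd_sub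
    (PRep.unit _ k) h3 i
  simp only [hc] at this
  convert this using 1
  show gd (C.comboOn _ C.rows) i - _ = _
  ring

theorem ordOK_of_ordP {PV : List (List (Arr ℕ))} {RV : List ℕ} (hb : C.boundP = true)
    (hPV : ∀ i < C.D.length, C.pvOK PV i = true) (hr : C.rowsP PV C.rows RV = true)
    (h : C.ordP RV = true) : C.ordOK = true := by
  simp only [Cert.boundP, Bool.and_eq_true, Nat.blt_eq] at hb
  obtain ⟨⟨hN, hb1⟩, hb2⟩ := hb
  replace hb1 : C.rows.length * (C.md * C.md) < 16140901064495857664 := hb1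
  simp only [Cert.ordP, Bool.and_eq_true] at h
  obtain ⟨⟨h1, h2⟩, h3⟩ := h
  have hle := Nat.le_of_ble_eq_true h2
  unfold Cert.ordOK
  refine vz_of_dvd C hN fun i => ?_
  rw [gd_vsub, gd_vsmul]
  have hp := pcombo_rep C hPV _ C.rows RV h1 hr
    (show C.rows.length * (C.md * C.md) < 18446744073709551616 by omega)
  exact hp.dvd_sub ((PRep.unit C.md C.piv).mul _
    (show C.ord * 1 < 18446744073709551616 by omega)) h3 i

end Cfsg.Agent.StemCert
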