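import Cfsg.Agent.StemCert.Bound
import Cfsg.Agent.Compute.Perm

/-!
The group-side hypotheses of a certificate, checked on a base of a permutation group.
-/

set_option autoImplicit false

namespace Cfsg.Agent.StemCert

open Cfsg.Agent.Compute
open scoped commutatorElement

/-- Apply a word of packed permutations to a point. -/
noncomputable def appW (w : ℕ) (cs : List ℕ) (wd : List ℕ) (x : ℕ) : ℕ :=
  List.rec (motive := fun _ => ℕ) x (fun s _ y => getField w (cs.getD s 0) y) wd

/-- Agreement of two words on the listed points. -/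
noncomputable def eqOn (w : ℕ) (cs : List ℕ) (pts : List ℕ) (a b : List ℕ) : Bool :=
  allB (fun x => Nat.beq (appW w cs a x) (appW w cs b x)) pts

/-- The table identities of one level hold on the base. -/
noncomputable def Cert.tableAt (C : Cert) (w : ℕ) (cs pts : List ℕ) (i : ℕ) : Bool :=
  allB (fun s => allBelow (lvAt C.D i).size fun j =>
    eqOn w cs pts (s :: (lvAt C.D i).word j)
      ((lvAt C.D i).word ((lvAt C.D i).ent s j).jp ++ ((lvAt C.D i).ent s j).hw)) (lvAt C.D i).gens

/-- The generators below a level fix the given point. -/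
noncomputable def fixBelow (w : ℕ) (cs : List ℕ) (Ls : List Lv) (b : ℕ) : Bool :=
  allB (fun L => allB (fun s => Nat.beq (getField w (cs.getD s 0) b) b) L.gens) Ls

/-- Non-trivial transversal words move the base point, which the lower levels fix. -/
noncomputable def faithB (w : ℕ) (cs : List ℕ) : List Lv → List ℕ → Bool :=
  fun Ls => List.rec (motive := fun _ => List ℕ → Bool) (fun _ => true)
    (fun L rest rec bs => List.rec (motive := fun _ => Bool) false
      (fun b bs' _ => fixBelow w cs rest b &&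
        allBelow L.size (fun j => Nat.beq j 0 || !Nat.beq (appW w cs (L.word j) b) b) && rec bs') bs) Ls

/-- The power relators and commutator products hold on the base. -/
noncomputable def Cert.commAt (C : Cert) (w : ℕ) (cs pts : List ℕ) (s : ℕ) : Bool :=
  eqOn w cs pts (List.replicate (C.pows.getD s (0, 0)).1 s) [] &&
    eqOn w cs pts [s] (C.commWord (C.comms.getD s []))

variable {n w k : ℕ} {G : Type*} [Group G] (ι : G →* Equiv.Perm (Fin n)) (g : ℕ → G)
  (cs : List ℕ) (pts : List ℕ)

/-- The codes describe the elements. -/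
def Coded : Prop := ∀ s < k, ∀ x : Fin n, (ι (g s) x : ℕ) = getField w (cs.getD s 0) x

/-- Only the identity fixes all listed points. -/
def IsBase : Prop :=
  (∀ b ∈ pts, b < n) ∧ ∀ σ : G, (∀ x : Fin n, (x : ℕ) ∈ pts → ι σ x = x) → σ = 1

variable {ι g cs pts}

theorem appW_spec (hc : Coded (w := w) (k := k) ι g cs) :
    ∀ (wd : List ℕ), (∀ s ∈ wd, s < k) → ∀ x : Fin n,
      (ι (evalW g wd) x : ℕ) = appW w cs wd x
  | [], _, x => by simp [evalW, appW]
  | s :: wd, h, x => by
    rw [evalW_cons, map_mul, Equiv.Perm.mul_apply, hc s (h s (by simp)),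
      appW_spec hc wd (fun t ht => h t (List.mem_cons_of_mem _ ht)) x]
    rfl

theorem eq_of_eqOn (hc : Coded (w := w) (k := k) ι g cs) (hb : IsBase ι pts) {a b : List ℕ}
    (ha : ∀ s ∈ a, s < k) (hb' : ∀ s ∈ b, s < k) (h : eqOn w cs pts a b = true) :
    evalW g a = evalW g b := by
  refine (inv_mul_eq_one.mp (hb.2 _ fun x hx => ?_)).symm
  have he : ι (evalW g a) x = ι (evalW g b) x := Fin.ext (by
    rw [appW_spec hc a ha, appW_spec hc b hb']
    exact Nat.eq_of_beq_eq_true (allB_spec h _ hx))
  rw [map_mul, map_inv, Equiv.Perm.mul_apply, he, Equiv.Perm.inv_eq_iff_eq]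

theorem letters_lt : ∀ {Ls : List Lv}, wfB Ls = true →
    (allB (fun L => allB (fun s => Nat.blt s k) L.gens) Ls = true) →
    ∀ i j, j < (Ls.getD i noLv).size → ∀ s ∈ (Ls.getD i noLv).word j, s < k
  | [], _, _, _, j, hj, _, _ => by simp [noLv] at hj
  | L :: Ls, hw, hg, 0, j, hj, s, hs => by
    have := allB_spec (allB_spec hg L (by simp)) s ((wfB_cons hw).2.2.1 j hj s hs)
    simpa [Nat.blt_eq] using this
  | L :: Ls, hw, hg, i + 1, j, hj, s, hs => by
    have hg' : (allB (fun s => Nat.blt s k) L.gens &&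
      allB (fun L => allB (fun s => Nat.blt s k) L.gens) Ls) = true := hg
    rw [Bool.and_eq_true] at hg'
    exact letters_lt (wfB_cons hw).2.2.2.2 hg'.2 i j hj s hs

/-- The generators are below `k`. -/
noncomputable def gensBelow (k : ℕ) (Ls : List Lv) : Bool :=
  allB (fun L => allB (fun s => Nat.blt s k) L.gens) Ls

theorem gens_lt {Ls : List Lv} (hg : gensBelow k Ls = true) {L : Lv} (hL : L ∈ Ls) {s : ℕ}
    (hs : s ∈ L.gens) : s < k := by
  simpa [Nat.blt_eq] using allB_spec (allB_spec hg L hL) s hs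

theorem headGens_mem {Ls : List Lv} {t : ℕ} (h : t ∈ headGens Ls) :
    ∃ L ∈ Ls, t ∈ L.gens := by
  cases Ls with
  | nil => simp [headGens] at h
  | cons L Ls => exact ⟨L, by simp, h⟩

theorem tableOK_of_check {C : Cert} (hc : Coded (w := w) (k := k) ι g cs) (hb : IsBase ι pts)
    (hw : wfB C.D = true) (hg : gensBelow k C.D = true)
    (h : ∀ i < C.D.length, C.tableAt w cs pts i = true) : TableOK g C.D := by
  rintro ⟨i, s, j⟩ ⟨hi, hs, hj⟩
  have he := allBelow_eq_true.mp (allB_spec (h i hi) s hs) j hj
  have hLmem : lvAt C.D i ∈ C.D := by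
    rw [lvAt, List.getD_eq_getElem _ _ hi]; exact List.getElem_mem hi
  have hdrop : C.D.drop i = lvAt C.D i :: C.D.drop (i + 1) := by
    rw [lvAt, List.getD_eq_getElem _ _ hi]; exact List.drop_eq_getElem_cons hi
  obtain ⟨-, -, hword, hent, -⟩ := wfB_cons (hdrop ▸ wfB_drop i hw)
  obtain ⟨hjp, hhw⟩ := hent s hs j hj
  rw [← evalW_cons, ← evalW_append]
  refine eq_of_eqOn hc hb ?_ ?_ he
  · intro t ht
    rcases List.mem_cons.mp ht with rfl | ht
    exacts [gens_lt hg hLmem hs, gens_lt hg hLmem (hword j hj t ht)]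
  · intro t ht
    rcases List.mem_append.mp ht with ht | ht
    · exact gens_lt hg hLmem (hword _ hjp t ht)
    · obtain ⟨L, hL, hLt⟩ := headGens_mem (hhw t ht)
      exact gens_lt hg (List.mem_of_mem_drop hL) hLt

theorem nf_fix (hc : Coded (w := w) (k := k) ι g cs) {b : Fin n} :
    ∀ {Ls : List Lv} {x : List ℕ}, wfB Ls = true → gensBelow k Ls = true →
      fixBelow w cs Ls b = true → Valid Ls x → ι (nf g Lv.word Ls x) b = b
  | [], _, _, _, _, _ => by simp [nf]
  | L :: Ls, x, hw, hg, hf, hx => by
    obtain ⟨j, r, rfl, hj, hr⟩ := hx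
    obtain ⟨-, -, hword, -, hw'⟩ := wfB_cons hw
    have hg' : (allB (fun s => Nat.blt s k) L.gens && gensBelow k Ls) = true := hg
    have hf' : (allB (fun s => Nat.beq (getField w (cs.getD s 0) b) b) L.gens &&
      fixBelow w cs Ls b) = true := hf
    rw [Bool.and_eq_true] at hg' hf'
    simp only [nf, List.headD_cons, List.tail_cons]
    rw [map_mul, Equiv.Perm.mul_apply, nf_fix hc hw' hg'.2 hf'.2 hr]
    have key : ∀ wd : List ℕ, (∀ s ∈ wd, s ∈ L.gens) → ι (evalW g wd) b = b := by
      intro wd
      induction wd with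
      | nil => intro _; simp [evalW]
      | cons s wd ih =>
        intro hs
        rw [evalW_cons, map_mul, Equiv.Perm.mul_apply, ih fun t ht => hs t (List.mem_cons_of_mem _ ht)]
        apply Fin.ext
        rw [hc s (by simpa [Nat.blt_eq] using allB_spec hg'.1 s (hs s (by simp)))]
        exact Nat.eq_of_beq_eq_true (allB_spec hf'.1 s (hs s (by simp)))
    exact key _ (hword j hj)

theorem faithful_of_check (hc : Coded (w := w) (k := k) ι g cs) :
    ∀ {Ls : List Lv} {bs : List ℕ}, wfB Ls = true → gensBelow k Ls = true →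
      (∀ b ∈ bs, b < n) → faithB w cs Ls bs = true → Faithful g Ls
  | [], _, _, _, _, _ => fun x hx _ => hx
  | _ :: _, [], _, _, _, h => by simp [faithB] at h
  | L :: Ls, b :: bs, hw, hg, hlt, h => by
    obtain ⟨-, hw0, hword, -, hw'⟩ := wfB_cons hw
    have hg' : (allB (fun s => Nat.blt s k) L.gens && gensBelow k Ls) = true := hg
    have h' : (fixBelow w cs Ls b &&
      allBelow L.size (fun j => Nat.beq j 0 || !Nat.beq (appW w cs (L.word j) b) b) &&
      faithB w cs Ls bs) = true := h
    simp only [Bool.and_eq_true] at hg' h'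
    rintro x ⟨j, r, rfl, hj, hr⟩ hx
    simp only [nf, List.headD_cons, List.tail_cons] at hx
    have hbn : b < n := hlt b (by simp)
    have hj0 : j = 0 := by
      have hh := allBelow_eq_true.mp h'.1.2 j hj
      simp only [Bool.or_eq_true, Bool.not_eq_true'] at hh
      rcases hh with hh | hh
      · exact Nat.eq_of_beq_eq_true hh
      · exfalso
        have he : ι (evalW g (L.word j)) ⟨b, hbn⟩ = ⟨b, hbn⟩ := by
          have := congrArg (fun σ => ι σ ⟨b, hbn⟩) hx
          simpa [nf_fix hc (b := ⟨b, hbn⟩) hw' hg'.2 h'.1.1 hr] using this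
        have hv := appW_spec hc (L.word j)
          (fun t ht => gens_lt hg (by simp) (hword j hj t ht)) ⟨b, hbn⟩
        rw [he] at hv
        rw [← hv] at hh
        simp at hh
    subst hj0
    rw [hw0, show evalW g [] = 1 from rfl, one_mul] at hx
    rw [faithful_of_check hc hw' hg'.2 (fun c hc' => hlt c (List.mem_cons_of_mem _ hc')) h'.2 r hr hx]
    rfl

theorem commProd_of_check {C : Cert} (hc : Coded (w := w) (k := k) ι g cs) (hb : IsBase ι pts)
    (hp : allBelow k C.powOK = true) (hg : gensBelow k C.D = true)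
    (hcm : allBelow k C.commOK = true) (h : allBelow k (C.commAt w cs pts) = true) :
    ∀ s, s < k → g s = commProd g (C.comms.getD s []) := by
  have hhead : ∀ t ∈ headGens C.D, t < k := fun t ht => by
    obtain ⟨L, hL, hLt⟩ := headGens_mem ht
    exact gens_lt hg hL hLt
  have hpow : ∀ a, a < k → g a ^ ((C.pows.getD a (0, 0)).1 - 1) = (g a)⁻¹ := by
    intro a ha
    have hh := allBelow_eq_true.mp h a ha
    simp only [Cert.commAt, Bool.and_eq_true] at hh
    have hp' := allBelow_eq_true.mp hp a ha
    simp only [Cert.powOK, Bool.and_eq_true, Nat.blt_eq] at hp'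
    have := eq_of_eqOn hc hb (a := List.replicate _ a) (b := [])
      (fun t ht => (List.eq_of_mem_replicate ht) ▸ ha) (by simp) hh.1
    rw [evalW_replicate, show evalW g [] = 1 from rfl] at this
    rw [eq_inv_iff_mul_eq_one, ← pow_succ, Nat.sub_add_cancel hp'.1.1, this]
  intro s hs
  have hh := allBelow_eq_true.mp h s hs
  simp only [Cert.commAt, Bool.and_eq_true] at hh
  have hpairs : ∀ p ∈ C.comms.getD s [], p.1 < k ∧ p.2 < k := fun p hp => by
    have := allB_spec (allBelow_eq_true.mp hcm s hs) p hp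
    simp only [Bool.and_eq_true, memB_eq_true] at this
    exact ⟨hhead _ this.1, hhead _ this.2⟩
  have key : ∀ L : List (ℕ × ℕ), (∀ p ∈ L, p.1 < k ∧ p.2 < k) →
      (∀ t ∈ C.commWord L, t < k) ∧ evalW g (C.commWord L) = commProd g L := by
    intro L
    induction L with
    | nil => intro _; exact ⟨by simp [Cert.commWord], rfl⟩
    | cons p L ih =>
      intro hL
      obtain ⟨h1, h2⟩ := ih fun q hq => hL q (List.mem_cons_of_mem _ hq)
      obtain ⟨ha, hb⟩ := hL p (by simp)
      have hw : C.commWord (p :: L) = p.1 :: p.2 ::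
          (List.replicate ((C.pows.getD p.1 (0, 0)).1 - 1) p.1 ++
            (List.replicate ((C.pows.getD p.2 (0, 0)).1 - 1) p.2 ++ C.commWord L)) := rfl
      refine ⟨fun t ht => ?_, ?_⟩
      · rw [hw] at ht
        simp only [List.mem_cons, List.mem_append, List.mem_replicate] at ht
        rcases ht with rfl | rfl | ⟨-, rfl⟩ | ⟨-, rfl⟩ | ht
        exacts [ha, hb, ha, hb, h1 t ht]
      · rw [hw, evalW_cons, evalW_cons, evalW_append, evalW_append, evalW_replicate,
          evalW_replicate, hpow _ ha, hpow _ hb, h2,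
          show commProd g (p :: L) = ⁅g p.1, g p.2⁆ * commProd g L from rfl, commutatorElement_def]
        simp only [mul_assoc]
  obtain ⟨h1, h2⟩ := key _ hpairs
  rw [← h2, ← eq_of_eqOn hc hb (by simpa using hs) h1 hh.2]
  simp [evalW]

end Cfsg.Agent.StemCert
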