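import Cfsg.Agent.Compute.Basic

/-!
Checkable certificates bounding the Schur multiplier of a group given by transversal tables.

A level carries a transversal (words in fixed generators) and, for each generator and each coset,
the table identity `s * word j = word jp * hw`. Lifting the generators to a central extension, every
table identity holds up to a central element; the certificate expresses all of these elements in a
small family and gives enough relations among the family.
-/

set_option autoImplicit false

namespace Cfsg.Agent.StemCert

open Cfsg.Agent.Compute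

/-- A binary tree used as an array. -/
inductive Arr (α : Type) where
  | nil : Arr α
  | node (e : α) (l r : Arr α) : Arr α

/-- Look up entry number `j`. -/
noncomputable def Arr.get {α : Type} (t : Arr α) (d : α) : ℕ → α :=
  Arr.rec (motive := fun _ => ℕ → α) (fun _ => d)
    (fun e _ _ gl gr j => Nat.rec (motive := fun _ => α) e
      (fun k _ => cond (Nat.beq (Nat.mod k 2) 0) (gl (Nat.div k 2)) (gr (Nat.div k 2))) j) t

/-- A table entry: target coset, lower word, value, rank and justification. -/
structure Ent where
  jp : ℕ
  hw : List ℕ
  e : List ℤ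
  rk : ℕ
  tag : ℕ
  idx : ℕ
  at' : List ℕ

/-- One level. -/
structure Lv where
  size : ℕ
  gens : List ℕ
  words : Arr (List ℕ)
  ents : List (Arr Ent)

/-- The empty level. -/
def noLv : Lv := ⟨0, [], .nil, []⟩

/-- The empty entry. -/
def noEnt : Ent := ⟨0, [], [], 0, 0, 0, []⟩

/-- The transversal word. -/
noncomputable def Lv.word (L : Lv) (j : ℕ) : List ℕ := L.words.get [] j

/-- The table entry. -/
noncomputable def Lv.ent (L : Lv) (s j : ℕ) : Ent := (L.ents.getD s .nil).get noEnt j

/-- A variable: level, generator, coset. -/
abbrev Var := ℕ × ℕ × ℕ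

/-- Continue with an evaluated number. -/
noncomputable def forceN {α : Type} (n : ℕ) (k : ℕ → α) : α :=
  Nat.rec (motive := fun _ => α) (k 0) (fun m _ => k (Nat.succ m)) n

/-- Continue with an evaluated list of numbers. -/
noncomputable def forceL {α : Type} (l : List ℕ) : (List ℕ → α) → α :=
  List.rec (motive := fun _ => (List ℕ → α) → α) (fun k => k [])
    (fun a _ ih k => forceN a (fun a' => ih (fun l' => k (a' :: l')))) l

/-- Continue with an evaluated integer. -/
noncomputable def forceZ {α : Type} (z : ℤ) (k : ℤ → α) : α :=
  Int.rec (motive := fun _ => α) (fun n => forceN n (fun m => k (Int.ofNat m)))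
    (fun n => forceN n (fun m => k (Int.negSucc m))) z

/-- Apply a word to a normal form, recording the central variables met. -/
noncomputable def act (Ls : List Lv) : ℕ → List ℕ → List ℕ → List ℕ × List Var :=
  List.rec (motive := fun _ => ℕ → List ℕ → List ℕ → List ℕ × List Var)
    (fun _ _ x => (x, []))
    (fun L _ rec i w x =>
      List.rec (motive := fun _ => List ℕ × List Var) (x, [])
        (fun s _ p => forceL p.1 fun x' =>
          let j := x'.headD 0
          let E := L.ent s j
          let r := rec (Nat.succ i) E.hw x'.tail
          (E.jp :: r.1, (i, s, j) :: (r.2 ++ p.2))) w) Ls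

/-- The generators of the first level. -/
def headGens : List Lv → List ℕ
  | [] => []
  | L :: _ => L.gens

/-- Equality of lists of numbers. -/
noncomputable def natsEq (a : List ℕ) : List ℕ → Bool :=
  List.rec (motive := fun _ => List ℕ → Bool)
    (fun b => List.rec (motive := fun _ => Bool) true (fun _ _ _ => false) b)
    (fun x _ rec b => List.rec (motive := fun _ => Bool) false
      (fun y l _ => Nat.beq x y && rec l) b) a

/-- `∀` over a list. -/
noncomputable def allB {α : Type} (f : α → Bool) (l : List α) : Bool :=
  List.rec (motive := fun _ => Bool) true (fun x _ r => f x && r) l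

/-- Shape conditions on the levels. -/
noncomputable def wfB : List Lv → Bool :=
  fun Ls => List.rec (motive := fun _ => Bool) true
    (fun L rest r => Nat.blt 0 L.size && natsEq (L.word 0) [] &&
      allBelow L.size (fun j => allB (fun s => memB s L.gens) (L.word j)) &&
      allB (fun s => allBelow L.size fun j =>
        Nat.blt (L.ent s j).jp L.size && allB (fun t => memB t (headGens rest)) (L.ent s j).hw) L.gens &&
      r) Ls

/-- Validity of a normal form. -/
noncomputable def validB (Ls : List Lv) : List ℕ → Bool :=
  List.rec (motive := fun _ => List ℕ → Bool) (fun x => natsEq x [])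
    (fun L _ rec x => List.rec (motive := fun _ => Bool) false
      (fun j r _ => Nat.blt j L.size && rec r) x) Ls

/-- Addition of integer vectors. -/
noncomputable def vadd (a : List ℤ) : List ℤ → List ℤ :=
  List.rec (motive := fun _ => List ℤ → List ℤ) (fun b => b)
    (fun x xs rec b => List.rec (motive := fun _ => List ℤ) (x :: xs)
      (fun y ys _ => forceZ (Int.add x y) fun z => z :: rec ys) b) a

/-- Scaling of integer vectors. -/
noncomputable def vsmul (c : ℤ) (a : List ℤ) : List ℤ :=
  List.rec (motive := fun _ => List ℤ) [] (fun x _ r => forceZ (Int.mul c x) fun z => z :: r) a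

/-- A vector of non-negative integers packed in fields of width 32. -/
noncomputable def zvec (len : ℕ) : ℕ → List ℤ :=
  Nat.rec (motive := fun _ => ℕ → List ℤ) (fun _ => [])
    (fun _ r c => Int.ofNat (Nat.mod c 4294967296) :: r (Nat.shiftRight c 32)) len

/-- A unit vector. -/
noncomputable def vunit (n : ℕ) : List ℤ :=
  Nat.rec (motive := fun _ => List ℤ) [1] (fun _ r => 0 :: r) n

/-- Vanishing of an integer vector. -/
noncomputable def vzero (a : List ℤ) : Bool :=
  allB (fun x => Int.rec (motive := fun _ => Bool) (fun n => Nat.beq n 0) (fun _ => false) x) a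

/-- Difference. -/
noncomputable def vsub (a b : List ℤ) : List ℤ := vadd a (vsmul (-1) b)

/-- The level of a variable. -/
noncomputable def lvAt (D : List Lv) (i : ℕ) : Lv := D.getD i noLv

/-- The entry of a variable. -/
noncomputable def entAt (D : List Lv) (v : Var) : Ent := (lvAt D v.1).ent v.2.1 v.2.2

/-- The sum of the values of variables. -/
noncomputable def vsum (D : List Lv) (l : List Var) : List ℤ :=
  List.rec (motive := fun _ => List ℤ) [] (fun v _ r => vadd (entAt D v).e r) l

/-- Equality of variables. -/
noncomputable def varEq (a b : Var) : Bool :=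
  Nat.beq a.1 b.1 && Nat.beq a.2.1 b.2.1 && Nat.beq a.2.2 b.2.2

/-- The number of occurrences. -/
noncomputable def varCount (v : Var) (l : List Var) : ℕ :=
  List.rec (motive := fun _ => ℕ) 0 (fun w _ r => cond (varEq v w) (Nat.succ r) r) l

/-- The whole certificate. -/
structure Cert where
  /-- The levels. -/
  D : List Lv
  /-- Relators: level and word. -/
  rels : List (ℕ × List ℕ)
  /-- Variables serving as additional basis elements. -/
  seeds : List Var
  /-- For each generator, pairs whose commutators multiply to it. -/
  comms : List (List (ℕ × ℕ))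
  /-- For each generator, an order and the index of the relator given by that power. -/
  pows : List (ℕ × ℕ)
  /-- Relations: `(0, n, x)` from relator `n`, `(1, k, x)` from the commutators of generator `k`. -/
  rows : List (ℕ × ℕ × List ℕ)
  /-- The basis element generating everything and its order. -/
  piv : ℕ
  /-- The bound. -/
  ord : ℕ
  /-- For each basis element its multiple of the pivot and the combination of rows. -/
  combos : List (ℤ × List ℤ)
  /-- The combination giving the order of the pivot. -/
  ordCombo : List ℤ
  /-- A multiple of the exponent of the kernel; 0 if none is used. -/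
  md : ℕ := 0

variable (C : Cert)

/-- Vanishing of a vector modulo `md`. -/
noncomputable def Cert.vz (a : List ℤ) : Bool :=
  cond (Nat.beq C.md 0) (vzero a) (allB (fun x => Nat.beq (Nat.mod (Int.natAbs x) C.md) 0) a)

/-- The number of relators. -/
noncomputable def Cert.nRel : ℕ := C.rels.length

/-- The evaluation of relator `n` at a normal form. -/
noncomputable def Cert.relRun (n : ℕ) (x : List ℕ) : List ℕ × List Var :=
  act (C.D.drop (C.rels.getD n (0, [])).1) (C.rels.getD n (0, [])).1 (C.rels.getD n (0, [])).2 x

/-- A zero normal form. -/
noncomputable def Cert.relZero (n : ℕ) : List ℕ :=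
  List.replicate (C.D.drop (C.rels.getD n (0, [])).1).length 0

/-- The relators are words in the generators of their level, fixing the trivial normal form. -/
noncomputable def Cert.relOK (n : ℕ) : Bool :=
  let r := C.rels.getD n (0, [])
  allB (fun s => memB s (headGens (C.D.drop r.1))) r.2 &&
    natsEq (C.relRun n (C.relZero n)).1 (C.relZero n)

/-- The justification of one variable. -/
noncomputable def Cert.entOK (i s j : ℕ) : Bool :=
  let E := entAt C.D (i, s, j)
  cond (Nat.beq E.tag 0)
    (natsEq (s :: (lvAt C.D i).word j) ((lvAt C.D i).word E.jp ++ E.hw) && C.vz E.e)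
    (cond (Nat.beq E.tag 1)
      (Nat.blt E.idx C.seeds.length && varEq (C.seeds.getD E.idx (0, 0, 0)) (i, s, j) &&
        C.vz (vsub E.e (vunit (Nat.add C.nRel E.idx))))
      (Nat.blt E.idx C.nRel && validB (C.D.drop (C.rels.getD E.idx (0, [])).1) E.at' &&
        natsEq (C.relRun E.idx E.at').1 E.at' &&
        Nat.beq (varCount (i, s, j) (C.relRun E.idx E.at').2) 1 &&
        allB (fun v => varEq (i, s, j) v || Nat.blt (entAt C.D v).rk E.rk) (C.relRun E.idx E.at').2 &&
        C.vz (vsub (vsum C.D (C.relRun E.idx E.at').2) (vunit E.idx))))

/-- The justification of all variables of one level. -/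
noncomputable def Cert.lvOK (i : ℕ) : Bool :=
  allB (fun s => allBelow (lvAt C.D i).size (C.entOK i s)) (lvAt C.D i).gens

/-- A commutator word with positive exponents. -/
noncomputable def Cert.commWord (l : List (ℕ × ℕ)) : List ℕ :=
  List.rec (motive := fun _ => List ℕ) []
    (fun p _ r => p.1 :: p.2 :: (List.replicate ((C.pows.getD p.1 (0, 0)).1 - 1) p.1 ++
      (List.replicate ((C.pows.getD p.2 (0, 0)).1 - 1) p.2 ++ r))) l

/-- The correction vector of a commutator word. -/
noncomputable def Cert.commVec (l : List (ℕ × ℕ)) : List ℤ :=
  List.rec (motive := fun _ => List ℤ) []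
    (fun p _ r => vadd (vunit (C.pows.getD p.1 (0, 0)).2)
      (vadd (vunit (C.pows.getD p.2 (0, 0)).2) r)) l

/-- The power relators. -/
noncomputable def Cert.powOK (a : ℕ) : Bool :=
  let p := C.pows.getD a (0, 0)
  Nat.blt 0 p.1 && Nat.blt p.2 C.nRel &&
    natsEq (C.rels.getD p.2 (0, [])).2 (List.replicate p.1 a)

/-- The commutator data of a generator. -/
noncomputable def Cert.commOK (k : ℕ) : Bool :=
  allB (fun p => memB p.1 (headGens C.D) && memB p.2 (headGens C.D)) (C.comms.getD k [])

/-- The side condition of a row. -/
noncomputable def Cert.rowOK (r : ℕ × ℕ × List ℕ) : Bool :=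
  cond (Nat.beq r.1 0)
    (Nat.blt r.2.1 C.nRel && validB (C.D.drop (C.rels.getD r.2.1 (0, [])).1) r.2.2 &&
      natsEq (C.relRun r.2.1 r.2.2).1 r.2.2)
    (memB r.2.1 (headGens C.D) && validB C.D r.2.2 &&
      natsEq (act C.D 0 (C.commWord (C.comms.getD r.2.1 [])) r.2.2).1 (act C.D 0 [r.2.1] r.2.2).1)

/-- The vector of a row. -/
noncomputable def Cert.rowVec (r : ℕ × ℕ × List ℕ) : List ℤ :=
  cond (Nat.beq r.1 0)
    (vsub (vsum C.D (C.relRun r.2.1 r.2.2).2) (vunit r.2.1))
    (vsub (vsum C.D (act C.D 0 (C.commWord (C.comms.getD r.2.1 [])) r.2.2).2)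
      (vadd (vsum C.D (act C.D 0 [r.2.1] r.2.2).2) (C.commVec (C.comms.getD r.2.1 []))))

/-- A combination of rows. -/
noncomputable def Cert.combo (cs : List ℤ) : List ℤ :=
  List.rec (motive := fun _ => List (ℕ × ℕ × List ℕ) → List ℤ) (fun _ => [])
    (fun c _ rec rs => List.rec (motive := fun _ => List ℤ) []
      (fun r rest _ => vadd (vsmul c (C.rowVec r)) (rec rest)) rs) cs C.rows

/-- The basis size. -/
noncomputable def Cert.dim : ℕ := Nat.add C.nRel C.seeds.length

/-- The reduction of a basis element. -/
noncomputable def Cert.basisOK (k : ℕ) : Bool :=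
  let p := C.combos.getD k (0, [])
  C.vz (vsub (C.combo p.2) (vsub (vunit k) (vsmul p.1 (vunit C.piv))))

/-- The order of the pivot. -/
noncomputable def Cert.ordOK : Bool :=
  C.vz (vsub (C.combo C.ordCombo) (vsmul (Int.ofNat C.ord) (vunit C.piv)))

/-- The generator range is the set of generators of the top level. -/
noncomputable def Cert.topOK (k : ℕ) : Bool :=
  allBelow k (fun s => memB s (headGens C.D)) && allB (fun s => Nat.blt s k) (headGens C.D)

end Cfsg.Agent.StemCert
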