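import Cfsg.Agent.StemCert.Stream
import Cfsg.Agent.StemCert.Reduced

/-! Packed rows evaluated with shared intermediate results. -/

set_option autoImplicit false

namespace Cfsg.Agent.StemCert

open Cfsg.Agent.Compute

variable (C : Cert)

/-- The packed sum of the variables met by a word. -/
noncomputable def Cert.wordSum (PV : List (List (Arr ℕ))) (r0 : ℕ) (w x : List ℕ) : ℕ :=
  forceN (codeX x) fun x' => Prod.rec (motive := fun _ => ℕ)
    (fun _ W => forceS W fun _ _ S => Nat.shiftRight S 64) (actW (varW C.md PV) (C.D.drop r0) r0 w x')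

/-- A word is usable for sums. -/
noncomputable def Cert.wordB (m r0 : ℕ) (w x : List ℕ) : Bool :=
  allB (fun s => memB s (headGens (C.D.drop r0))) w && validB (C.D.drop r0) x &&
    Nat.blt (Nat.mul (Nat.add C.md 1) (Nat.mul w.length (lenBd m (C.D.drop r0)))) 1152921504606846976

theorem wordSum_rep (hN : 0 < C.md) {m : ℕ} (hm : hwB m C.D = true) (hsm : smallB C.D = true)
    (hwf : wfB C.D = true) {PV : List (List (Arr ℕ))} (hPV : ∀ i < C.D.length, C.pvOK PV i = true)
    {r0 : ℕ} {w x : List ℕ} (h : C.wordB m r0 w x = true) :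
    PRep C.md 1152921504606846976 (gd (vsum C.D (act (C.D.drop r0) r0 w x).2)) (C.wordSum PV r0 w x) := by
  simp only [Cert.wordB, Bool.and_eq_true, Nat.blt_eq] at h
  obtain ⟨⟨h1, h2⟩, h3⟩ := h
  obtain ⟨-, hv2, hlen, hx0, hP⟩ := actW_spec (varW C.md PV) C.D hm
    (SumOK C.md PV C.D) (sumOK_zero C.md PV C.D) (sumOK_one hN PV C.D) (sumOK_add C.md PV C.D)
    (C.D.drop r0) r0 rfl (wfB_drop r0 hwf) (smallB_drop r0 hsm) w x
    (fun t ht => memB_eq_true.mp (allB_spec h1 t ht)) (valid_of_check h2)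
  rcases hA : actW (varW C.md PV) (C.D.drop r0) r0 w (codeX x) with ⟨rx, key, c, S⟩
  rw [hA] at hP
  obtain ⟨-, -, -, -, d, hd, hS⟩ := hP
  generalize (act (C.D.drop r0) r0 w x).2 = l at hv2 hlen hd hS
  dsimp only at hS
  have hbd : (C.md + 1) * l.length < 1152921504606846976 :=
    lt_of_le_of_lt (Nat.mul_le_mul_left _ hlen) h3
  have hdlt : d < fieldMod :=
    lt_of_le_of_lt (hd.trans (Nat.mul_le_mul_right _ (Nat.le_succ _))) (lt_trans hbd (by norm_num))
  have e : C.wordSum PV r0 w x = (l.map (pvAt PV)).sum := by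
    unfold Cert.wordSum
    rw [forceN_eq, hA]
    dsimp only
    rw [forceS_eq]
    show S >>> 64 = _
    rw [hS, Nat.shiftRight_eq_div_pow, show (2 : ℕ) ^ 64 = fieldMod by norm_num,
      Nat.add_mul_div_left _ _ (by norm_num), Nat.div_eq_of_lt hdlt, zero_add]
  have hp := psum_spec C hPV l (fun v hv => varB_of_isVar (hv2 v hv)) 0 _ 0 (PRep.zero _)
    (show 0 + C.md * l.length < fieldMod by
      rw [Nat.zero_add]
      exact lt_of_le_of_lt (Nat.mul_le_mul_right _ (Nat.le_succ _)) (lt_trans hbd (by norm_num)))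
  rw [psum_eq_sum, zero_add, zero_add] at hp
  rw [e]
  refine (hp.congr fun i => by simp).mono ?_
  have := Nat.mul_le_mul_right l.length (Nat.le_succ C.md)
  exact le_trans this hbd.le

/-- A packed row vector is correct. -/
noncomputable def Cert.rowW (m : ℕ) (PV : List (List (Arr ℕ))) (r : ℕ × ℕ × List ℕ) (R : ℕ) : Bool :=
  pgood C.md C.dim R && Nat.blt (Nat.mul C.md 2) 1152921504606846976 &&
  cond (Nat.beq r.1 0)
    (C.wordB m (C.rels.getD r.2.1 (0, [])).1 (C.rels.getD r.2.1 (0, [])).2 r.2.2 &&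
      peq C.md C.dim (C.wordSum PV (C.rels.getD r.2.1 (0, [])).1 (C.rels.getD r.2.1 (0, [])).2 r.2.2)
        (Nat.add R (punit r.2.1)))
    (C.wordB m 0 (C.commWord (C.comms.getD r.2.1 [])) r.2.2 && C.wordB m 0 [r.2.1] r.2.2 &&
      short (C.comms.getD r.2.1 []) 1048576 &&
      peq C.md C.dim (C.wordSum PV 0 (C.commWord (C.comms.getD r.2.1 [])) r.2.2)
        (Nat.add (Nat.add R (C.wordSum PV 0 [r.2.1] r.2.2)) (C.pcomm (C.comms.getD r.2.1 []))))

theorem rowW_sound (hN : 0 < C.md) {m : ℕ} (hm : hwB m C.D = true) (hsm : smallB C.D = true)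
    (hwf : wfB C.D = true) {PV : List (List (Arr ℕ))} (hPV : ∀ i < C.D.length, C.pvOK PV i = true) :
    RowSound C (C.rowW m PV) := by
  intro r R h
  unfold Cert.rowW at h
  simp only [Bool.and_eq_true, Nat.blt_eq] at h
  obtain ⟨⟨hg, hb⟩, h⟩ := h
  replace hb : C.md * 2 < 1152921504606846976 := hb
  refine ⟨hg, fun i => ⟨pgood_spec hg i, ?_⟩⟩
  have hR : PRep C.md C.md (fun i => (pfld i R : ℤ)) R := fun i => ⟨pgood_spec hg i, by simp⟩
  cases h0 : Nat.beq r.1 0 with
  | true =>
    simp only [h0, cond_true, Bool.and_eq_true] at h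
    have := (wordSum_rep C hN hm hsm hwf hPV h.1).dvd_sub
      (hR.add (PRep.unit C.md r.2.1) (show C.md + 1 < 18446744073709551616 by omega)) h.2 i
    simp only [Cert.rowVec, h0, cond_true, gd_vsub, Cert.relRun]
    convert this using 1
    ring
  | false =>
    simp only [h0, cond_false, Bool.and_eq_true] at h
    obtain ⟨⟨⟨hl, hl'⟩, hs⟩, h⟩ := h
    have hcl := short_spec hs
    have h1 := wordSum_rep C hN hm hsm hwf hPV hl'
    have := (wordSum_rep C hN hm hsm hwf hPV hl).dvd_sub
      ((hR.add h1 (show C.md + 1152921504606846976 < 18446744073709551616 by omega)).add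
        (pcomm_rep C (C.comms.getD r.2.1 []) (show 2 * _ < 18446744073709551616 by omega))
        (show C.md + 1152921504606846976 + 2 * (C.comms.getD r.2.1 []).length < 18446744073709551616 by
          omega)) h i
    simp only [Cert.rowVec, h0, cond_false, gd_vsub, gd_vadd]
    simp only [List.drop_zero] at this
    convert this using 1
    ring

end Cfsg.Agent.StemCert
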