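import Cfsg.Agent.Compute.Perm

/-!
Permutations of `n` blocks of `m` points commuting with the cyclic shift inside the blocks, packed by
the images of the first point of each block.
-/

set_option autoImplicit false

namespace Cfsg.Agent.StemCert.CyclicSheets

open Cfsg.Agent.Compute

/-- The image of a point. -/
noncomputable def cAct (w m g x : ℕ) : ℕ :=
  Nat.add (Nat.mul m (Nat.div (getField w g (Nat.div x m)) m))
    (Nat.mod (Nat.add (getField w g (Nat.div x m)) x) m)

/-- The composition. -/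
noncomputable def cMul (w m n p q : ℕ) : ℕ := pack w n (fun i => cAct w m p (getField w q i))

/-- The identity. -/
noncomputable def cId (w m n : ℕ) : ℕ := pack w n (fun i => Nat.mul m i)

/-- A valid code. -/
noncomputable def cOkB (w m n g : ℕ) : Bool :=
  allBelow n (fun i => Nat.blt (getField w g i) (Nat.mul m n)) &&
    Nat.beq (Nat.rec (motive := fun _ => ℕ) 0
      (fun k r => Nat.lor r (Nat.shiftLeft 1 (Nat.div (getField w g k) m))) n)
      (Nat.sub (Nat.shiftLeft 1 n) 1)

/-- A valid code, propositionally. -/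
def COk (w m n g : ℕ) : Prop :=
  (∀ i, i < n → getField w g i < m * n) ∧
    ∀ i j, i < n → j < n → getField w g i / m = getField w g j / m → i = j

variable {w m n : ℕ}

theorem cAct_eq (g x : ℕ) :
    cAct w m g x = m * (getField w g (x / m) / m) + (getField w g (x / m) + x) % m := rfl

theorem cAct_div (hm : 0 < m) (g x : ℕ) : cAct w m g x / m = getField w g (x / m) / m := by
  rw [cAct_eq, Nat.mul_add_div hm, Nat.div_eq_of_lt (Nat.mod_lt _ hm), add_zero]

theorem cAct_mod (g x : ℕ) : cAct w m g x % m = (getField w g (x / m) + x) % m := by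
  rw [cAct_eq, Nat.mul_add_mod, Nat.mod_mod]

theorem block_lt (hm : 0 < m) {x : ℕ} (hx : x < m * n) : x / m < n :=
  (Nat.div_lt_iff_lt_mul hm).mpr (by rwa [Nat.mul_comm])

theorem cAct_lt (hm : 0 < m) {g x : ℕ} (hg : COk w m n g) (hx : x < m * n) :
    cAct w m g x < m * n := by
  have h2 := block_lt hm (hg.1 (x / m) (block_lt hm hx))
  have h3 : m * (getField w g (x / m) / m + 1) ≤ m * n := Nat.mul_le_mul_left _ h2
  have h4 := Nat.mod_lt (getField w g (x / m) + x) hm
  rw [cAct_eq]
  rw [Nat.mul_succ] at h3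
  omega

theorem cAct_inj (hm : 0 < m) {g x y : ℕ} (hg : COk w m n g) (hx : x < m * n) (hy : y < m * n)
    (h : cAct w m g x = cAct w m g y) : x = y := by
  have h1 := congrArg (· / m) h
  simp only [cAct_div hm] at h1
  have hb := hg.2 _ _ (block_lt hm hx) (block_lt hm hy) h1
  have h2 := congrArg (· % m) h
  simp only [cAct_mod, hb] at h2
  have h3 : x % m = y % m := Nat.ModEq.add_left_cancel' _ h2
  calc x = m * (x / m) + x % m := (Nat.div_add_mod x m).symm
    _ = m * (y / m) + y % m := by rw [hb, h3]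
    _ = y := Nat.div_add_mod y m

theorem getField_cMul (hm : 0 < m) (hn : m * n ≤ 2 ^ w) {p q i : ℕ} (hp : COk w m n p)
    (hq : COk w m n q) (hi : i < n) : getField w (cMul w m n p q) i = cAct w m p (getField w q i) :=
  getField_pack w n _ (fun j hj => lt_of_lt_of_le (cAct_lt hm hp (hq.1 j hj)) hn) hi

theorem getField_cId (hm : 0 < m) (hn : m * n ≤ 2 ^ w) {i : ℕ} (hi : i < n) :
    getField w (cId w m n) i = m * i :=
  getField_pack w n _ (fun _ hj => lt_of_lt_of_le (Nat.mul_lt_mul_of_pos_left hj hm) hn) hi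

theorem cAct_cMul (hm : 0 < m) (hn : m * n ≤ 2 ^ w) {p q x : ℕ} (hp : COk w m n p)
    (hq : COk w m n q) (hx : x < m * n) :
    cAct w m (cMul w m n p q) x = cAct w m p (cAct w m q x) := by
  conv_lhs => rw [cAct_eq, getField_cMul hm hn hp hq (block_lt hm hx), cAct_div hm, Nat.add_mod,
    cAct_mod, ← Nat.add_mod]
  conv_rhs => rw [cAct_eq, cAct_div hm, Nat.add_mod, cAct_mod, ← Nat.add_mod]
  rw [Nat.add_assoc]

theorem ok_cMul (hm : 0 < m) (hn : m * n ≤ 2 ^ w) {p q : ℕ} (hp : COk w m n p)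
    (hq : COk w m n q) : COk w m n (cMul w m n p q) := by
  refine ⟨fun i hi => ?_, fun i j hi hj h => ?_⟩
  · rw [getField_cMul hm hn hp hq hi]
    exact cAct_lt hm hp (hq.1 i hi)
  · rw [getField_cMul hm hn hp hq hi, getField_cMul hm hn hp hq hj, cAct_div hm, cAct_div hm] at h
    exact hq.2 i j hi hj (hp.2 _ _ (block_lt hm (hq.1 i hi)) (block_lt hm (hq.1 j hj)) h)

theorem ok_cId (hm : 0 < m) (hn : m * n ≤ 2 ^ w) : COk w m n (cId w m n) := by
  refine ⟨fun i hi => ?_, fun i j hi hj h => ?_⟩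
  · rw [getField_cId hm hn hi]
    exact Nat.mul_lt_mul_of_pos_left hi hm
  · rw [getField_cId hm hn hi, getField_cId hm hn hj, Nat.mul_div_cancel_left _ hm,
      Nat.mul_div_cancel_left _ hm] at h
    exact h

theorem ok_of_check (hm : 0 < m) {g : ℕ} (h : cOkB w m n g = true) : COk w m n g := by
  simp only [cOkB, Bool.and_eq_true, allBelow_eq_true, Nat.blt_eq, Nat.beq_eq] at h
  obtain ⟨h1, h2⟩ := h
  refine ⟨h1, fun i j hi hj hij => ?_⟩
  let f : Fin n → Fin n := fun i => ⟨getField w g i / m, block_lt hm (h1 i i.2)⟩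
  have hs : Function.Surjective f := fun y => by
    obtain ⟨k, hk, hg⟩ := testBit_orFields (fun k => getField w g k / m) n y (by
      rw [show (Nat.rec (motive := fun _ => ℕ) 0
          (fun k r => Nat.lor r (Nat.shiftLeft 1 (getField w g k / m))) n) = _ from h2,
        show (Nat.sub (Nat.shiftLeft 1 n) 1) = 2 ^ n - 1 by rw [← Nat.one_shiftLeft]; rfl,
        Nat.testBit_two_pow_sub_one]
      simpa using y.2)
    exact ⟨⟨k, hk⟩, Fin.ext hg⟩
  exact congrArg Fin.val (Finite.injective_iff_surjective.mpr hs (a₁ := ⟨i, hi⟩) (a₂ := ⟨j, hj⟩) (Fin.ext hij))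

open Classical in
/-- The permutation of a code. -/
noncomputable def cDen (w m n N g : ℕ) (hm : 0 < m) (hN : N = m * n) : Equiv.Perm (Fin N) :=
  if h : COk w m n g then
    Equiv.ofBijective (fun x : Fin N => (⟨cAct w m g x,
      lt_of_lt_of_eq (cAct_lt hm h (lt_of_lt_of_eq x.2 hN)) hN.symm⟩ : Fin N))
      (Finite.injective_iff_bijective.mp fun x y e => Fin.ext (cAct_inj hm h
        (lt_of_lt_of_eq x.2 hN) (lt_of_lt_of_eq y.2 hN) (congrArg Fin.val e)))
  else 1

theorem cDen_apply {N g : ℕ} {hm : 0 < m} {hN : N = m * n} (h : COk w m n g) (x : Fin N) :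
    (cDen w m n N g hm hN x : ℕ) = cAct w m g x := by
  rw [cDen, dif_pos h]
  rfl

/-- The representation by codes of permutations commuting with the shift. -/
noncomputable def sheetRep (w m n N : ℕ) (hN : N = m * n) (hn : m * n ≤ 2 ^ w) (hm : 0 < m)
    (hpos : 0 < N) : Rep (Equiv.Perm (Fin N)) (Fin N) where
  n := N
  one := cId w m n
  mul := cMul w m n
  act := cAct w m
  okb := cOkB w m n
  Ok := COk w m n
  den g := cDen w m n N g hm hN
  pt i := ⟨i % N, Nat.mod_lt _ hpos⟩
  okb_sound _ := ok_of_check hm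
  ok_one := ok_cId hm hn
  den_one := Equiv.ext fun x => Fin.ext (by
    rw [cDen_apply (ok_cId hm hn), Equiv.Perm.one_apply, cAct_eq,
      getField_cId hm hn (block_lt hm (lt_of_lt_of_eq x.2 hN)), Nat.mul_div_cancel_left _ hm,
      Nat.mul_add_mod, Nat.div_add_mod])
  ok_mul _ _ := ok_cMul hm hn
  den_mul g h hg hh := Equiv.ext fun x => Fin.ext (by
    rw [Equiv.Perm.mul_apply, cDen_apply (ok_cMul hm hn hg hh), cDen_apply hg, cDen_apply hh,
      cAct_cMul hm hn hg hh (lt_of_lt_of_eq x.2 hN)])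
  pt_inj i j hi hj h := by
    simpa [Nat.mod_eq_of_lt hi, Nat.mod_eq_of_lt hj] using congrArg Fin.val h
  act_lt g i hg hi := lt_of_lt_of_eq (cAct_lt hm hg (lt_of_lt_of_eq hi hN)) hN.symm
  act_spec g i hg hi := by
    apply Fin.ext
    show (cDen w m n N g hm hN _ : ℕ) = cAct w m g i % N
    rw [cDen_apply hg, Nat.mod_eq_of_lt (lt_of_lt_of_eq (cAct_lt hm hg (lt_of_lt_of_eq hi hN)) hN.symm)]
    simp [Nat.mod_eq_of_lt hi]

end Cfsg.Agent.StemCert.CyclicSheets
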