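import Cfsg.Agent.Compute.Perm

/-!
Permutations of `n` blocks of four points commuting with the Klein group acting inside the blocks,
packed by the images of the first point of each block.
-/

set_option autoImplicit false

namespace Cfsg.Agent.StemCert.Sheets

open Cfsg.Agent.Compute

/-- The image of a point. -/
noncomputable def sAct (w g x : ℕ) : ℕ := Nat.xor (getField w g (Nat.div x 4)) (Nat.mod x 4)

/-- The composition. -/
noncomputable def sMul (w n p q : ℕ) : ℕ := pack w n (fun i => sAct w p (getField w q i))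

/-- The identity. -/
noncomputable def sId (w n : ℕ) : ℕ := pack w n (fun i => Nat.mul 4 i)

/-- A valid code. -/
noncomputable def sOkB (w n g : ℕ) : Bool :=
  allBelow n (fun i => Nat.blt (getField w g i) (Nat.mul 4 n)) &&
    Nat.beq (Nat.rec (motive := fun _ => ℕ) 0
      (fun k r => Nat.lor r (Nat.shiftLeft 1 (Nat.div (getField w g k) 4))) n)
      (Nat.sub (Nat.shiftLeft 1 n) 1)

/-- A valid code, propositionally. -/
def SOk (w n g : ℕ) : Prop :=
  (∀ i, i < n → getField w g i < 4 * n) ∧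
    ∀ i j, i < n → j < n → getField w g i / 4 = getField w g j / 4 → i = j

theorem xor_small (u : ℕ) {t : ℕ} (ht : t < 4) :
    Nat.xor u t / 4 = u / 4 ∧ Nat.xor u t % 4 = Nat.xor (u % 4) t := by
  constructor
  · show (u ^^^ t) / 2 ^ 2 = u / 2 ^ 2
    rw [← Nat.shiftRight_eq_div_pow, ← Nat.shiftRight_eq_div_pow, Nat.shiftRight_xor_distrib,
      Nat.shiftRight_eq_div_pow t, Nat.div_eq_of_lt ht, Nat.xor_zero]
  · show (u ^^^ t) % 2 ^ 2 = (u % 2 ^ 2) ^^^ t
    rw [Nat.xor_mod_two_pow, Nat.mod_eq_of_lt (a := t) (show t < 2 ^ 2 from ht)]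

theorem sAct_div (w g x : ℕ) : sAct w g x / 4 = getField w g (x / 4) / 4 :=
  (xor_small _ (Nat.mod_lt _ (by norm_num))).1

theorem sAct_mod (w g x : ℕ) : sAct w g x % 4 = Nat.xor (getField w g (x / 4) % 4) (x % 4) :=
  (xor_small _ (Nat.mod_lt _ (by norm_num))).2

theorem sAct_lt {w n g x : ℕ} (hg : SOk w n g) (hx : x < 4 * n) : sAct w g x < 4 * n := by
  have h1 := sAct_div w g x
  have h2 := hg.1 (x / 4) (by omega)
  omega

theorem sAct_inj {w n g x y : ℕ} (hg : SOk w n g) (hx : x < 4 * n) (hy : y < 4 * n)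
    (h : sAct w g x = sAct w g y) : x = y := by
  have h1 := congrArg (· / 4) h
  simp only [sAct_div] at h1
  have hb := hg.2 _ _ (by omega) (by omega) h1
  have h2 := congrArg (· % 4) h
  simp only [sAct_mod, hb] at h2
  have h3 : x % 4 = y % 4 := by
    have := congrArg (fun t => getField w g (y / 4) % 4 ^^^ t) h2
    simpa [← Nat.xor_assoc] using this
  omega

theorem sAct_zero_offset (w g i : ℕ) : sAct w g (4 * i) = getField w g i := by
  unfold sAct
  show getField w g (4 * i / 4) ^^^ (4 * i % 4) = _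
  rw [Nat.mul_div_cancel_left _ (by norm_num), Nat.mul_mod_right, Nat.xor_zero]

theorem getField_sMul {w n p q i : ℕ} (hn : 4 * n ≤ 2 ^ w) (hp : SOk w n p) (hq : SOk w n q)
    (hi : i < n) : getField w (sMul w n p q) i = sAct w p (getField w q i) :=
  getField_pack w n _ (fun j hj => lt_of_lt_of_le (sAct_lt hp (hq.1 j hj)) hn) hi

theorem getField_sId {w n i : ℕ} (hn : 4 * n ≤ 2 ^ w) (hi : i < n) :
    getField w (sId w n) i = 4 * i :=
  getField_pack w n _ (fun j hj => lt_of_lt_of_le (show 4 * j < 4 * n by omega) hn) hi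

theorem sAct_sMul {w n p q x : ℕ} (hn : 4 * n ≤ 2 ^ w) (hp : SOk w n p) (hq : SOk w n q)
    (hx : x < 4 * n) : sAct w (sMul w n p q) x = sAct w p (sAct w q x) := by
  have hi : x / 4 < n := by omega
  show Nat.xor (getField w (sMul w n p q) (x / 4)) (x % 4) = sAct w p (sAct w q x)
  rw [getField_sMul hn hp hq hi]
  unfold sAct
  show _ ^^^ _ = getField w p ((getField w q (x / 4) ^^^ x % 4) / 4) ^^^
    ((getField w q (x / 4) ^^^ x % 4) % 4)
  have ht : x % 4 < 4 := Nat.mod_lt _ (by norm_num)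
  rw [show (getField w q (x / 4) ^^^ x % 4) / 4 = _ from (xor_small _ ht).1,
    show (getField w q (x / 4) ^^^ x % 4) % 4 = _ from (xor_small _ ht).2]
  exact Nat.xor_assoc _ _ _

theorem ok_sMul {w n p q : ℕ} (hn : 4 * n ≤ 2 ^ w) (hp : SOk w n p) (hq : SOk w n q) :
    SOk w n (sMul w n p q) := by
  refine ⟨fun i hi => ?_, fun i j hi hj h => ?_⟩
  · rw [getField_sMul hn hp hq hi]
    exact sAct_lt hp (hq.1 i hi)
  · rw [getField_sMul hn hp hq hi, getField_sMul hn hp hq hj, sAct_div, sAct_div] at h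
    refine hq.2 i j hi hj (hp.2 _ _ ?_ ?_ h)
    · have := hq.1 i hi
      omega
    · have := hq.1 j hj
      omega

theorem ok_sId {w n : ℕ} (hn : 4 * n ≤ 2 ^ w) : SOk w n (sId w n) := by
  refine ⟨fun i hi => ?_, fun i j hi hj h => ?_⟩
  · rw [getField_sId hn hi]
    omega
  · rw [getField_sId hn hi, getField_sId hn hj] at h
    omega

theorem ok_of_check {w n g : ℕ} (h : sOkB w n g = true) : SOk w n g := by
  simp only [sOkB, Bool.and_eq_true, allBelow_eq_true, Nat.blt_eq, Nat.beq_eq] at h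
  obtain ⟨h1, h2⟩ := h
  refine ⟨h1, fun i j hi hj hij => ?_⟩
  let f : Fin n → Fin n := fun i => ⟨getField w g i / 4, by have := h1 i i.2; show _ < n; simp only [Nat.mul_eq] at this; omega⟩
  have hs : Function.Surjective f := fun y => by
    obtain ⟨k, hk, hg⟩ := testBit_orFields (fun k => getField w g k / 4) n y (by
      rw [show (Nat.rec (motive := fun _ => ℕ) 0
          (fun k r => Nat.lor r (Nat.shiftLeft 1 (getField w g k / 4))) n) = _ from h2,
        show (Nat.sub (Nat.shiftLeft 1 n) 1) = 2 ^ n - 1 by rw [← Nat.one_shiftLeft]; rfl,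
        Nat.testBit_two_pow_sub_one]
      simpa using y.2)
    exact ⟨⟨k, hk⟩, Fin.ext hg⟩
  exact congrArg Fin.val (Finite.injective_iff_surjective.mpr hs (a₁ := ⟨i, hi⟩) (a₂ := ⟨j, hj⟩) (Fin.ext hij))

open Classical in
/-- The permutation of a code. -/
noncomputable def sDen (w n N g : ℕ) (hN : N = 4 * n) : Equiv.Perm (Fin N) :=
  if h : SOk w n g then
    Equiv.ofBijective (fun x : Fin N => (⟨sAct w g x, by
      have h1 := sAct_lt h (show (x : ℕ) < 4 * n from hN ▸ x.2)
      omega⟩ : Fin N))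
      (Finite.injective_iff_bijective.mp fun x y e =>
        Fin.ext (sAct_inj h (by omega) (by omega) (congrArg Fin.val e)))
  else 1

theorem sDen_apply {w n N g : ℕ} {hN : N = 4 * n} (h : SOk w n g) (x : Fin N) :
    (sDen w n N g hN x : ℕ) = sAct w g x := by
  rw [sDen, dif_pos h]
  rfl

/-- The representation by codes of four-sheet permutations. -/
noncomputable def sheetRep (w n N : ℕ) (hN : N = 4 * n) (hn : 4 * n ≤ 2 ^ w) (hpos : 0 < N) :
    Rep (Equiv.Perm (Fin N)) (Fin N) where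
  n := N
  one := sId w n
  mul := sMul w n
  act := sAct w
  okb := sOkB w n
  Ok := SOk w n
  den g := sDen w n N g hN
  pt i := ⟨i % N, Nat.mod_lt _ hpos⟩
  okb_sound _ := ok_of_check
  ok_one := ok_sId hn
  den_one := Equiv.ext fun x => Fin.ext (by
    have hx := x.2
    rw [sDen_apply (ok_sId hn), Equiv.Perm.one_apply]
    show Nat.xor (getField w (sId w n) (x / 4)) (x % 4) = _
    rw [getField_sId hn (by omega)]
    show 4 * ((x : ℕ) / 4) ^^^ ((x : ℕ) % 4) = x
    have hd := xor_small (4 * ((x : ℕ) / 4)) (Nat.mod_lt x (show 4 > 0 by norm_num))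
    simp only [Nat.mul_div_cancel_left _ (show 0 < 4 by norm_num), Nat.mul_mod_right] at hd
    have h0 : Nat.xor 0 ((x : ℕ) % 4) = (x : ℕ) % 4 := Nat.zero_xor _
    have e : (4 * ((x : ℕ) / 4)).xor ((x : ℕ) % 4) = 4 * ((x : ℕ) / 4) ^^^ ((x : ℕ) % 4) := rfl
    rw [h0, e] at hd
    omega)
  ok_mul _ _ := ok_sMul hn
  den_mul g h hg hh := Equiv.ext fun x => Fin.ext (by
    rw [Equiv.Perm.mul_apply, sDen_apply (ok_sMul hn hg hh), sDen_apply hg, sDen_apply hh,
      sAct_sMul hn hg hh (show (x : ℕ) < 4 * n by omega)])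
  pt_inj i j hi hj h := by
    simpa [Nat.mod_eq_of_lt hi, Nat.mod_eq_of_lt hj] using congrArg Fin.val h
  act_lt g i hg hi := by
    have h1 := sAct_lt hg (show i < 4 * n by omega)
    omega
  act_spec g i hg hi := by
    apply Fin.ext
    show (sDen w n N g hN _ : ℕ) = sAct w g i % N
    rw [sDen_apply hg, Nat.mod_eq_of_lt (show sAct w g i < N by
      have h1 := sAct_lt hg (show i < 4 * n by omega)
      omega)]
    simp [Nat.mod_eq_of_lt hi]

end Cfsg.Agent.StemCert.Sheets
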