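import Cfsg.Agent.StemCert.Packed
import Cfsg.Agent.StemCert.Perm

/-!
Checkable data showing that a transitive group with a point stabiliser of trivial multiplier has
trivial multiplier: the values of a cocycle with values in the kernel, one for each generator and
point, satisfy linear equations modulo the number of points that force all of them to vanish.
-/

set_option autoImplicit false

namespace Cfsg.Agent.StemCert

open Cfsg.Agent.Compute

/-- The data. -/
structure SplitData where
  /-- The number of points. -/
  n : ℕ
  /-- The number of generators. -/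
  k : ℕ
  /-- The field width of the codes. -/
  w : ℕ
  /-- The distinguished point. -/
  i0 : ℕ
  /-- The generators. -/
  codes : List ℕ
  /-- Their inverses. -/
  invs : List ℕ
  /-- A word carrying the distinguished point to each point. -/
  words : List (List ℕ)
  /-- Relators. -/
  rels : List (List ℕ)
  /-- Each generator as a product of commutators. -/
  comms : List (List (ℕ × ℕ))
  /-- The equations: `(0, s, j)` tree, `(1, r, j)` relator, `(2, s, j)` commutators. -/
  eqs : List (ℕ × ℕ × ℕ)
  /-- The packed equations. -/
  packs : List ℕ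
  /-- For each unknown a combination of equations. -/
  combos : List (List ℕ)
  /-- The unknown generating all values. -/
  piv : ℕ := 0
  /-- Its order. -/
  ord : ℕ := 1
  /-- The multiples of the generating unknown; all zero if empty. -/
  cvs : List ℕ := []
  /-- The combination giving the order. -/
  ordCombo : List ℕ := []

variable (S : SplitData)

/-- The image of a point under a generator. -/
noncomputable def SplitData.img (s x : ℕ) : ℕ := getField S.w (S.codes.getD s 0) x

/-- The preimage of a point under a generator. -/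
noncomputable def SplitData.pre (s x : ℕ) : ℕ := getField S.w (S.invs.getD s 0) x

/-- The image of a point under a product of commutators. -/
noncomputable def SplitData.cimg (l : List (ℕ × ℕ)) (x : ℕ) : ℕ :=
  List.rec (motive := fun _ => ℕ) x
    (fun p _ y => S.img p.1 (S.img p.2 (S.pre p.1 (S.pre p.2 y)))) l

/-- The index of an unknown. -/
noncomputable def SplitData.idx (s j : ℕ) : ℕ := Nat.add (Nat.mul s S.n) j

/-- The unknowns met by a word at a point. -/
noncomputable def SplitData.path (wd : List ℕ) (x : ℕ) : List (ℕ × ℕ) :=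
  List.rec (motive := fun _ => List (ℕ × ℕ)) []
    (fun s rest r => (1, S.idx s (appW S.w S.codes rest x)) :: r) wd

/-- The unknowns met by a product of commutators at a point, modulo `n`. -/
noncomputable def SplitData.cpath (l : List (ℕ × ℕ)) (x : ℕ) : List (ℕ × ℕ) :=
  List.rec (motive := fun _ => List (ℕ × ℕ)) []
    (fun p rest r =>
      (1, S.idx p.1 (S.img p.2 (S.pre p.1 (S.pre p.2 (S.cimg rest x))))) ::
      (1, S.idx p.2 (S.pre p.1 (S.pre p.2 (S.cimg rest x)))) ::
      (S.n - 1, S.idx p.1 (S.pre p.1 (S.pre p.2 (S.cimg rest x)))) ::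
      (S.n - 1, S.idx p.2 (S.pre p.2 (S.cimg rest x))) :: r) l

/-- The negative of a term list, modulo `n`. -/
noncomputable def SplitData.neg (l : List (ℕ × ℕ)) : List (ℕ × ℕ) :=
  List.rec (motive := fun _ => List (ℕ × ℕ)) []
    (fun t _ r => (Nat.mul (S.n - 1) t.1, t.2) :: r) l

/-- The terms of an equation. -/
noncomputable def SplitData.terms (e : ℕ × ℕ × ℕ) : List (ℕ × ℕ) :=
  cond (Nat.beq e.1 0) [(1, S.idx e.2.1 e.2.2)]
    (cond (Nat.beq e.1 1)
      (S.path (S.rels.getD e.2.1 []) e.2.2 ++ S.neg (S.path (S.rels.getD e.2.1 []) S.i0))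
      ((1, S.idx e.2.1 e.2.2) :: S.neg (S.cpath (S.comms.getD e.2.1 []) e.2.2)))

/-- The side conditions of an equation. -/
noncomputable def SplitData.side (e : ℕ × ℕ × ℕ) : Bool :=
  Nat.blt e.2.2 S.n &&
  cond (Nat.beq e.1 0)
    (Nat.blt e.2.1 S.k &&
      natsEq (e.2.1 :: S.words.getD e.2.2 []) (S.words.getD (S.img e.2.1 e.2.2) []))
    (cond (Nat.beq e.1 1) (Nat.blt e.2.1 S.rels.length) (Nat.blt e.2.1 S.k))

/-- A packed term list. -/
noncomputable def packT (l : List (ℕ × ℕ)) : ℕ :=
  List.rec (motive := fun _ => ℕ) 0 (fun t _ r => Nat.add (Nat.mul t.1 (punit t.2)) r) l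

/-- The total of the coefficients. -/
noncomputable def coefSum (l : List (ℕ × ℕ)) : ℕ :=
  List.rec (motive := fun _ => ℕ) 0 (fun t _ r => Nat.add t.1 r) l

/-- An equation is well formed and correctly packed. -/
noncomputable def SplitData.eqOK (e : ℕ × ℕ × ℕ) (P : ℕ) : Bool :=
  S.side e && allB (fun t => Nat.blt t.2 (Nat.mul S.k S.n)) (S.terms e) &&
    Nat.ble (coefSum (S.terms e)) 1048576 && Nat.beq (packT (S.terms e)) P

/-- All equations are well formed. -/
noncomputable def SplitData.eqsOK (es : List (ℕ × ℕ × ℕ)) : List ℕ → Bool :=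
  List.rec (motive := fun _ => List ℕ → Bool)
    (fun PS => List.rec (motive := fun _ => Bool) true (fun _ _ _ => false) PS)
    (fun e _ rec PS => List.rec (motive := fun _ => Bool) false
      (fun P PS' _ => S.eqOK e P && rec PS') PS) es

/-- A combination of packed equations. -/
noncomputable def pmix (ds : List ℕ) : List ℕ → ℕ :=
  List.rec (motive := fun _ => List ℕ → ℕ) (fun _ => 0)
    (fun d _ rec PS => List.rec (motive := fun _ => ℕ) 0
      (fun P PS' _ => Nat.add (Nat.mul d P) (rec PS')) PS) ds

/-- An unknown is shown to vanish. -/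
noncomputable def SplitData.varOK (v : ℕ) : Bool :=
  allB (fun d => Nat.ble d S.n) (S.combos.getD v []) && Nat.ble (S.cvs.getD v 0) S.n &&
    peq S.n (Nat.mul S.k S.n) (pmix (S.combos.getD v []) S.packs)
      (Nat.add (punit v) (Nat.mul (Nat.sub S.n (S.cvs.getD v 0)) (punit S.piv)))

/-- The order of the generating unknown. -/
noncomputable def SplitData.ordOK : Bool :=
  Nat.blt S.piv (Nat.mul S.k S.n) &&
    ((List.rec (motive := fun _ => Bool) true (fun _ _ _ => false) S.cvs && Nat.beq S.ord 1) ||
      (allB (fun d => Nat.ble d S.n) S.ordCombo && Nat.ble S.ord S.n &&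
        peq S.n (Nat.mul S.k S.n) (pmix S.ordCombo S.packs) (Nat.mul S.ord (punit S.piv))))

/-- The words, inverses, relators and commutator products are correct. -/
noncomputable def SplitData.shapeOK : Bool :=
  Nat.blt S.i0 S.n && Nat.beq S.words.length S.n &&
    Nat.blt (Nat.mul S.packs.length (Nat.mul S.n 1048576)) 4611686018427387904 &&
    Nat.blt S.n 1048576 &&
    allBelow S.n (fun j => allB (fun s => Nat.blt s S.k) (S.words.getD j []) &&
      Nat.beq (appW S.w S.codes (S.words.getD j []) S.i0) j) &&
    allBelow S.k (fun s => allBelow S.n fun x => Nat.beq (S.pre s (S.img s x)) x) &&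
    allB (fun r => allB (fun s => Nat.blt s S.k) r &&
      allBelow S.n fun x => Nat.beq (appW S.w S.codes r x) x) S.rels &&
    allBelow S.k (fun s => allB (fun p => Nat.blt p.1 S.k && Nat.blt p.2 S.k) (S.comms.getD s []) &&
      allBelow S.n fun x => Nat.beq (S.img s x) (S.cimg (S.comms.getD s []) x))

/-- All checks. -/
structure SplitData.Valid : Prop where
  shape : S.shapeOK = true
  eqs : S.eqsOK S.eqs S.packs = true
  vars : allBelow (Nat.mul S.k S.n) S.varOK = true
  order : S.ordOK = true

end Cfsg.Agent.StemCert
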